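import Cfsg.Agent.MaxClassEssential.CentralizerCase

/-!
# The abelian case

With an eigen-frame, `T` is a trivial-intersection subgroup and transfer makes the whole flag
invariant, so `T` is normal.
-/

set_option autoImplicit false
set_option linter.style.haveILetI false
set_option maxHeartbeats 800000

namespace CfsgLib.MaxClassEssential

variable {p : ℕ} [hp : Fact p.Prime] {X : Type*} [Group X] [Finite X] {V : Type*}
  [AddCommGroup V] [Module (ZMod p) V] [Finite V] {ρ : X →* Module.End (ZMod p) V}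
  {T : Sylow p X} {x y : X} {A : Module.End (ZMod p) V} {d j : ℕ}

/-- A `p`-element normalising a Sylow subgroup lies in it. -/
theorem mem_sylow_of_normalizer (T : Sylow p X) {c : X} {e : ℕ} (he : c ^ p ^ e = 1)
    (hc : c ∈ Subgroup.normalizer ((T : Subgroup X) : Set X)) : c ∈ (T : Subgroup X) := by
  have hp' : IsPGroup p (Subgroup.zpowers c) := by
    obtain ⟨k, -, hk⟩ := (Nat.dvd_prime_pow hp.out).1 (orderOf_dvd_of_pow_eq_one he)
    exact IsPGroup.of_card (n := k) (by rw [Nat.card_zpowers, hk])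
  have h2 := hp'.to_sup_of_normal_right' T.isPGroup' (Subgroup.zpowers_le.2 hc)
  exact (T.is_maximal' h2 le_sup_right) ▸ Subgroup.mem_sup_left (Subgroup.mem_zpowers c)

namespace WeightFrame

variable (h : WeightFrame ρ T x y A d j)
include h

theorem mem_normalizer_of_ti (hinj : Function.Injective ρ) {g t : X} (ht : t ∈ (T : Subgroup X))
    (ht1 : t ≠ 1) (hg : g⁻¹ * t * g ∈ (T : Subgroup X)) :
    g ∈ Subgroup.normalizer ((T : Subgroup X) : Set X) := by
  rcases h.normalizer_or_pow hinj ht hg with hn | ⟨hty, hgy⟩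
  · exact hn
  haveI : Fact (orderOf y).Prime := ⟨by rw [h.orderOf_y hinj]; exact hp.out⟩
  -- `y` is a power of `t`
  have hyt : y ∈ Subgroup.zpowers t := by
    have hle : Subgroup.zpowers t ≤ Subgroup.zpowers y := Subgroup.zpowers_le.2 hty
    have heq : Subgroup.zpowers t = Subgroup.zpowers y := by
      refine Subgroup.eq_of_le_of_card_ge hle ?_
      rw [Nat.card_zpowers, Nat.card_zpowers, h.orderOf_y hinj]
      refine Nat.le_of_dvd (orderOf_pos t) ?_
      have hdvd : orderOf t ∣ p := orderOf_dvd_of_pow_eq_one (h.pow_p hinj (by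
        rw [h.flagShift_eq hinj]; exact ht))
      rcases (Nat.dvd_prime hp.out).1 hdvd with h1 | h1
      · exact absurd (orderOf_eq_one_iff.1 h1) ht1
      · rw [h1]
    rw [heq]
    exact Subgroup.mem_zpowers y
  obtain ⟨k, hk⟩ := Subgroup.mem_zpowers_iff.1 hyt
  obtain ⟨l, hl⟩ := Subgroup.mem_zpowers_iff.1 hgy
  have hgyg : g⁻¹ * y * g = y ^ (l * k) := by
    rw [zpow_mul, hl, ← hk]
    simpa using (MulAut.conj g⁻¹).toMonoidHom.map_zpow t k
  refine Subgroup.mem_normalizer_fintype fun c hc => ?_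
  have hcy : (g * c * g⁻¹) * y = y * (g * c * g⁻¹) := by
    have h1 : y = g * y ^ (l * k) * g⁻¹ := by rw [← hgyg]; group
    have h2 : c * y ^ (l * k) = y ^ (l * k) * c :=
      ((show Commute c y from h.comm c hc y h.mem_y).zpow_right _).eq
    rw [h1]
    calc g * c * g⁻¹ * (g * y ^ (l * k) * g⁻¹) = g * (c * y ^ (l * k)) * g⁻¹ := by group
      _ = g * (y ^ (l * k) * c) * g⁻¹ := by rw [h2]
      _ = g * y ^ (l * k) * g⁻¹ * (g * c * g⁻¹) := by group
  refine mem_sylow_of_normalizer T (e := 1) ?_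
    (h.mem_normalizer_of_flag hinj (h.centralizer_invariant hinj hcy))
  rw [pow_one, conj_pow, h.pow_p hinj (by rw [h.flagShift_eq hinj]; exact hc), mul_one,
    mul_inv_cancel]

/-- No eigen-frame exists if `X` has no nontrivial normal `p`-subgroup. -/
theorem false_of_frame (hinj : Function.Injective ρ)
    (hO : ∀ N : Subgroup X, N.Normal → IsPGroup p N → N = ⊥) : False := by
  classical
  have hd := h.two_mul_lt
  have hj := h.two_le
  have hdp := h.d_lt
  have hs : Shifts ρ A x y j := by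
    simpa using h.shifts (MonoidHom.id X) (fun a b e => e) rfl rfl
  have hsum : ∀ (f : X → ZMod p) [Fintype (T : Subgroup X)],
      ∑ t : (T : Subgroup X), f t =
        ∑ a ∈ Finset.range p, ∑ b ∈ Finset.range p, f (y ^ b * x ^ a) := by
    intro f _
    rw [← Fin.sum_univ_eq_sum_range (fun a => ∑ b ∈ Finset.range p, f (y ^ b * x ^ a))]
    simp only [← Fin.sum_univ_eq_sum_range (fun b => f (y ^ b * x ^ _))]
    rw [← Fintype.sum_prod_type']
    symm
    refine Fintype.sum_bijective _ h.bij _ _ fun ab => congrArg f ?_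
    exact (h.comm _ (pow_mem h.mem_x _) _ (pow_mem h.mem_y _)).symm
  have transfer : ∀ (w : X → ZMod p) (m : ℕ), m ≤ (p - 1) * (1 + j) → TransDeg x y j m w →
      (∀ n ∈ Subgroup.normalizer ((T : Subgroup X) : Set X), ∀ k, w (n * k) = w k) →
      ∀ k, w k = w 1 := by
    intro w m hm hw hinv k
    letI : Fintype (T : Subgroup X) := Fintype.ofFinite _
    refine eq_of_transfer T (P := (T : Subgroup X)) le_rfl w hinv (fun a ha t ht hat => ?_)
      (fun a _ k => ?_) k
    · by_contra ht1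
      exact ha (h.mem_normalizer_of_ti hinj ht ht1 hat)
    · rw [hsum fun t => w (a⁻¹ * (t * k))]
      simp only [mul_assoc]
      exact sum_shift_eq_zero' (hw a⁻¹) hm k
  choose μ hμ0 hμA hμw _ using h.weight
  have hpair : ∀ n (hn : n ∈ Subgroup.normalizer ((T : Subgroup X) : Set X))
      (ψ : V →ₗ[ZMod p] ZMod p) (u : V) (i : ℕ) (k : X),
      μ n hn ^ i * ψ (ρ (n * k)⁻¹ ((A ^ i) (ρ (n * k) u))) = ψ (ρ k⁻¹ ((A ^ i) (ρ k u))) := by
    intro n hn ψ u i k
    have hpow : ρ n * A ^ i = μ n hn ^ i • (A ^ i * ρ n) := by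
      induction i with
      | zero => simp
      | succ i ih =>
        rw [pow_succ, ← mul_assoc, ih, smul_mul_assoc, mul_assoc, hμA n hn, mul_smul_comm, smul_smul,
          ← mul_assoc, pow_succ]
    have h2 : ρ n⁻¹ * ρ n = 1 := by rw [← map_mul, inv_mul_cancel, map_one]
    rw [← smul_eq_mul, ← map_smul, ← map_smul, mul_inv_rev, map_mul ρ, map_mul ρ, Module.End.mul_apply,
      Module.End.mul_apply]
    congr 2
    rw [← Module.End.mul_apply (f := A ^ i), ← LinearMap.smul_apply, ← hpow, Module.End.mul_apply,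
      ← Module.End.mul_apply, h2, Module.End.one_apply]
  obtain ⟨v₀, B, hB, hrange⟩ := h.reg.exists_basis
  have hinv0 : InvIdx ρ A 0 := fun g v _ => ⟨ρ g v, by simp⟩
  have hinvd : InvIdx ρ A d := fun g v hv => by
    rw [h.reg.pow_eq_zero_iff.2 le_rfl, LinearMap.range_zero, Submodule.mem_bot] at hv ⊢
    rw [hv, map_zero]
  -- one step: `Inv i` gives `Inv (i + 1)` and `Inv (j + 1 + i)`
  have step : ∀ i, i + j + 2 ≤ d → InvIdx ρ A i → InvIdx ρ A (i + 1) ∧ InvIdx ρ A (j + 1 + i) := by
    intro i hi hIi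
    have hid : i < d := by omega
    set φ := B.coord ⟨i, hid⟩ with hφ
    have hφd : ∀ v ∈ LinearMap.range (A ^ d), φ v = 0 := fun v hv =>
      (hrange d v).1 hv ⟨i, hid⟩ hid
    have key : ∀ u ∈ LinearMap.range (A ^ i), ∀ (w : V) (ψ : V →ₗ[ZMod p] ZMod p) (g : X),
        φ (ρ g u) * ψ (ρ g⁻¹ ((A ^ (j + 1 + i)) (ρ g w))) = φ u * ψ ((A ^ (j + 1 + i)) w) := by
      intro u hu w ψ g
      have hψd : ∀ v ∈ LinearMap.range (A ^ d), ψ v = 0 := fun v hv => by
        rw [h.reg.pow_eq_zero_iff.2 le_rfl, LinearMap.range_zero, Submodule.mem_bot] at hv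
        rw [hv, map_zero]
      have hdeg : (d - i) + (2 * d - 1) ≤ (p - 1) * (1 + j) + 1 := by
        have := Nat.mul_le_mul_left (p - 1) (show 3 ≤ 1 + j by omega)
        omega
      have hw := transfer ((fun k => φ (ρ k u)) * fun k => ψ (ρ k⁻¹ ((A ^ (j + 1 + i)) (ρ k w))))
        ((p - 1) * (1 + j)) le_rfl ((hs.transDeg_vec hid.le hIi hinvd hu hφd).mul hs.comm
          (hs.transDeg_pair h.reg (Nat.zero_le d) (k := 2 * d - 1) (by omega) hinv0 hinvd
            (u := w) ⟨w, by simp⟩ hψd (j + 1 + i)) hdeg) ?_ g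
      · simpa using hw
      intro n hn k
      simp only [Pi.mul_apply]
      have h1 : φ (ρ (n * k) u) = μ n hn ^ (j + 1 + i) * φ (ρ k u) := by
        rw [map_mul, Module.End.mul_apply, ← sub_eq_zero, ← smul_eq_mul, ← map_smul, ← map_sub]
        exact (hrange _ _).1 (hμw n hn i _ (hIi k u hu)) ⟨i, hid⟩ (Nat.lt_succ_self i)
      rw [h1, ← hpair n hn ψ w (j + 1 + i) k]
      ring
    have hki : j + 1 + i < d := by omega
    have hval : φ ((A ^ i) v₀) = 1 := by
      rw [hφ, ← hB ⟨i, hid⟩, Module.Basis.coord_apply, B.repr_self, Finsupp.single_eq_same]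
    have hval' : B.coord ⟨j + 1 + i, hki⟩ ((A ^ (j + 1 + i)) v₀) = 1 := by
      rw [← hB ⟨j + 1 + i, hki⟩, Module.Basis.coord_apply, B.repr_self, Finsupp.single_eq_same]
    constructor
    · intro g v hv
      have hvi := range_pow_mono (Nat.le_succ i) hv
      have h0 := key _ ⟨v₀, rfl⟩ v₀ (B.coord ⟨j + 1 + i, hki⟩) g
      rw [hval, hval', mul_one] at h0
      have h1 := key v hvi v₀ (B.coord ⟨j + 1 + i, hki⟩) g
      rw [show φ v = 0 from (hrange _ v).1 hv ⟨i, hid⟩ (Nat.lt_succ_self i), zero_mul,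
        mul_eq_zero] at h1
      have h2 : φ (ρ g v) = 0 := h1.resolve_right fun e => by
        rw [e, mul_zero] at h0
        exact zero_ne_one h0
      refine (hrange _ _).2 fun k hk => ?_
      rcases lt_or_eq_of_le (Nat.lt_succ_iff.1 hk) with hlt | heq
      · exact (hrange i _).1 (hIi g v hvi) k hlt
      · obtain rfl : k = ⟨i, hid⟩ := Fin.ext heq
        exact h2
    · intro g v hv
      obtain ⟨w, rfl⟩ := hv
      have h1 : φ (ρ g ((A ^ i) v₀)) • ρ g⁻¹ ((A ^ (j + 1 + i)) (ρ g w)) =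
          (A ^ (j + 1 + i)) w := by
        rw [← sub_eq_zero]
        have h2 := exists_smul_of_sep h.reg le_rfl (v := φ (ρ g ((A ^ i) v₀)) •
            ρ g⁻¹ ((A ^ (j + 1 + i)) (ρ g w)) - (A ^ (j + 1 + i)) w) fun ψ _ => by
          rw [map_sub, map_smul, smul_eq_mul, key _ ⟨v₀, rfl⟩ w ψ g, hval, one_mul, sub_self]
        rwa [h.reg.pow_eq_zero_iff.2 le_rfl, LinearMap.range_zero, Submodule.mem_bot] at h2
      have hgg : ρ g * ρ g⁻¹ = 1 := by rw [← map_mul, mul_inv_cancel, map_one]
      rw [← h1, map_smul, ← Module.End.mul_apply (f := ρ g) (g := ρ g⁻¹), hgg, Module.End.one_apply]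
      exact Submodule.smul_mem _ _ ⟨_, rfl⟩
  have hlowinv : ∀ i, i + j + 1 ≤ d → InvIdx ρ A i := by
    intro i
    induction i with
    | zero => exact fun _ => hinv0
    | succ i ih => exact fun hi => (step i (by omega) (ih (by omega))).1
  have hall : ∀ i, InvIdx ρ A i := by
    intro i
    rcases le_or_gt (i + j + 1) d with hi | hi
    · exact hlowinv i hi
    rcases lt_or_ge i d with hid | hid
    · have := (step (i - (j + 1)) (by omega) (hlowinv _ (by omega))).2
      rwa [show j + 1 + (i - (j + 1)) = i by omega] at this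
    · intro g v hv
      rw [h.reg.pow_eq_zero_iff.2 hid, LinearMap.range_zero, Submodule.mem_bot] at hv ⊢
      rw [hv, map_zero]
  have hnorm : (T : Subgroup X).Normal := Subgroup.normalizer_eq_top_iff.1
    (eq_top_iff.2 fun g _ => h.mem_normalizer_of_flag hinj fun i v hv => hall i g v hv)
  have hbot := hO _ hnorm T.isPGroup'
  have h1 : x = 1 := Subgroup.mem_bot.1 (hbot ▸ h.mem_x)
  have h2 := h.orderOf_x hinj
  rw [h1, orderOf_one] at h2
  exact hp.out.ne_one h2.symm

end WeightFrame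

end CfsgLib.MaxClassEssential
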