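import Cfsg.Agent.MaxClassEssential.FlagFunctions

/-!
# The flag of an abelian Sylow subgroup with an eigen-frame

The Sylow subgroup is the stabiliser of the layers of the flag, so whatever preserves the flag
normalises it; in particular an element conjugating a regular element of `T` into `T` normalises `T`.
-/

set_option autoImplicit false
set_option linter.style.haveILetI false
set_option maxHeartbeats 400000

namespace CfsgLib.MaxClassEssential

open Polynomial

section Kernel

variable {F : Type*} [Field F] {G : Type*} [Group G] [Finite G] {V : Type*} [AddCommGroup V]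
  [Module F V]

/-- The elements shifting the flag by at least `s`. -/
def flagShift (ρ : G →* Module.End F V) (A : Module.End F V) (s : ℕ) : Subgroup G :=
  let H : Submonoid G :=
    { carrier := {g | ∀ i, ∀ v ∈ LinearMap.range (A ^ i), (ρ g - 1) v ∈ LinearMap.range (A ^ (i + s))}
      one_mem' := fun i v _ => by simp
      mul_mem' := fun {a b} ha hb i v hv => by
        have h1 := hb i v hv
        have hbv : ρ b v ∈ LinearMap.range (A ^ i) := by
          have := add_mem (range_pow_mono (Nat.le_add_right i s) h1) hv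
          rwa [LinearMap.sub_apply, Module.End.one_apply, sub_add_cancel] at this
        have := add_mem (ha i _ hbv) h1
        rw [map_mul]
        simpa using this }
  { H with
    inv_mem' := fun {a} ha => by
      rw [inv_eq_of_mul_eq_one_left (a := a ^ (orderOf a - 1)) (b := a) (by
        rw [← pow_succ, Nat.sub_add_cancel (orderOf_pos a), pow_orderOf_eq_one])]
      exact H.pow_mem ha _ }

theorem mem_flagShift {ρ : G →* Module.End F V} {A : Module.End F V} {s : ℕ} {g : G} :
    g ∈ flagShift ρ A s ↔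
      ∀ i, ∀ v ∈ LinearMap.range (A ^ i), (ρ g - 1) v ∈ LinearMap.range (A ^ (i + s)) := Iff.rfl

theorem flag_inv_of_flag {ρ : G →* Module.End F V} {A : Module.End F V} {g : G}
    (hg : ∀ i, ∀ v ∈ LinearMap.range (A ^ i), ρ g v ∈ LinearMap.range (A ^ i)) :
    ∀ i, ∀ v ∈ LinearMap.range (A ^ i), ρ g⁻¹ v ∈ LinearMap.range (A ^ i) := by
  intro i v hv
  rw [inv_eq_of_mul_eq_one_left (a := g ^ (orderOf g - 1)) (b := g) (by
    rw [← pow_succ, Nat.sub_add_cancel (orderOf_pos g), pow_orderOf_eq_one]), map_pow]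
  generalize orderOf g - 1 = k
  induction k with
  | zero => simpa using hv
  | succ k ih => rw [pow_succ', Module.End.mul_apply]; exact hg i _ ih

end Kernel

variable {p : ℕ} [hp : Fact p.Prime] {X : Type*} [Group X] [Finite X] {V : Type*}
  [AddCommGroup V] [Module (ZMod p) V] [Finite V] {ρ : X →* Module.End (ZMod p) V}
  {T : Sylow p X} {x y : X} {A : Module.End (ZMod p) V} {d j : ℕ}

omit [Finite X] [Finite V] in
theorem IsRegNil.exists_aeval_unit {N : Module.End (ZMod p) V} (h : IsRegNil N d)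
    {U : Module.End (ZMod p) V} (hU : IsUnit U) (hc : N * U = U * N) :
    ∃ f : (ZMod p)[X], f.coeff 0 ≠ 0 ∧ U = Polynomial.aeval N f := by
  obtain ⟨f, hf⟩ := h.exists_aeval hc.symm
  refine ⟨f, fun h0 => ?_, hf⟩
  obtain ⟨g, hg⟩ := Polynomial.X_dvd_iff.2 h0
  have h1 := hU.pow d
  rw [hf, ← map_pow, hg, mul_pow, map_mul, map_pow, Polynomial.aeval_X, h.pow_eq_zero, zero_mul,
    isUnit_zero_iff] at h1
  exact h.pow_pred_ne (by rw [← mul_one (N ^ (d - 1)), ← h1, mul_zero])

omit [Finite X] [Finite V] in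
theorem range_pow_mul_of_isUnit {U : Module.End (ZMod p) V} (hU : IsUnit U) (hc : A * U = U * A)
    (i : ℕ) : LinearMap.range ((A * U) ^ i) = LinearMap.range (A ^ i) := by
  rw [(show Commute A U from hc).mul_pow, Module.End.mul_eq_comp,
    LinearMap.range_comp_of_range_eq_top]
  rw [LinearMap.range_eq_top]
  exact ((Module.End.isUnit_iff _).1 (hU.pow i)).2

omit [Finite X] [Finite V] in
theorem commute_aeval (A : Module.End (ZMod p) V) (P : (ZMod p)[X]) :
    A * Polynomial.aeval A P = Polynomial.aeval A P * A := by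
  have := congrArg (Polynomial.aeval (R := ZMod p) A) (mul_comm Polynomial.X P)
  rwa [map_mul, map_mul, Polynomial.aeval_X] at this

namespace WeightFrame

variable (h : WeightFrame ρ T x y A d j)
include h

theorem finrank_eq : Module.finrank (ZMod p) V = d := by
  haveI : Module.Finite (ZMod p) V := Module.Finite.of_finite
  obtain ⟨v₀, b, -⟩ := h.reg.exists_basis
  rw [Module.finrank_eq_card_basis b, Fintype.card_fin]

theorem pow_p {t : X} (hinj : Function.Injective ρ) (ht : t ∈ flagShift ρ A 1) : t ^ p = 1 := by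
  have h1 : (ρ t - 1) ^ p = 0 := LinearMap.ext fun v => by
    have h2 := pow_shift (mem_flagShift.1 ht) p 0 v ⟨v, by simp⟩
    rw [h.reg.pow_eq_zero_iff.2 (by have := h.d_lt; omega), LinearMap.range_zero,
      Submodule.mem_bot] at h2
    exact h2
  have := pow_eq_one_of_sub_one_pow ρ hinj (g := t) (e := 1) (by rwa [pow_one])
  rwa [pow_one] at this

theorem x_mem_flag : x ∈ flagShift ρ A 1 := by
  obtain ⟨U, -, hc, hx⟩ := h.unitx
  rintro i _ ⟨w, rfl⟩
  rw [hx, ← Module.End.mul_apply, mul_assoc, ← ((show Commute A U from hc).pow_left i).eq,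
    ← mul_assoc, ← pow_succ', Module.End.mul_apply]
  exact ⟨_, rfl⟩

theorem y_mem_flag : y ∈ flagShift ρ A j := by
  obtain ⟨U, -, hc, hy⟩ := h.unity
  rintro i _ ⟨w, rfl⟩
  rw [hy, ← Module.End.mul_apply, mul_assoc, ← ((show Commute A U from hc).pow_left i).eq,
    ← mul_assoc, ← pow_add, add_comm j i, Module.End.mul_apply]
  exact ⟨_, rfl⟩

theorem flag_mono {g : X} (hg : g ∈ flagShift ρ A j) : g ∈ flagShift ρ A 1 := fun i v hv =>
  range_pow_mono (by have := h.two_le; omega) (mem_flagShift.1 hg i v hv)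

/-- `T` is the kernel of the action on the layers. -/
theorem flagShift_eq (hinj : Function.Injective ρ) : flagShift ρ A 1 = (T : Subgroup X) := by
  refine T.is_maximal' ?_ fun t ht => ?_
  · intro g
    exact ⟨1, Subtype.ext (by rw [pow_one]; simpa using h.pow_p hinj g.2)⟩
  · obtain ⟨ab, hab⟩ := h.bij.2 ⟨t, ht⟩
    rw [← show x ^ (ab.1 : ℕ) * y ^ (ab.2 : ℕ) = t from congrArg Subtype.val hab]
    exact mul_mem (pow_mem h.x_mem_flag _) (pow_mem (h.flag_mono h.y_mem_flag) _)

/-- An element preserving the flag normalises `T`. -/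
theorem mem_normalizer_of_flag (hinj : Function.Injective ρ) {g : X}
    (hg : ∀ i, ∀ v ∈ LinearMap.range (A ^ i), ρ g v ∈ LinearMap.range (A ^ i)) :
    g ∈ Subgroup.normalizer ((T : Subgroup X) : Set X) := by
  refine Subgroup.mem_normalizer_fintype fun t ht => ?_
  have ht' : t ∈ flagShift ρ A 1 := by rw [h.flagShift_eq hinj]; exact ht
  have : g * t * g⁻¹ ∈ flagShift ρ A 1 := fun i v hv => by
    rw [map_conj_sub_one, Module.End.mul_apply, Module.End.mul_apply]
    exact hg _ _ (mem_flagShift.1 ht' _ _ (flag_inv_of_flag hg i v hv))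
  rw [h.flagShift_eq hinj] at this
  exact this

theorem exists_coord {t : X} (ht : t ∈ (T : Subgroup X)) : ∃ a b : Fin p, ∃ S : (ZMod p)[X],
    ∃ cx : ZMod p, cx ≠ 0 ∧ t = x ^ (a : ℕ) * y ^ (b : ℕ) ∧
      ρ t - 1 = Polynomial.aeval A (Polynomial.X * S) ∧ S.coeff 0 = (a : ℕ) * cx := by
  obtain ⟨ab, hab⟩ := h.bij.2 ⟨t, ht⟩
  have ht' : t = x ^ (ab.1 : ℕ) * y ^ (ab.2 : ℕ) := (congrArg Subtype.val hab).symm
  obtain ⟨Ux, hUx, hcx, hx⟩ := h.unitx
  obtain ⟨Uy, hUy, hcy, hy⟩ := h.unity
  obtain ⟨fx, hfx0, rfl⟩ := h.reg.exists_aeval_unit hUx hcx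
  obtain ⟨fy, -, rfl⟩ := h.reg.exists_aeval_unit hUy hcy
  have hj := h.two_le
  obtain ⟨S, hS, hS0⟩ := exists_one_add_pow (Polynomial.X * fx)
    (by rw [Polynomial.mul_coeff_zero, Polynomial.coeff_X_zero, zero_mul]) ab.1
  obtain ⟨R, hR, -⟩ := exists_one_add_pow (Polynomial.X ^ j * fy)
    (by rw [Polynomial.mul_coeff_zero, Polynomial.coeff_X_pow, if_neg (by omega), zero_mul]) ab.2
  refine ⟨ab.1, ab.2, fx * S + (1 + Polynomial.X * fx * S) * (Polynomial.X ^ (j - 1) * fy * R),
    fx.coeff 0, hfx0, ht', ?_, ?_⟩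
  · have h1 : ρ x = Polynomial.aeval A (1 + Polynomial.X * fx) := by
      rw [map_add, map_one, map_mul, Polynomial.aeval_X, ← hx]; abel
    have h2 : ρ y = Polynomial.aeval A (1 + Polynomial.X ^ j * fy) := by
      rw [map_add, map_one, map_mul, map_pow, Polynomial.aeval_X, ← hy]; abel
    rw [ht', map_mul ρ, map_pow ρ, map_pow ρ, h1, h2, ← map_pow, ← map_pow, ← map_mul,
      ← map_one (Polynomial.aeval (R := ZMod p) A), ← map_sub, hS, hR]
    congr 1
    obtain ⟨i, rfl⟩ : ∃ i, j = i + 1 := ⟨j - 1, by omega⟩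
    rw [Nat.add_sub_cancel]
    ring
  · rw [Polynomial.coeff_add, Polynomial.mul_coeff_zero, Polynomial.mul_coeff_zero
      (1 + Polynomial.X * fx * S), Polynomial.mul_coeff_zero (Polynomial.X ^ (j - 1) * fy),
      Polynomial.mul_coeff_zero (Polynomial.X ^ (j - 1)), Polynomial.coeff_X_pow,
      if_neg (by omega), hS0]
    ring

/-- An element conjugating a regular element of `T` into `T` normalises `T`, and conjugation of `T`
into `T` maps `⟨y⟩` to itself otherwise. -/
theorem normalizer_or_pow (hinj : Function.Injective ρ) {g t : X} (ht : t ∈ (T : Subgroup X))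
    (hg : g⁻¹ * t * g ∈ (T : Subgroup X)) :
    g ∈ Subgroup.normalizer ((T : Subgroup X) : Set X) ∨
      (t ∈ Subgroup.zpowers y ∧ g⁻¹ * t * g ∈ Subgroup.zpowers y) := by
  obtain ⟨a, b, S, cx, hcx, hta, hS, hS0⟩ := h.exists_coord ht
  obtain ⟨a', b', S', cx', hcx', hta', hS', hS0'⟩ := h.exists_coord hg
  have hconj : ρ g⁻¹ * (ρ t - 1) * ρ g = ρ (g⁻¹ * t * g) - 1 := by
    have := map_conj_sub_one ρ g⁻¹ t
    rw [inv_inv] at this
    exact this.symm
  have hpow : ∀ k, ρ g⁻¹ * (ρ t - 1) ^ k * ρ g = (ρ (g⁻¹ * t * g) - 1) ^ k := fun k => by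
    have h1 := conj_aeval ρ g⁻¹ (ρ t - 1) (Polynomial.X ^ k)
    rw [inv_inv, map_pow, map_pow, Polynomial.aeval_X, Polynomial.aeval_X, hconj] at h1
    exact h1
  have hd := h.two_mul_lt
  have hj := h.two_le
  have hzero : ∀ P : (ZMod p)[X], P.coeff 0 = 0 →
      (Polynomial.aeval A (Polynomial.X * P)) ^ (d - 1) = 0 := by
    intro P hP
    obtain ⟨P', hP'⟩ := Polynomial.X_dvd_iff.2 hP
    rw [← map_pow, hP', ← mul_assoc, ← pow_two, mul_pow, map_mul, ← pow_mul, map_pow,
      Polynomial.aeval_X, h.reg.pow_eq_zero_iff.2 (by omega), zero_mul]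
  have hiff : (ρ t - 1) ^ (d - 1) = 0 ↔ (ρ (g⁻¹ * t * g) - 1) ^ (d - 1) = 0 := by
    rw [← hpow]
    exact ⟨fun e => by rw [e, mul_zero, zero_mul], fun e => by
      rwa [((Group.isUnit g).map ρ).mul_left_eq_zero,
        ((Group.isUnit g⁻¹).map ρ).mul_right_eq_zero] at e⟩
  have hreg : ∀ P : (ZMod p)[X], P.coeff 0 ≠ 0 →
      (Polynomial.aeval A (Polynomial.X * P)) ^ (d - 1) ≠ 0 := fun P hP e => by
    rw [map_mul, Polynomial.aeval_X, (show Commute A (Polynomial.aeval A P) from
      commute_aeval A P).mul_pow, ((h.reg.isUnit_aeval hP).pow _).mul_left_eq_zero] at e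
    exact h.reg.pow_pred_ne e
  have hlift : ∀ {n : Fin p} {c : ZMod p}, c ≠ 0 → ((n : ℕ) : ZMod p) * c = 0 → (n : ℕ) = 0 := by
    intro n c hc he
    rw [mul_eq_zero, or_iff_left hc, CharP.cast_eq_zero_iff (ZMod p) p] at he
    exact Nat.eq_zero_of_dvd_of_lt he n.2
  by_cases ha : (a : ℕ) = 0
  · refine Or.inr ?_
    have h0 : (ρ t - 1) ^ (d - 1) = 0 := by
      rw [hS]; exact hzero S (by rw [hS0, ha, Nat.cast_zero, zero_mul])
    have ha' : (a' : ℕ) = 0 := by
      refine hlift hcx' ?_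
      rw [← hS0']
      by_contra hne
      exact hreg S' hne (hS' ▸ hiff.1 h0)
    rw [ha, pow_zero, one_mul] at hta
    rw [ha', pow_zero, one_mul] at hta'
    exact ⟨hta ▸ Subgroup.npow_mem_zpowers y b, hta' ▸ Subgroup.npow_mem_zpowers y b'⟩
  · refine Or.inl (h.mem_normalizer_of_flag hinj fun i v hv => ?_)
    have hu : ∀ P : (ZMod p)[X], P.coeff 0 ≠ 0 →
        LinearMap.range ((Polynomial.aeval A (Polynomial.X * P)) ^ i) = LinearMap.range (A ^ i) := by
      intro P hP
      rw [map_mul, Polynomial.aeval_X]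
      exact range_pow_mul_of_isUnit (h.reg.isUnit_aeval hP) (commute_aeval A P) i
    have hS0ne : S.coeff 0 ≠ 0 := fun e => ha (hlift hcx (hS0.symm.trans e))
    have hS0ne' : S'.coeff 0 ≠ 0 := fun e => by
      refine hreg S hS0ne ?_
      rw [← hS]
      exact hiff.2 (by rw [hS']; exact hzero S' e)
    rw [← hu S' hS0ne', ← hS', ← hpow] at hv
    obtain ⟨w, rfl⟩ := hv
    rw [← hu S hS0ne, ← hS, Module.End.mul_apply, Module.End.mul_apply, ← Module.End.mul_apply,
      ← map_mul, mul_inv_cancel, map_one, Module.End.one_apply]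
    exact ⟨_, rfl⟩

theorem orderOf_x (hinj : Function.Injective ρ) : orderOf x = p := by
  refine orderOf_eq_prime (h.pow_p hinj h.x_mem_flag) fun e => ?_
  have h1 : (⟨1, hp.out.one_lt⟩ : Fin p) = ⟨0, hp.out.pos⟩ := by
    have := @h.bij.1 (⟨1, hp.out.one_lt⟩, ⟨0, hp.out.pos⟩) (⟨0, hp.out.pos⟩, ⟨0, hp.out.pos⟩)
      (Subtype.ext (by simp [e]))
    exact (Prod.mk.injEq _ _ _ _ ▸ this).1
  simp at h1

theorem orderOf_y (hinj : Function.Injective ρ) : orderOf y = p := by
  refine orderOf_eq_prime (h.pow_p hinj (h.flag_mono h.y_mem_flag)) fun e => ?_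
  have h1 : (⟨1, hp.out.one_lt⟩ : Fin p) = ⟨0, hp.out.pos⟩ := by
    have := @h.bij.1 (⟨0, hp.out.pos⟩, ⟨1, hp.out.one_lt⟩) (⟨0, hp.out.pos⟩, ⟨0, hp.out.pos⟩)
      (Subtype.ext (by simp [e]))
    exact (Prod.mk.injEq _ _ _ _ ▸ this).2
  simp at h1

/-- An element of the normalizer preserves the flag. -/
theorem flag_of_mem_normalizer {n : X} (hn : n ∈ Subgroup.normalizer ((T : Subgroup X) : Set X))
    (i : ℕ) : ∀ v ∈ LinearMap.range (A ^ i), ρ n v ∈ LinearMap.range (A ^ i) := by
  intro v hv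
  obtain ⟨μ, -, -, hw, -⟩ := h.weight n hn
  have := add_mem (range_pow_mono (Nat.le_succ i) (hw i v hv))
    ((LinearMap.range (A ^ i)).smul_mem (μ ^ (j + 1 + i)) hv)
  rwa [sub_add_cancel] at this

end WeightFrame

end CfsgLib.MaxClassEssential
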