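import Mathlib.Algebra.CharP.Lemmas
import Mathlib.Algebra.CharP.Algebra
import Mathlib.Algebra.Field.ZMod
import Mathlib.GroupTheory.PGroup
import Mathlib.LinearAlgebra.Dimension.Finite

/-!
# Unipotent elements of a linear group over `ZMod p`

* `map_pow_char`: `ρ (g ^ p ^ e) = 1 + (ρ g - 1) ^ p ^ e`.
* `pair_isPGroup`: two elements `z`, `z'` with `(ρ z - 1) ^ 2 = 0 = (ρ z' - 1) ^ 2` and a nilpotent
  anticommutator of `ρ z - 1` and `ρ z' - 1` generate a `p`-group.
* `exists_pElement_lift`: a `p`-element of an image lifts to a `p`-element.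
-/

set_option autoImplicit false

namespace CfsgLib.MaxClassEssential

variable {p : ℕ} [hp : Fact p.Prime] {X : Type*} [Group X] {V : Type*} [AddCommGroup V]
  [Module (ZMod p) V] (ρ : X →* Module.End (ZMod p) V)

/-- `ρ (g ^ p ^ e) = 1 + (ρ g - 1) ^ p ^ e`. -/
theorem map_pow_char (g : X) (e : ℕ) : ρ (g ^ p ^ e) = 1 + (ρ g - 1) ^ p ^ e := by
  rcases subsingleton_or_nontrivial V with hV | hV
  · exact Subsingleton.elim _ _
  haveI : CharP (Module.End (ZMod p) V) p :=
    charP_of_injective_algebraMap' (ZMod p) p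
  rw [sub_pow_char_pow_of_commute, one_pow, map_pow]
  · abel
  · exact Commute.one_right _

theorem pow_eq_one_of_sub_one_pow {g : X} (hinj : Function.Injective ρ) {e : ℕ}
    (h : (ρ g - 1) ^ p ^ e = 0) : g ^ p ^ e = 1 :=
  hinj (by rw [map_pow_char, h, add_zero, map_one])

theorem sub_one_pow_of_pow_eq_one {g : X} {e : ℕ} (h : g ^ p ^ e = 1) :
    (ρ g - 1) ^ p ^ e = 0 := by
  simpa [h] using (map_pow_char ρ g e).symm

theorem pElement_of_isNilpotent {g : X} (hinj : Function.Injective ρ)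
    (h : IsNilpotent (ρ g - 1)) : ∃ e : ℕ, g ^ p ^ e = 1 := by
  obtain ⟨k, hk⟩ := h
  exact ⟨k, pow_eq_one_of_sub_one_pow ρ hinj
    (pow_eq_zero_of_le (Nat.lt_pow_self hp.out.one_lt).le hk)⟩

theorem map_pow_of_sq_eq_zero {z : X} (h : (ρ z - 1) * (ρ z - 1) = 0) (k : ℕ) :
    ρ (z ^ k) = 1 + k • (ρ z - 1) := by
  induction k with
  | zero => simp
  | succ k ih =>
    rw [pow_succ, map_mul, ih, succ_nsmul]
    calc (1 + k • (ρ z - 1)) * ρ z
        = (1 + k • (ρ z - 1)) * (1 + (ρ z - 1)) := by rw [add_sub_cancel]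
      _ = _ := by
        rw [mul_add, mul_one, add_mul, one_mul, smul_mul_assoc, h, smul_zero, add_zero]
        abel

theorem orderOf_of_sq_eq_zero {z : X} (hinj : Function.Injective ρ)
    (h : (ρ z - 1) * (ρ z - 1) = 0) (hz : z ≠ 1) : orderOf z = p := by
  refine orderOf_eq_prime ?_ hz
  have := pow_eq_one_of_sub_one_pow ρ hinj (g := z) (e := 1)
    (by rw [pow_one]; exact pow_eq_zero_of_le hp.out.two_le (by rw [pow_two, h]))
  simpa using this

section Pair

variable (Z Z' : Module.End (ZMod p) V)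

/-- The images of the words of length `m` in `Z`, `Z'`. -/
def wordRange : ℕ → Submodule (ZMod p) V
  | 0 => ⊤
  | m + 1 => (wordRange m).map Z ⊔ (wordRange m).map Z'

theorem wordRange_succ_le : ∀ m, wordRange Z Z' (m + 1) ≤ wordRange Z Z' m
  | 0 => le_top
  | m + 1 =>
    sup_le_sup (Submodule.map_mono (wordRange_succ_le m)) (Submodule.map_mono (wordRange_succ_le m))

theorem wordRange_add_three {Z Z' : Module.End (ZMod p) V} (hZ : Z * Z = 0) (hZ' : Z' * Z' = 0) :
    ∀ m, wordRange Z Z' (m + 3) = (wordRange Z Z' (m + 1)).map (Z * Z' + Z' * Z) := by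
  intro m
  induction m with
  | zero =>
    have a1 : Z * Z' * Z = (Z * Z' + Z' * Z) * Z := by
      rw [add_mul, mul_assoc Z' Z Z, hZ, mul_zero, add_zero]
    have a2 : Z' * Z * Z' = (Z * Z' + Z' * Z) * Z' := by
      rw [add_mul, mul_assoc Z Z' Z', hZ', mul_zero, zero_add]
    have e : ∀ (A B : Module.End (ZMod p) V) (U : Submodule (ZMod p) V),
        (U.map B).map A = U.map (A * B) := fun A B U => (Submodule.map_comp _ _ _).symm
    have z0 : ∀ U : Submodule (ZMod p) V, U.map (0 : Module.End (ZMod p) V) = ⊥ :=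
      fun U => Submodule.map_zero U
    simp only [wordRange, Submodule.map_sup, e]
    simp only [← mul_assoc, hZ, hZ', zero_mul, z0, bot_sup_eq, sup_bot_eq]
    simp only [mul_assoc Z' Z Z, mul_assoc Z Z' Z', hZ, hZ', mul_zero, z0, bot_sup_eq, sup_bot_eq]
    rw [a1, a2]
  | succ m ih =>
    have c1 : Z * (Z * Z' + Z' * Z) = (Z * Z' + Z' * Z) * Z := by
      rw [mul_add, add_mul, ← mul_assoc Z Z Z', hZ, zero_mul, mul_assoc Z' Z Z, hZ, mul_zero,
        zero_add, add_zero, mul_assoc]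
    have c2 : Z' * (Z * Z' + Z' * Z) = (Z * Z' + Z' * Z) * Z' := by
      rw [mul_add, add_mul, ← mul_assoc Z' Z' Z, hZ', zero_mul, mul_assoc Z Z' Z', hZ', mul_zero,
        zero_add, add_zero, mul_assoc]
    show (wordRange Z Z' (m + 3)).map Z ⊔ (wordRange Z Z' (m + 3)).map Z' =
      ((wordRange Z Z' (m + 1)).map Z ⊔ (wordRange Z Z' (m + 1)).map Z').map (Z * Z' + Z' * Z)
    rw [ih, Submodule.map_sup]
    simp only [← Submodule.map_comp, ← Module.End.mul_eq_comp, c1, c2]

variable [Finite X]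

/-- Two elements with square-zero `ρ z - 1` whose anticommutator is nilpotent generate a group
acting unipotently. -/
theorem pair_nilpotent {z z' : X} (hz : (ρ z - 1) * (ρ z - 1) = 0)
    (hz' : (ρ z' - 1) * (ρ z' - 1) = 0)
    (hC : IsNilpotent ((ρ z - 1) * (ρ z' - 1) + (ρ z' - 1) * (ρ z - 1))) {g : X}
    (hg : g ∈ Subgroup.closure ({z, z'} : Set X)) : IsNilpotent (ρ g - 1) := by
  set Z := ρ z - 1
  set Z' := ρ z' - 1
  obtain ⟨k, hk⟩ := hC
  have hbot : ∀ j, wordRange Z Z' (2 * j + 1) = (wordRange Z Z' 1).map ((Z * Z' + Z' * Z) ^ j) := by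
    intro j
    induction j with
    | zero => rw [pow_zero]; exact (Submodule.map_id _).symm
    | succ j ih =>
      rw [show 2 * (j + 1) + 1 = 2 * j + 3 from by ring, wordRange_add_three hz hz', ih,
        ← Submodule.map_comp, ← Module.End.mul_eq_comp, ← pow_succ']
  let H : Submonoid X :=
    { carrier := {g | ∀ m, ∀ v ∈ wordRange Z Z' m, ρ g v - v ∈ wordRange Z Z' (m + 1)}
      one_mem' := fun m v _ => by simp
      mul_mem' := fun {a b} ha hb m v hv => by
        have hbv : ρ b v ∈ wordRange Z Z' m := by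
          simpa using add_mem (wordRange_succ_le Z Z' m (hb m v hv)) hv
        have := add_mem (ha m _ hbv) (hb m v hv)
        simpa [map_mul] using this }
  have hzH : z ∈ H := fun m v hv => Submodule.mem_sup_left ⟨v, hv, rfl⟩
  have hzH' : z' ∈ H := fun m v hv => Submodule.mem_sup_right ⟨v, hv, rfl⟩
  let HS : Subgroup X :=
    { H with
      inv_mem' := fun {a} ha => by
        rw [inv_eq_of_mul_eq_one_left (a := a ^ (orderOf a - 1)) (b := a) (by
          rw [← pow_succ, Nat.sub_add_cancel (orderOf_pos a), pow_orderOf_eq_one])]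
        exact H.pow_mem ha _ }
  have hle : Subgroup.closure ({z, z'} : Set X) ≤ HS := by
    rw [Subgroup.closure_le]
    rintro y (rfl | rfl)
    exacts [hzH, hzH']
  have hgH : g ∈ H := hle hg
  refine ⟨2 * k + 1, LinearMap.ext fun v => ?_⟩
  have hmem : ∀ j, ((ρ g - 1) ^ j) v ∈ wordRange Z Z' j := by
    intro j
    induction j with
    | zero => trivial
    | succ j ih =>
      rw [pow_succ']
      exact hgH j _ ih
  have := hmem (2 * k + 1)
  rw [hbot, hk] at this
  simpa using this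

end Pair

theorem pair_isPGroup [Finite X] (hinj : Function.Injective ρ) {z z' : X}
    (hz : (ρ z - 1) * (ρ z - 1) = 0) (hz' : (ρ z' - 1) * (ρ z' - 1) = 0)
    (hC : IsNilpotent ((ρ z - 1) * (ρ z' - 1) + (ρ z' - 1) * (ρ z - 1))) :
    IsPGroup p (Subgroup.closure ({z, z'} : Set X)) := fun g => by
  obtain ⟨e, he⟩ := pElement_of_isNilpotent ρ hinj (pair_nilpotent ρ hz hz' hC g.2)
  exact ⟨e, Subtype.ext (by simpa using he)⟩

/-- A `p`-element of an image lifts to a `p`-element in the cyclic group of any preimage. -/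
theorem exists_pElement_lift {G H : Type*} [Group G] [Finite G] [Group H] (f : G →* H) (g : G)
    {e : ℕ} (h : f g ^ p ^ e = 1) :
    ∃ g' ∈ Subgroup.zpowers g, (∃ e' : ℕ, g' ^ p ^ e' = 1) ∧ f g' = f g := by
  obtain ⟨a, m, hm, hord⟩ := Nat.exists_eq_pow_mul_and_not_dvd (orderOf_pos g).ne' p hp.out.ne_one
  have hco : (p ^ (a + e)).Coprime m := (hp.out.coprime_iff_not_dvd.2 hm).pow_left _
  obtain ⟨c, hc1, hc0⟩ := Nat.chineseRemainder hco 1 0
  refine ⟨g ^ c, Subgroup.npow_mem_zpowers g c, ⟨a, ?_⟩, ?_⟩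
  · rw [← pow_mul]
    refine orderOf_dvd_iff_pow_eq_one.1 ?_
    rw [hord, mul_comm]
    exact Nat.mul_dvd_mul_right (Nat.modEq_zero_iff_dvd.1 hc0) _
  · rw [map_pow]
    have h1 : c ≡ 1 [MOD orderOf (f g)] :=
      hc1.of_dvd ((orderOf_dvd_of_pow_eq_one h).trans (pow_dvd_pow p (Nat.le_add_left e a)))
    conv_rhs => rw [← pow_one (f g)]
    exact pow_eq_pow_iff_modEq.2 h1

end CfsgLib.MaxClassEssential
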