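import Cfsg.Agent.MaxClassEssential.AbelianFlag

/-!
# The centralizer of `y` preserves the flag

In the group `C(y)` every `p`-element of `T` outside `⟨y⟩` acts freely on the cosets outside the
normalizer of `T`, so products of matrix coefficients of weight one and degree below `p - 1` are
invariant; this forces every term of the flag to be invariant.
-/

set_option autoImplicit false
set_option linter.style.haveILetI false
set_option maxHeartbeats 800000

namespace CfsgLib.MaxClassEssential

variable {p : ℕ} [hp : Fact p.Prime] {X : Type*} [Group X] [Finite X] {V : Type*}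
  [AddCommGroup V] [Module (ZMod p) V] [Finite V] {ρ : X →* Module.End (ZMod p) V}
  {T : Sylow p X} {x y : X} {A : Module.End (ZMod p) V} {d j : ℕ}

theorem WeightFrame.shifts (h : WeightFrame ρ T x y A d j) {G : Type*} [Group G] (σ : G →* X)
    (hσ : Function.Injective σ) {x' y' : G} (hx : σ x' = x) (hy : σ y' = y) :
    Shifts (ρ.comp σ) A x' y' j := by
  refine ⟨hσ (by rw [map_mul, map_mul, hx, hy, h.comm x h.mem_x y h.mem_y]), ?_, ?_, ?_, ?_⟩
  · simpa only [MonoidHom.comp_apply, hx] using mem_flagShift.1 h.x_mem_flag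
  · simpa only [MonoidHom.comp_apply, map_inv, hx] using mem_flagShift.1 (inv_mem h.x_mem_flag)
  · simpa only [MonoidHom.comp_apply, hy] using mem_flagShift.1 h.y_mem_flag
  · simpa only [MonoidHom.comp_apply, map_inv, hy] using mem_flagShift.1 (inv_mem h.y_mem_flag)

/-- The `p - 1`-st power of a nonzero scalar is one. -/
theorem pow_sub_one_eq_one (c : ZMod p) (hc : c ≠ 0) : c ^ (p - 1) = 1 :=
  ZMod.pow_card_sub_one_eq_one hc

theorem exists_smul_of_sep {d : ℕ} (hreg : IsRegNil A d) {b : ℕ} (hb : b ≤ d) {v : V}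
    (hv : ∀ ψ : V →ₗ[ZMod p] ZMod p, (∀ w ∈ LinearMap.range (A ^ b), ψ w = 0) → ψ v = 0) :
    v ∈ LinearMap.range (A ^ b) := by
  obtain ⟨v₀, B, hB, hrange⟩ := hreg.exists_basis
  exact (hrange b v).2 fun k hk => hv (B.coord k) fun w hw => (hrange b w).1 hw k hk

theorem mem_range_of_pow_apply {d : ℕ} (hreg : IsRegNil A d) {b o : ℕ} (hb : b ≤ d) (ho : o ≤ b)
    {w : V} (hw : (A ^ o) w ∈ LinearMap.range (A ^ b)) : w ∈ LinearMap.range (A ^ (b - o)) := by
  have h : (A ^ (d - (b - o))) w = 0 := by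
    obtain ⟨u, hu⟩ := hw
    rw [show d - (b - o) = d - b + o by omega, pow_add, Module.End.mul_apply, ← hu,
      ← Module.End.mul_apply, ← pow_add, hreg.pow_eq_zero_iff.2 (by omega), LinearMap.zero_apply]
  rw [← LinearMap.mem_ker, hreg.ker_pow (by omega), Nat.sub_sub_self (by omega)] at h
  exact h

namespace WeightFrame

variable (h : WeightFrame ρ T x y A d j)
include h

/-- Every term of the flag is invariant under the centralizer of `y`. -/
theorem centralizer_invariant (hinj : Function.Injective ρ) {g : X} (hg : g * y = y * g) (i : ℕ) :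
    ∀ v ∈ LinearMap.range (A ^ i), ρ g v ∈ LinearMap.range (A ^ i) := by
  classical
  set G := Subgroup.centralizer ({y} : Set X) with hG
  have hTG : (T : Subgroup X) ≤ G := fun t ht =>
    Subgroup.mem_centralizer_singleton_iff.2 (h.comm t ht y h.mem_y)
  set T' : Sylow p G := T.subtype hTG with hT'
  have hT'mem : ∀ t : G, t ∈ (T' : Subgroup G) ↔ (t : X) ∈ (T : Subgroup X) := fun t => by
    rw [hT', Sylow.coe_subtype, Subgroup.mem_subgroupOf]
  set σ := ρ.comp G.subtype with hσ
  set x' : G := ⟨x, hTG h.mem_x⟩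
  set y' : G := ⟨y, hTG h.mem_y⟩
  have hs : Shifts σ A x' y' j := h.shifts G.subtype G.subtype_injective rfl rfl
  have hNX : ∀ n : G, n ∈ Subgroup.normalizer ((T' : Subgroup G) : Set G) →
      (n : X) ∈ Subgroup.normalizer ((T : Subgroup X) : Set X) := fun n hn =>
    Subgroup.mem_normalizer_fintype fun t ht => by
      have h1 : n * ⟨t, hTG ht⟩ * n⁻¹ ∈ (T' : Subgroup G) :=
        (Subgroup.mem_normalizer_iff.1 hn ⟨t, hTG ht⟩).1 ((hT'mem _).2 ht)
      exact (hT'mem _).1 h1
  have hd := h.two_mul_lt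
  have hj := h.two_le
  have hdp := h.d_lt
  have hox := h.orderOf_x hinj
  -- invariant functions
  have transfer : ∀ (w : G → ZMod p) (m : ℕ), m ≤ p - 1 → TransDeg x' y' j m w →
      (∀ n ∈ Subgroup.normalizer ((T' : Subgroup G) : Set G), ∀ k, w (n * k) = w k) →
      ∀ k, w k = w 1 := by
    intro w m hm hw hinv k
    letI : Fintype (Subgroup.zpowers x') := Fintype.ofFinite _
    have hox' : orderOf x' = p := by rw [← Subgroup.orderOf_coe]; exact hox
    refine eq_of_transfer T' (P := Subgroup.zpowers x')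
      (Subgroup.zpowers_le.2 ((hT'mem _).2 h.mem_x)) w hinv (fun a ha t ht hat => ?_)
      (fun a _ k => ?_) k
    · obtain ⟨c, rfl⟩ : ∃ c : ℕ, x' ^ c = t :=
        (Submonoid.mem_powers_iff _ _).1
          ((IsOfFinOrder.mem_powers_iff_mem_zpowers (isOfFinOrder_of_finite x')).2 ht)
      have hm1 : (a : X)⁻¹ * x ^ c * (a : X) ∈ (T : Subgroup X) := (hT'mem _).1 hat
      rcases h.normalizer_or_pow hinj (pow_mem h.mem_x c) hm1 with hn | ⟨hy, -⟩
      · exact absurd (Subgroup.mem_normalizer_fintype fun s hs' =>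
          (hT'mem _).2 ((Subgroup.mem_normalizer_iff.1 hn (s : X)).1 ((hT'mem s).1 hs'))) ha
      · obtain ⟨e, he⟩ : ∃ e : ℕ, y ^ e = x ^ c :=
          (Submonoid.mem_powers_iff _ _).1
            ((IsOfFinOrder.mem_powers_iff_mem_zpowers (isOfFinOrder_of_finite y)).2 hy)
        have h1 := @h.bij.1 (⟨c % p, Nat.mod_lt _ hp.out.pos⟩, ⟨0, hp.out.pos⟩)
          (⟨0, hp.out.pos⟩, ⟨e % p, Nat.mod_lt _ hp.out.pos⟩) (Subtype.ext (by
            show x ^ (c % p) * y ^ 0 = x ^ 0 * y ^ (e % p)
            rw [pow_zero, pow_zero, mul_one, one_mul]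
            conv_lhs => rw [← hox, pow_mod_orderOf]
            conv_rhs => rw [← h.orderOf_y hinj, pow_mod_orderOf, he]))
        have h2 : c % p = 0 := congrArg Fin.val (Prod.mk.injEq _ _ _ _ ▸ h1).1
        rw [← pow_mod_orderOf, hox', h2, pow_zero]
    · have hsum := sum_shift_eq_zero (hw a⁻¹) hm k
      rw [← Fin.sum_univ_eq_sum_range (fun c => w (a⁻¹ * (x' ^ c * k)))] at hsum
      rw [← hsum]
      symm
      refine Fintype.sum_bijective
        (fun c : Fin p => (⟨x' ^ (c : ℕ), Subgroup.npow_mem_zpowers x' c⟩ : Subgroup.zpowers x'))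
        ?_ _ _ fun c => rfl
      refine (Nat.bijective_iff_injective_and_card _).2 ⟨fun c e he => Fin.ext ?_, by
        rw [Nat.card_fin, Nat.card_zpowers, hox']⟩
      have h1 : x' ^ (c : ℕ) = x' ^ (e : ℕ) := congrArg Subtype.val he
      rw [pow_eq_pow_iff_modEq, hox', Nat.ModEq, Nat.mod_eq_of_lt c.2, Nat.mod_eq_of_lt e.2] at h1
      exact h1
  -- the eigenvalues
  have hweight : ∀ n : Subgroup.normalizer ((T' : Subgroup G) : Set G), ∃ μ : ZMod p, μ ≠ 0 ∧
      μ ^ j = 1 ∧ σ n * A = μ • (A * σ n) ∧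
      ∀ i, ∀ v ∈ LinearMap.range (A ^ i), σ n v - μ ^ (1 + i) • v ∈ LinearMap.range (A ^ (i + 1)) := by
    intro n
    obtain ⟨μ, hμ, hA, hw, hy⟩ := h.weight _ (hNX _ n.2)
    have hμj := hy (Subgroup.mem_centralizer_singleton_iff.1 (n : G).2)
    refine ⟨μ, hμ, hμj, hA, fun i v hv => ?_⟩
    have := hw i v hv
    rwa [show j + 1 + i = j + (1 + i) by omega, pow_add μ, hμj, one_mul] at this
  choose μ hμ0 hμj hμA hμw using hweight
  -- the weight of a pairing
  have hpair : ∀ (n : Subgroup.normalizer ((T' : Subgroup G) : Set G)) (ψ : V →ₗ[ZMod p] ZMod p)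
      (u : V) (i : ℕ) (k : G),
      μ n ^ i * ψ (σ ((n : G) * k)⁻¹ ((A ^ i) (σ ((n : G) * k) u))) =
        ψ (σ k⁻¹ ((A ^ i) (σ k u))) := by
    intro n ψ u i k
    have hpow : σ n * A ^ i = μ n ^ i • (A ^ i * σ n) := by
      induction i with
      | zero => simp
      | succ i ih =>
        rw [pow_succ, ← mul_assoc, ih, smul_mul_assoc, mul_assoc, hμA n, mul_smul_comm, smul_smul,
          ← mul_assoc, pow_succ]
    have h2 : σ (n : G)⁻¹ * σ n = 1 := by rw [← map_mul, inv_mul_cancel, map_one]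
    rw [← smul_eq_mul, ← map_smul, ← map_smul, mul_inv_rev, map_mul σ, map_mul σ, Module.End.mul_apply,
      Module.End.mul_apply]
    congr 2
    rw [← Module.End.mul_apply (f := A ^ i), ← LinearMap.smul_apply, ← hpow, Module.End.mul_apply,
      ← Module.End.mul_apply, h2, Module.End.one_apply]
  have hrangeN : ∀ (n : Subgroup.normalizer ((T' : Subgroup G) : Set G)) (i : ℕ),
      ∀ v ∈ LinearMap.range (A ^ i), σ n v ∈ LinearMap.range (A ^ i) := fun n i =>
    h.flag_of_mem_normalizer (hNX _ n.2) i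
  obtain ⟨v₀, B, hB, hrange⟩ := h.reg.exists_basis
  have hBk : ∀ k : Fin d, B k ∈ LinearMap.range (A ^ (k : ℕ)) := fun k => ⟨v₀, (hB k).symm⟩
  have hcoord : ∀ (k : Fin d), ∀ v ∈ LinearMap.range (A ^ ((k : ℕ) + 1)), B.coord k v = 0 :=
    fun k v hv => (hrange _ v).1 hv k (Nat.lt_succ_self _)
  have hline : ∀ (c : ℕ), c < d → ∀ v ∈ LinearMap.range (A ^ c),
      ∃ e : ZMod p, v - e • (A ^ c) v₀ ∈ LinearMap.range (A ^ (c + 1)) := by
    intro c hc v hv
    refine ⟨B.repr v ⟨c, hc⟩, (hrange _ _).2 fun k hk => ?_⟩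
    rw [map_sub, map_smul, ← hB ⟨c, hc⟩, B.repr_self, Finsupp.sub_apply, Finsupp.smul_apply,
      Finsupp.single_apply]
    rcases lt_or_eq_of_le (Nat.lt_succ_iff.1 hk) with hlt | heq
    · rw [(hrange c v).1 hv k hlt, if_neg (fun e => by rw [← e] at hlt; simp at hlt), smul_zero,
        sub_zero]
    · obtain rfl : k = ⟨c, hc⟩ := Fin.ext heq
      rw [if_pos rfl, smul_eq_mul, mul_one, sub_self]
  -- invariant terms
  have hinv0 : InvIdx σ A 0 := fun g v _ => ⟨σ g v, by simp⟩
  obtain ⟨U, hU, hcU, hyU⟩ := h.unity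
  obtain ⟨U', hU'⟩ := hU.exists_right_inv
  have hU'c : ∀ c, ∀ v ∈ LinearMap.range (A ^ c), U' v ∈ LinearMap.range (A ^ c) := by
    rintro c _ ⟨w, rfl⟩
    have h1 : U' * A ^ c = A ^ c * U' := by
      have h2 : U' * U = 1 := by
        obtain ⟨u, hu⟩ := hU
        rw [← hu] at hU' ⊢
        rw [← Units.inv_eq_of_mul_eq_one_right hU', Units.inv_mul]
      calc U' * A ^ c = U' * A ^ c * (U * U') := by rw [hU', mul_one]
        _ = U' * (U * A ^ c) * U' := by
          rw [← ((show Commute A U from hcU).pow_left c).eq]; simp only [mul_assoc]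
        _ = A ^ c * U' := by rw [← mul_assoc U' U, h2, one_mul]
    rw [← Module.End.mul_apply, h1, Module.End.mul_apply]
    exact ⟨_, rfl⟩
  have hstep : ∀ c, InvIdx σ A c → InvIdx σ A (j + c) := by
    intro c hc g v hv
    obtain ⟨w, rfl⟩ := hv
    have hv' : (A ^ (j + c)) w = (ρ y - 1) (U' ((A ^ c) w)) := by
      rw [hyU, pow_add, Module.End.mul_apply, Module.End.mul_apply, ← Module.End.mul_apply (f := U),
        hU', Module.End.one_apply]
    have hcomm : σ g * (ρ y - 1) = (ρ y - 1) * σ g := by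
      have hgy : (g : X) * y = y * g := Subgroup.mem_centralizer_singleton_iff.1 g.2
      rw [mul_sub, sub_mul, mul_one, one_mul, hσ, MonoidHom.comp_apply, ← map_mul, ← map_mul]
      exact congrArg (fun z => ρ z - ρ (g : X)) hgy
    rw [hv', ← Module.End.mul_apply, hcomm, Module.End.mul_apply, add_comm j c]
    exact mem_flagShift.1 h.y_mem_flag c _ (hc g _ (hU'c c _ ⟨w, rfl⟩))
  have hinvj : InvIdx σ A j := hstep 0 hinv0
  -- the bottom line of the first block
  have hline_inv : ∀ c, c + 1 ≤ d → InvIdx σ A (c + 1) →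
      (∀ g : G, ∃ e : ZMod p, σ g⁻¹ ((A ^ c) v₀) - e • (A ^ c) v₀ ∈ LinearMap.range (A ^ (c + 1))) →
      InvIdx σ A c := by
    intro c hc hc1 hl g v hv
    obtain ⟨e, he⟩ := hline c (by omega) v hv
    obtain ⟨e', he'⟩ := hl g⁻¹
    rw [inv_inv] at he'
    have h1 := hc1 g _ he
    rw [map_sub, map_smul] at h1
    have h2 := add_mem h1 ((LinearMap.range (A ^ (c + 1))).smul_mem e he')
    rw [smul_sub, ← add_sub_assoc, sub_add_cancel] at h2
    have h3 := add_mem (range_pow_mono (Nat.le_succ c) h2)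
      (show e • e' • (A ^ c) v₀ ∈ LinearMap.range (A ^ c) from
        Submodule.smul_mem _ _ (Submodule.smul_mem _ _ ⟨v₀, rfl⟩))
    rwa [sub_add_cancel] at h3
  have hinvj1 : InvIdx σ A (j - 1) := by
    refine hline_inv (j - 1) (by omega) (by rw [Nat.sub_add_cancel (by omega)]; exact hinvj)
      fun g => ⟨1, ?_⟩
    rw [one_smul, Nat.sub_add_cancel (by omega)]
    refine exists_smul_of_sep h.reg (by omega) fun ψ hψ => ?_
    have hw := transfer (fun k => ψ (σ k⁻¹ ((A ^ (j - 1)) v₀))) (j - 0) (by omega)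
      (hs.transDeg_cov (Nat.zero_le j) hinv0 hinvj ⟨_, by rw [pow_zero]; rfl⟩ hψ) ?_ g
    · rw [inv_one, map_one, Module.End.one_apply] at hw
      rw [map_sub, hw, sub_self]
    intro n hn k
    rw [mul_inv_rev, map_mul, Module.End.mul_apply, ← sub_eq_zero, ← map_sub, ← map_sub]
    refine hψ _ (hinvj k⁻¹ _ ?_)
    have h1 := hμw ⟨n, hn⟩⁻¹ (j - 1) _ ⟨v₀, rfl⟩
    rw [show 1 + (j - 1) = j by omega, hμj, one_smul, Nat.sub_add_cancel (by omega)] at h1
    exact h1
  -- the order of the group of eigenvalues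
  have hex : ∃ i, 0 < i ∧ ∀ n, μ n ^ i = 1 := ⟨j, by omega, hμj⟩
  set o := Nat.find hex with ho
  have ho0 : 0 < o := (Nat.find_spec hex).1
  have ho1 : ∀ n, μ n ^ o = 1 := (Nat.find_spec hex).2
  have hodvd : ∀ k, (∀ n, μ n ^ k = 1) → o ∣ k := by
    intro k hk
    refine Nat.dvd_of_mod_eq_zero ?_
    by_contra hne
    refine Nat.find_min hex (Nat.mod_lt k ho0) ⟨Nat.pos_of_ne_zero hne, fun n => ?_⟩
    have := hk n
    rw [← Nat.div_add_mod k o, pow_add, pow_mul, ho1, one_pow, one_mul] at this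
    exact this
  have hoj : o ∣ j := hodvd j hμj
  have hop : o ∣ p - 1 := hodvd _ fun n => pow_sub_one_eq_one _ (hμ0 n)
  -- no gap
  have hgap : ∀ a b, a + 1 < b → b + 1 ≤ j → InvIdx σ A a → InvIdx σ A b →
      (∀ c, a < c → c < b → ¬ InvIdx σ A c) → False := by
    intro a b hab hbj ha hb hnone
    have hr : b - a ≤ o := by
      by_contra hlt
      refine hnone (b - o) (by omega) (by omega) fun g v hv => ?_
      have hinvar : ∀ (u : V), u ∈ LinearMap.range (A ^ a) →
          σ g⁻¹ ((A ^ o) (σ g u)) - (A ^ o) u ∈ LinearMap.range (A ^ b) := fun u hu => by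
        refine exists_smul_of_sep h.reg (by omega) fun ψ hψ => ?_
        have hw := transfer (fun k => ψ (σ k⁻¹ ((A ^ o) (σ k u)))) (2 * (b - a) - 1) (by omega)
          (hs.transDeg_pair h.reg (by omega) (by omega) ha hb hu hψ o) ?_ g
        · rw [inv_one, map_one, Module.End.one_apply, Module.End.one_apply] at hw
          rw [map_sub, hw, sub_self]
        intro n hn k
        have h1 := hpair ⟨n, hn⟩ ψ u o k
        rw [ho1, one_mul] at h1
        exact h1
      obtain ⟨w, rfl⟩ := hv
      have hva : (A ^ (b - o)) w ∈ LinearMap.range (A ^ a) := range_pow_mono (by omega) ⟨w, rfl⟩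
      have h1 := hinvar _ hva
      rw [← Module.End.mul_apply (f := A ^ o) (g := A ^ (b - o)), ← pow_add,
        show o + (b - o) = b by omega] at h1
      have h2 := hb g _ (add_mem h1 (show (A ^ b) w ∈ LinearMap.range (A ^ b) from ⟨w, rfl⟩))
      rw [sub_add_cancel, ← Module.End.mul_apply (f := σ g), ← map_mul, mul_inv_cancel, map_one,
        Module.End.one_apply] at h2
      exact mem_range_of_pow_apply h.reg (by omega) (by omega) h2
    -- the exponent to be killed and its decomposition
    obtain ⟨I, hI1, hI2, hI3⟩ : ∃ I, 1 ≤ I ∧ 2 * I + (b - a) ≤ j + 1 ∧ (I = a + 1 ∨ I = j - b) := by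
      rcases le_or_gt (a + 1) (j - b) with hle | hle
      · exact ⟨a + 1, by omega, by omega, Or.inl rfl⟩
      · exact ⟨j - b, by omega, by omega, Or.inr rfl⟩
    set e := b - a - 1 with he
    set q := (I - 1) / e with hq
    set rem := I - q * e with hrem
    have hqe : q * e ≤ I - 1 := Nat.div_mul_le_self _ _
    have hrem1 : 1 ≤ rem := by omega
    have hreme : rem ≤ e := by
      have h1 := Nat.lt_mul_div_succ (I - 1) (show 0 < e by omega)
      rw [← hq, mul_add, mul_one, mul_comm e q] at h1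
      omega
    have hsum : rem + q * e = I := by omega
    have hbound : (b - a) + (2 * e + q * (2 * e)) ≤ p - 1 := by
      have h1 : q * (2 * e) = 2 * (q * e) := by ring
      rw [h1]
      by_cases hoj' : o = j
      · obtain ⟨c, hc⟩ := hoj' ▸ hop
        have hc3 : 3 ≤ c := by
          by_contra hlt
          have := Nat.mul_le_mul_left j (show c ≤ 2 by omega)
          omega
        have := Nat.mul_le_mul_left j hc3
        omega
      · obtain ⟨c, hc⟩ := hoj
        have hc2 : 2 ≤ c := by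
          by_contra hlt
          have : c = 0 ∨ c = 1 := by omega
          rcases this with rfl | rfl <;> simp at hc <;> omega
        have := Nat.mul_le_mul_left o hc2
        omega
    -- the pairings
    have hia : a < d := by omega
    set u := (A ^ a) v₀ with hu
    have hua : u ∈ LinearMap.range (A ^ a) := ⟨v₀, rfl⟩
    set ψ : ℕ → (V →ₗ[ZMod p] ZMod p) := fun i =>
      if hi : a + i < d then B.coord ⟨a + i, hi⟩ else 0 with hψdef
    have hψ0 : ∀ i, a + i < b → ∀ v ∈ LinearMap.range (A ^ b), ψ i v = 0 := by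
      intro i hi v hv
      have hi' : a + i < d := by omega
      simp only [hψdef, dif_pos hi']
      exact (hrange b v).1 hv ⟨a + i, hi'⟩ hi
    have hψ1 : ∀ i, a + i < b → ψ i ((A ^ i) u) = 1 := by
      intro i hi
      have hi' : a + i < d := by omega
      simp only [hψdef, dif_pos hi', hu]
      rw [← Module.End.mul_apply, ← pow_add, add_comm i a, ← hB ⟨a + i, hi'⟩, Module.Basis.coord_apply,
        B.repr_self, Finsupp.single_eq_same]
    let W : G → ZMod p := (fun k => ψ rem (σ k⁻¹ ((A ^ rem) (σ k u)))) *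
      (fun k => ψ e (σ k⁻¹ ((A ^ e) (σ k u)))) ^ q
    have hW1 : W 1 = 1 := by
      simp only [W, Pi.mul_apply, Pi.pow_apply, inv_one, map_one, Module.End.one_apply]
      rw [hψ1 rem (by omega), hψ1 e (by omega), one_pow, one_mul]
    have hWdeg : TransDeg x' y' j (2 * e + q * (2 * e) + 1) W :=
      (hs.transDeg_pair h.reg (by omega) (by omega) ha hb hua (hψ0 rem (by omega)) rem
        (k := 2 * e + 1)).mul hs.comm
        (TransDeg.pow hs.comm (hs.transDeg_pair h.reg (by omega) (by omega) ha hb hua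
          (hψ0 e (by omega)) e (k := 2 * e + 1)) q) (by omega)
    have hWinv : ∀ (n : Subgroup.normalizer ((T' : Subgroup G) : Set G)) k,
        μ n ^ I * W ((n : G) * k) = W k := by
      intro n k
      simp only [W, Pi.mul_apply, Pi.pow_apply]
      rw [← hsum, pow_add, mul_comm q e, pow_mul, ← hpair n (ψ rem) u rem k,
        ← hpair n (ψ e) u e k, mul_pow]
      ring
    rcases hI3 with hI | hI
    · -- the top functional of the block
      refine hnone (a + 1) (by omega) hab fun g v hv => ?_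
      set φ := B.coord ⟨a, hia⟩ with hφ
      have hφb : ∀ v ∈ LinearMap.range (A ^ b), φ v = 0 := fun v hv =>
        (hrange b v).1 hv ⟨a, hia⟩ (show a < b by omega)
      have key : ∀ u' ∈ LinearMap.range (A ^ a), φ (σ g u') * W g = φ u' := by
        intro u' hu'
        have hw := transfer ((fun k => φ (σ k u')) * W) ((b - a) + (2 * e + q * (2 * e))) hbound
          ((hs.transDeg_vec (by omega) ha hb hu' hφb).mul hs.comm hWdeg (by omega)) ?_ g
        · simpa [hW1] using hw
        intro n hn k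
        simp only [Pi.mul_apply]
        have h1 : φ (σ (n * k) u') = μ ⟨n, hn⟩ ^ I * φ (σ k u') := by
          rw [hI, add_comm a 1, map_mul, Module.End.mul_apply, ← sub_eq_zero, ← smul_eq_mul,
            ← map_smul, ← map_sub]
          exact hcoord ⟨a, hia⟩ _ (hμw ⟨n, hn⟩ a _ (ha k u' hu'))
        rw [h1, mul_right_comm, hWinv ⟨n, hn⟩ k, mul_comm]
      have hWg : W g ≠ 0 := fun e0 => by
        have := key _ hua
        rw [e0, mul_zero, hφ, hu, ← hB ⟨a, hia⟩, Module.Basis.coord_apply, B.repr_self,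
          Finsupp.single_eq_same] at this
        exact zero_ne_one this
      have h1 := key v (range_pow_mono (Nat.le_succ a) hv)
      rw [hcoord ⟨a, hia⟩ v hv, mul_eq_zero, or_iff_left hWg] at h1
      refine (hrange _ _).2 fun k hk => ?_
      rcases lt_or_eq_of_le (Nat.lt_succ_iff.1 hk) with hlt | heq
      · exact (hrange a _).1 (ha g v (range_pow_mono (Nat.le_succ a) hv)) k hlt
      · obtain rfl : k = ⟨a, hia⟩ := Fin.ext heq
        exact h1
    · -- the bottom line of the block
      refine hnone (b - 1) (by omega) (by omega) (hline_inv (b - 1) (by omega)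
        (by rw [Nat.sub_add_cancel (by omega)]; exact hb) fun g => ?_)
      rw [Nat.sub_add_cancel (by omega)]
      set v := (A ^ (b - 1)) v₀ with hv
      have hva : v ∈ LinearMap.range (A ^ a) := range_pow_mono (by omega) ⟨v₀, rfl⟩
      have key : ∀ φ : V →ₗ[ZMod p] ZMod p, (∀ w ∈ LinearMap.range (A ^ b), φ w = 0) →
          φ (σ g⁻¹ v) * W g = φ v := by
        intro φ hφ
        have hw := transfer ((fun k => φ (σ k⁻¹ v)) * W) ((b - a) + (2 * e + q * (2 * e))) hbound
          ((hs.transDeg_cov (by omega) ha hb hva hφ).mul hs.comm hWdeg (by omega)) ?_ g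
        · simpa [hW1] using hw
        intro n hn k
        simp only [Pi.mul_apply]
        have h1 : μ ⟨n, hn⟩ ^ b * φ (σ (n * k)⁻¹ v) = φ (σ k⁻¹ v) := by
          rw [mul_inv_rev, map_mul, Module.End.mul_apply, ← sub_eq_zero, ← smul_eq_mul, ← map_smul,
            ← map_sub, ← map_smul, ← map_sub]
          refine hφ _ (hb k⁻¹ _ ?_)
          have h2 := hrangeN ⟨n, hn⟩⁻¹ b _ (by
            have h3 := hμw ⟨n, hn⟩ (b - 1) v ⟨v₀, rfl⟩
            rw [show 1 + (b - 1) = b by omega, Nat.sub_add_cancel (by omega)] at h3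
            exact h3)
          rw [map_sub, map_smul, ← Module.End.mul_apply, ← map_mul, Subgroup.coe_inv,
            inv_mul_cancel, map_one, Module.End.one_apply] at h2
          have h4 := neg_mem h2
          rwa [neg_sub] at h4
        have h2 := hWinv ⟨n, hn⟩ k
        rw [← h1, ← h2]
        have hμ1 : μ ⟨n, hn⟩ ^ b * μ ⟨n, hn⟩ ^ I = 1 := by
          rw [← pow_add, hI, show b + (j - b) = j by omega, hμj]
        calc φ (σ (n * k)⁻¹ v) * W (n * k)
            = (μ ⟨n, hn⟩ ^ b * μ ⟨n, hn⟩ ^ I) * (φ (σ (n * k)⁻¹ v) * W (n * k)) := by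
              rw [hμ1, one_mul]
          _ = μ ⟨n, hn⟩ ^ b * φ (σ (n * k)⁻¹ v) * (μ ⟨n, hn⟩ ^ I * W (n * k)) := by ring
      have hb1d : b - 1 < d := by omega
      have hv1 := key (B.coord ⟨b - 1, hb1d⟩) (fun w hw =>
        (hrange b w).1 hw ⟨b - 1, hb1d⟩ (show b - 1 < b by omega))
      have hWg : W g ≠ 0 := fun e0 => by
        rw [e0, mul_zero, hv, ← hB ⟨b - 1, hb1d⟩, Module.Basis.coord_apply, B.repr_self,
          Finsupp.single_eq_same] at hv1
        exact zero_ne_one hv1
      refine ⟨(W g)⁻¹, exists_smul_of_sep h.reg (by omega) fun φ hφ => ?_⟩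
      rw [map_sub, map_smul, smul_eq_mul, sub_eq_zero, ← key φ hφ, mul_comm (φ _) (W g),
        inv_mul_cancel_left₀ hWg]
  -- all terms below `j`
  have hlow : ∀ c, c < j → InvIdx σ A c := by
    intro c
    induction c using Nat.strong_induction_on with
    | _ c ih =>
      intro hc
      by_contra hcon
      have hc0 : c ≠ 0 := fun e => hcon (e ▸ hinv0)
      have hc1 : c ≠ j - 1 := fun e => hcon (e ▸ hinvj1)
      have hexb : ∃ b, c < b ∧ InvIdx σ A b := ⟨j - 1, by omega, hinvj1⟩
      have hbj : Nat.find hexb ≤ j - 1 := Nat.find_le ⟨by omega, hinvj1⟩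
      obtain ⟨hb1, hb2⟩ := Nat.find_spec hexb
      refine hgap (c - 1) (Nat.find hexb) (by omega) (by omega) (ih (c - 1) (by omega) (by omega))
        hb2 fun k hk1 hk2 hk => ?_
      rcases eq_or_lt_of_le (show c ≤ k by omega) with rfl | hlt
      · exact hcon hk
      · exact Nat.find_min hexb hk2 ⟨hlt, hk⟩
  have hall : ∀ c, InvIdx σ A c := by
    intro c
    induction c using Nat.strong_induction_on with
    | _ c ih =>
      rcases lt_or_ge c j with hc | hc
      · exact hlow c hc
      · rw [show c = j + (c - j) by omega]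
        exact hstep _ (ih (c - j) (by omega))
  exact hall i ⟨g, Subgroup.mem_centralizer_singleton_iff.2 hg⟩

end WeightFrame

end CfsgLib.MaxClassEssential
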