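import Cfsg.Agent.LocalEven48.SPE

/-!
# Strongly embedded subgroups containing a given Sylow subgroup

`IsEmb p M T`: `M` is proper, contains the Sylow subgroup `T` and the normalizer of each of its
nontrivial `p`-subgroups.
-/

set_option autoImplicit false

namespace CfsgLib.MaxClassEssential

open Subgroup

variable {p : ℕ} [hp : Fact p.Prime] {X : Type*} [Group X] [Finite X]

/-- `M` is a strongly `p`-embedded subgroup containing `T`. -/
structure IsEmb (p : ℕ) (M : Subgroup X) (T : Sylow p X) : Prop where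
  ne_top : M ≠ ⊤
  le : (T : Subgroup X) ≤ M
  norm_le : ∀ A : Subgroup X, A ≤ M → IsPGroup p A → A ≠ ⊥ → normalizer (A : Set X) ≤ M

theorem exists_isEmb {Y : Subgroup X} (hY : Cfsg.IsStronglyPEmbedded p Y) (T : Sylow p X) :
    ∃ M : Subgroup X, IsEmb p M T := by
  obtain ⟨P, -, hPY, -⟩ := EvenType.exists_sylow_le_of_isStronglyPEmbedded hY
  obtain ⟨g, hg⟩ := MulAction.exists_smul_eq X P T
  have hc : ∀ (H : Subgroup X) (z : X),
      z ∈ H.map (MulAut.conj g).toMonoidHom ↔ g⁻¹ * z * g ∈ H := fun H z => by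
    constructor
    · rintro ⟨w, hw, rfl⟩
      simpa [mul_assoc] using hw
    · exact fun h => ⟨_, h, by simp [mul_assoc]⟩
  refine ⟨Y.map (MulAut.conj g).toMonoidHom, fun h => hY.2.1 (eq_top_iff.2 fun y _ => ?_),
    fun t ht => (hc Y t).2 (hPY ?_), fun A hA hAp hne n hn => (hc Y n).2 ?_⟩
  · have := (hc Y (g * y * g⁻¹)).1 (h ▸ mem_top _)
    simpa [mul_assoc] using this
  · rw [← hg, Sylow.coe_subgroup_smul, mem_pointwise_smul_iff_inv_smul_mem] at ht
    simpa [MulAut.smul_def] using ht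
  · refine EvenType.normalizer_le_of_isStronglyPEmbedded hY
      (X := A.map (MulAut.conj g⁻¹).toMonoidHom) ?_ (hAp.map _) ?_ ?_
    · rintro _ ⟨a, ha, rfl⟩
      simpa using (hc Y a).1 (hA ha)
    · rwa [ne_eq, map_eq_bot_iff_of_injective _ (MulEquiv.injective _)]
    · rw [mem_normalizer_iff] at hn ⊢
      have hc' : ∀ z : X, z ∈ A.map (MulAut.conj g⁻¹).toMonoidHom ↔ g * z * g⁻¹ ∈ A := fun z => by
        constructor
        · rintro ⟨w, hw, rfl⟩
          simpa [mul_assoc] using hw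
        · exact fun h => ⟨_, h, by simp [mul_assoc]⟩
      intro z
      rw [hc', hc', hn (g * z * g⁻¹)]
      simp [mul_assoc]

variable {M : Subgroup X} {T : Sylow p X}

theorem IsEmb.isStronglyPEmbedded (h : IsEmb p M T) (hdvd : p ∣ Nat.card X) :
    Cfsg.IsStronglyPEmbedded p M :=
  LocalEven.isStronglyPEmbedded_of_normalizersLE h.ne_top
    ((T.dvd_card_of_dvd_card hdvd).trans (card_dvd_of_le h.le)) h.norm_le

/-- An element carrying a nontrivial `p`-element of `M` into `M` lies in `M`. -/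
theorem IsEmb.mem_of_conj (h : IsEmb p M T) {u g : X} (hu : u ∈ M) {e : ℕ} (he : u ^ p ^ e = 1)
    (hu1 : u ≠ 1) (hg : g * u * g⁻¹ ∈ M) : g ∈ M := by
  obtain ⟨i, -, hi⟩ := (Nat.dvd_prime_pow hp.out).1 (orderOf_dvd_of_pow_eq_one he)
  have hi0 : i ≠ 0 := fun h0 => hu1 (orderOf_eq_one_iff.1 (by rw [hi, h0, pow_zero]))
  set w := u ^ p ^ (i - 1) with hw
  have hwp : orderOf w = p := by
    rw [hw, orderOf_pow' u (pow_ne_zero _ hp.out.ne_zero), hi,
      Nat.gcd_eq_right (pow_dvd_pow p (Nat.sub_le i 1)), Nat.pow_div (Nat.sub_le i 1) hp.out.pos,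
      show i - (i - 1) = 1 by omega, pow_one]
  have hdvd : p ∣ Nat.card X := hwp ▸ orderOf_dvd_natCard w
  refine LocalEven48.mem_of_conj_mem (h.isStronglyPEmbedded hdvd) (x := w)
    (M.pow_mem hu _) hwp ?_
  rw [hw, ← conj_pow]
  exact M.pow_mem hg _

/-- An element commuting with a nontrivial `p`-element of `M` lies in `M`. -/
theorem IsEmb.mem_of_commute (h : IsEmb p M T) {u g : X} (hu : u ∈ M) {e : ℕ} (he : u ^ p ^ e = 1)
    (hu1 : u ≠ 1) (hg : g * u = u * g) : g ∈ M :=
  h.mem_of_conj hu he hu1 (by rwa [hg, mul_inv_cancel_right])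

end CfsgLib.MaxClassEssential
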