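import Cfsg.Agent.MaxClassEssential.Basic
import Mathlib.RingTheory.Polynomial.Nilpotent
import Mathlib.LinearAlgebra.FiniteDimensional.Lemmas
import Mathlib.GroupTheory.Sylow
import Mathlib.FieldTheory.Finiteness

/-!
# A regular nilpotent endomorphism and the flag of its images

`IsRegNil N d` says that `N` is a regular nilpotent endomorphism with nilpotency index `d` and a
cyclic vector.  A `p`-group of automorphisms containing `1 + N` lowers the flag `range (N ^ i)`.
-/

set_option autoImplicit false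
set_option linter.style.haveILetI false
set_option maxHeartbeats 400000

namespace CfsgLib.MaxClassEssential

open Polynomial

variable {F : Type*} [Field F] {V : Type*} [AddCommGroup V] [Module F V]

/-- A nilpotent endomorphism with a cyclic vector, of nilpotency index `d`. -/
structure IsRegNil (N : Module.End F V) (d : ℕ) : Prop where
  pow_eq_zero : N ^ d = 0
  pow_pred_ne : N ^ (d - 1) ≠ 0
  cyclic : ∃ v₀ : V, ∀ v : V, ∃ f : F[X], v = Polynomial.aeval N f v₀

theorem aeval_apply_comm (N : Module.End F V) (f g : F[X]) (v : V) :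
    Polynomial.aeval N f (Polynomial.aeval N g v) = Polynomial.aeval N g (Polynomial.aeval N f v) := by
  rw [← Module.End.mul_apply, ← Module.End.mul_apply, ← map_mul, ← map_mul, mul_comm]

theorem pow_apply_aeval (N : Module.End F V) (i : ℕ) (f : F[X]) (v : V) :
    (N ^ i) (Polynomial.aeval N f v) = Polynomial.aeval N f ((N ^ i) v) := by
  have := aeval_apply_comm N (Polynomial.X ^ i) f v
  rwa [map_pow, Polynomial.aeval_X] at this

theorem isRegNil_of_pow_ne [FiniteDimensional F V] {N : Module.End F V} (hnil : IsNilpotent N)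
    {d : ℕ} (hd : Module.finrank F V = d) (hne : N ^ (d - 1) ≠ 0) : IsRegNil N d := by
  classical
  obtain ⟨v₀, hv₀⟩ : ∃ v₀ : V, (N ^ (d - 1)) v₀ ≠ 0 := by
    by_contra h
    push Not at h
    exact hne (LinearMap.ext h)
  have hex : ∃ L, (N ^ L) v₀ = 0 := by
    obtain ⟨k, hk⟩ := hnil
    exact ⟨k, by rw [hk]; rfl⟩
  set L := Nat.find hex with hL
  have hmin : ∀ i < L, (N ^ i) v₀ ≠ 0 := fun i hi => Nat.find_min hex hi
  have hzero : ∀ i, L ≤ i → (N ^ i) v₀ = 0 := fun i hi => by
    rw [show i = i - L + L by omega, pow_add, Module.End.mul_apply,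
      show (N ^ L) v₀ = 0 from Nat.find_spec hex, map_zero]
  have hdL : d ≤ L := by
    by_contra h
    exact hv₀ (hzero _ (by omega))
  have hind : LinearIndependent F fun i : Fin L => (N ^ (i : ℕ)) v₀ := by
    rw [Fintype.linearIndependent_iff]
    intro g hg
    by_contra h
    push Not at h
    obtain ⟨i₀, hi₀⟩ := h
    obtain ⟨i, hi, himin⟩ := (Finset.univ.filter fun i => g i ≠ 0).exists_min_image id
      ⟨i₀, by simp [hi₀]⟩
    rw [Finset.mem_filter] at hi
    have h1 := congrArg (N ^ (L - 1 - (i : ℕ))) hg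
    rw [map_sum, map_zero, Finset.sum_eq_single i] at h1
    · rw [map_smul, ← Module.End.mul_apply, ← pow_add,
        show L - 1 - (i : ℕ) + i = L - 1 by omega] at h1
      have := i.isLt
      exact hmin (L - 1) (by omega) ((smul_eq_zero.1 h1).resolve_left hi.2)
    · intro j _ hji
      rw [map_smul, ← Module.End.mul_apply, ← pow_add]
      by_cases hj : g j = 0
      · rw [hj, zero_smul]
      · have hij : i ≤ j := himin j (by simp [hj])
        have : (i : ℕ) < j := lt_of_le_of_ne hij fun e => hji (Fin.ext e.symm)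
        rw [hzero _ (by omega), smul_zero]
    · simp
  have hLd : L = d := by
    have := hind.fintype_card_le_finrank
    simp only [Fintype.card_fin] at this
    omega
  have hspan : ∀ v : V, ∃ f : F[X], v = Polynomial.aeval N f v₀ := by
    intro v
    have htop : Submodule.span F (Set.range fun i : Fin L => (N ^ (i : ℕ)) v₀) = ⊤ :=
      hind.span_eq_top_of_card_eq_finrank' (by simp [hLd, hd])
    obtain ⟨c, hc⟩ := Submodule.mem_span_range_iff_exists_fun F |>.1
      (show v ∈ Submodule.span F (Set.range fun i : Fin L => (N ^ (i : ℕ)) v₀) from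
        htop ▸ Submodule.mem_top)
    refine ⟨∑ i, Polynomial.C (c i) * Polynomial.X ^ (i : ℕ), ?_⟩
    rw [← hc, map_sum, LinearMap.sum_apply]
    exact Finset.sum_congr rfl fun i _ => by simp
  refine ⟨LinearMap.ext fun v => ?_, hne, v₀, hspan⟩
  obtain ⟨f, rfl⟩ := hspan v
  have := aeval_apply_comm N (Polynomial.X ^ d) f v₀
  rw [map_pow, Polynomial.aeval_X, hzero _ (by omega), map_zero] at this
  exact this

variable {N : Module.End F V} {d : ℕ}

theorem IsRegNil.pos (h : IsRegNil N d) : 0 < d := by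
  rcases Nat.eq_zero_or_pos d with rfl | h0
  · exact absurd h.pow_eq_zero h.pow_pred_ne
  · exact h0

theorem IsRegNil.pow_eq_zero_iff (h : IsRegNil N d) {i : ℕ} : N ^ i = 0 ↔ d ≤ i :=
  ⟨fun hi => by
    by_contra hlt
    exact h.pow_pred_ne (pow_eq_zero_of_le (by omega) hi),
    fun hi => pow_eq_zero_of_le hi h.pow_eq_zero⟩

theorem IsRegNil.isUnit_aeval (h : IsRegNil N d) {g : F[X]} (hg : g.coeff 0 ≠ 0) :
    IsUnit (Polynomial.aeval N g) := by
  obtain ⟨g', hg'⟩ := Polynomial.X_dvd_sub_C (p := g)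
  rw [← sub_add_cancel g (Polynomial.C (g.coeff 0)), hg', map_add, map_mul, Polynomial.aeval_X,
    Polynomial.aeval_C]
  refine IsNilpotent.isUnit_add_right_of_commute ?_
    ((Ne.isUnit hg).map (algebraMap F (Module.End F V))) ?_
  · refine Commute.isNilpotent_mul_right ?_ ⟨d, h.pow_eq_zero⟩
    have h2 : Polynomial.aeval N (Polynomial.X * g') = Polynomial.aeval N (g' * Polynomial.X) := by
      rw [mul_comm]
    rw [map_mul, map_mul, Polynomial.aeval_X] at h2
    exact h2
  · exact (Algebra.commute_algebraMap_left _ _).symm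

/-- `N ^ q g(N)` with `g(0) ≠ 0` vanishes only if `d ≤ q`. -/
theorem IsRegNil.pow_mul_aeval_eq_zero (h : IsRegNil N d) {g : F[X]} (hg : g.coeff 0 ≠ 0) {q : ℕ}
    (hz : N ^ q * Polynomial.aeval N g = 0) : d ≤ q :=
  h.pow_eq_zero_iff.1 ((h.isUnit_aeval hg).mul_left_eq_zero.1 hz)

/-- A polynomial in `N` is `0` or `N ^ q g(N)` with `q < d` and `g(0) ≠ 0`. -/
theorem IsRegNil.normal_form (h : IsRegNil N d) (f : F[X]) :
    Polynomial.aeval N f = 0 ∨ ∃ q g, q < d ∧ g.coeff 0 ≠ 0 ∧
      f = Polynomial.X ^ q * g ∧ Polynomial.aeval N f = N ^ q * Polynomial.aeval N g := by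
  rcases eq_or_ne f 0 with rfl | hf
  · exact Or.inl (map_zero _)
  obtain ⟨g, hg, hnd⟩ := f.exists_eq_pow_rootMultiplicity_mul_and_not_dvd hf 0
  rw [map_zero, sub_zero] at hg hnd
  set q := f.rootMultiplicity 0
  have he : Polynomial.aeval N f = N ^ q * Polynomial.aeval N g := by
    rw [hg, map_mul, map_pow, Polynomial.aeval_X]
  rcases lt_or_ge q d with hq | hq
  · exact Or.inr ⟨q, g, hq, fun h0 => hnd (Polynomial.X_dvd_iff.2 h0), hg, he⟩
  · exact Or.inl (by rw [he, h.pow_eq_zero_iff.2 hq, zero_mul])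

/-- An endomorphism commuting with `N` is a polynomial in `N`. -/
theorem IsRegNil.exists_aeval (h : IsRegNil N d) {A : Module.End F V} (hA : A * N = N * A) :
    ∃ f : F[X], A = Polynomial.aeval N f := by
  obtain ⟨v₀, hv₀⟩ := h.cyclic
  obtain ⟨f, hf⟩ := hv₀ (A v₀)
  refine ⟨f, LinearMap.ext fun v => ?_⟩
  obtain ⟨g, rfl⟩ := hv₀ v
  have hc : A * Polynomial.aeval N g = Polynomial.aeval N g * A := by
    induction g using Polynomial.induction_on' with
    | add a b ha hb => rw [map_add, mul_add, add_mul, ha, hb]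
    | monomial i a =>
      rw [Polynomial.aeval_monomial]
      exact (((Algebra.commute_algebraMap_left a A).symm).mul_right
        ((show Commute A N from hA).pow_right i)).eq
  rw [← Module.End.mul_apply, hc, Module.End.mul_apply, hf, aeval_apply_comm]

theorem IsRegNil.commute_of_commute (h : IsRegNil N d) {A B : Module.End F V}
    (hA : A * N = N * A) (hB : B * N = N * B) : A * B = B * A := by
  obtain ⟨f, rfl⟩ := h.exists_aeval hA
  obtain ⟨g, rfl⟩ := h.exists_aeval hB
  rw [← map_mul, ← map_mul, mul_comm]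

theorem IsRegNil.ker_pow (h : IsRegNil N d) {i : ℕ} (hi : i ≤ d) :
    LinearMap.ker (N ^ i) = LinearMap.range (N ^ (d - i)) := by
  refine le_antisymm (fun v hv => ?_) ?_
  · rw [LinearMap.mem_ker] at hv
    obtain ⟨v₀, hv₀⟩ := h.cyclic
    obtain ⟨f, rfl⟩ := hv₀ v
    rcases h.normal_form f with h0 | ⟨q, g, hq, hg, -, he⟩
    · rw [h0, LinearMap.zero_apply]; exact Submodule.zero_mem _
    · have h1 : N ^ (i + q) * Polynomial.aeval N g = 0 := by
        refine LinearMap.ext fun w => ?_
        obtain ⟨k, rfl⟩ := hv₀ w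
        rw [pow_add, mul_assoc, ← he, Module.End.mul_apply, aeval_apply_comm, pow_apply_aeval, hv,
          map_zero, LinearMap.zero_apply]
      have h2 := h.pow_mul_aeval_eq_zero hg h1
      rw [he, Module.End.mul_apply, show q = d - i + (q - (d - i)) by omega, pow_add,
        Module.End.mul_apply]
      exact ⟨_, rfl⟩
  · rintro v ⟨w, rfl⟩
    rw [LinearMap.mem_ker, ← Module.End.mul_apply, ← pow_add,
      show i + (d - i) = d by omega, h.pow_eq_zero, LinearMap.zero_apply]

/-- The layers of the flag are at most one dimensional. -/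
theorem IsRegNil.exists_layer (h : IsRegNil N d) :
    ∃ v₀ : V, (N ^ (d - 1)) v₀ ≠ 0 ∧ ∀ i, ∀ v ∈ LinearMap.range (N ^ i),
      ∃ c : F, v - c • (N ^ i) v₀ ∈ LinearMap.range (N ^ (i + 1)) := by
  obtain ⟨v₀, hv₀⟩ := h.cyclic
  refine ⟨v₀, fun h0 => h.pow_pred_ne (LinearMap.ext fun v => ?_), ?_⟩
  · obtain ⟨f, rfl⟩ := hv₀ v
    rw [pow_apply_aeval, h0, map_zero]
    rfl
  · rintro i v ⟨w, rfl⟩
    obtain ⟨f, rfl⟩ := hv₀ w
    obtain ⟨g, hg⟩ := Polynomial.X_dvd_sub_C (p := f)
    refine ⟨f.coeff 0, Polynomial.aeval N g v₀, ?_⟩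
    have hf : Polynomial.aeval N f v₀ = f.coeff 0 • v₀ + N (Polynomial.aeval N g v₀) := by
      have h2 : f = Polynomial.C (f.coeff 0) + Polynomial.X * g := by rw [← hg]; ring
      conv_lhs => rw [h2]
      simp
    rw [hf, map_add, map_smul, add_sub_cancel_left, pow_succ, Module.End.mul_apply]

section PGroup

variable {p : ℕ} [hp : Fact p.Prime] {X : Type*} [Group X] {V : Type*} [AddCommGroup V]
  [Module (ZMod p) V] [Finite V] (ρ : X →* Module.End (ZMod p) V)

/-- A `p`-group containing a regular unipotent element lowers its flag. -/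
theorem lowers_of_isPGroup {T : Subgroup X} [Finite T] (hT : IsPGroup p T) {x : X} (hx : x ∈ T)
    {d : ℕ} (h : IsRegNil (ρ x - 1) d) {t : X} (ht : t ∈ T) :
    ∀ i, ∀ v ∈ LinearMap.range ((ρ x - 1) ^ i), ρ t v - v ∈ LinearMap.range ((ρ x - 1) ^ (i + 1)) := by
  set N := ρ x - 1 with hN
  have key : ∀ i, i < d → ∀ t ∈ T, ∀ v, (N ^ (i + 1)) v = 0 → (N ^ i) (ρ t v - v) = 0 := by
    intro i
    induction i using Nat.strong_induction_on with
    | _ i ih =>
    intro hid
    have hinv : ∀ t ∈ T, ∀ v, (N ^ i) v = 0 → (N ^ i) (ρ t v) = 0 := by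
      intro t ht v hv
      rcases Nat.eq_zero_or_pos i with rfl | hi
      · rw [pow_zero, Module.End.one_apply] at hv
        rw [hv, map_zero, map_zero]
      · have h1 := ih (i - 1) (by omega) (by omega) t ht v
          (by rw [show i - 1 + 1 = i by omega]; exact hv)
        have h2 : (N ^ i) (ρ t v - v) = 0 := by
          rw [show i = 1 + (i - 1) by omega, pow_add, Module.End.mul_apply, h1, map_zero]
        rwa [map_sub, hv, sub_zero] at h2
    set K := LinearMap.ker (N ^ i)
    letI : MulAction T (V ⧸ K) :=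
      { smul := fun t q => K.mapQ K (ρ t) (fun v hv => hinv t t.2 v hv) q
        one_smul := fun q => by
          induction q using Submodule.Quotient.induction_on with
          | H v =>
            show Submodule.Quotient.mk (ρ ((1 : T) : X) v) = (Submodule.Quotient.mk v : V ⧸ K)
            rw [OneMemClass.coe_one, map_one, Module.End.one_apply]
        mul_smul := fun a b q => by
          induction q using Submodule.Quotient.induction_on with
          | H v =>
            show Submodule.Quotient.mk (ρ ((a * b : T) : X) v) =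
              (Submodule.Quotient.mk (ρ (a : X) (ρ (b : X) v)) : V ⧸ K)
            rw [Subgroup.coe_mul, map_mul, Module.End.mul_apply] }
    have hKtop : K ≠ ⊤ := fun htop => by
      have := h.pow_eq_zero_iff.1 (LinearMap.ker_eq_top.1 htop)
      omega
    haveI : Nontrivial (V ⧸ K) := Submodule.Quotient.nontrivial_iff.2 hKtop
    haveI : Finite (V ⧸ K) := Finite.of_surjective _ (Submodule.mkQ_surjective K)
    have hdvd : p ∣ Nat.card (V ⧸ K) := by
      rw [Module.natCard_eq_pow_finrank (K := ZMod p), Nat.card_zmod]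
      exact dvd_pow_self p (Module.finrank_pos).ne'
    obtain ⟨b, hb, hb0⟩ := hT.exists_fixed_point_of_prime_dvd_card_of_fixed_point (V ⧸ K) hdvd
      (a := 0) (fun t => map_zero (K.mapQ K (ρ (t : X)) _))
    obtain ⟨w, rfl⟩ := Submodule.Quotient.mk_surjective K b
    have hw : ∀ t ∈ T, (N ^ i) (ρ t w - w) = 0 := fun t ht => by
      have := hb ⟨t, ht⟩
      change (Submodule.Quotient.mk (ρ t w) : V ⧸ K) = Submodule.Quotient.mk w at this
      rw [Submodule.Quotient.eq] at this
      exact this
    have hw1 : (N ^ (i + 1)) w = 0 := by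
      have := hw x hx
      rw [pow_succ, Module.End.mul_apply, hN, LinearMap.sub_apply, Module.End.one_apply]
      exact this
    have hw0 : (N ^ i) w ≠ 0 := fun h0 =>
      hb0 ((Submodule.Quotient.mk_eq_zero K).2 (LinearMap.mem_ker.2 h0)).symm
    obtain ⟨v₀, -, hlayer⟩ := h.exists_layer
    have hmem : ∀ u, (N ^ (i + 1)) u = 0 → ∃ c : ZMod p,
        (N ^ i) (u - c • (N ^ (d - (i + 1))) v₀) = 0 := by
      intro u hu
      have hu' : u ∈ LinearMap.range (N ^ (d - (i + 1))) := by
        rw [← h.ker_pow (i := i + 1) (by omega)]; exact hu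
      obtain ⟨c, hc⟩ := hlayer _ u hu'
      refine ⟨c, ?_⟩
      obtain ⟨s, hs⟩ := hc
      rw [← hs, ← Module.End.mul_apply, ← pow_add, h.pow_eq_zero_iff.2 (by omega)]
      rfl
    intro t ht v hv
    obtain ⟨c, hc⟩ := hmem v hv
    obtain ⟨e, he⟩ := hmem w hw1
    have he0 : e ≠ 0 := fun h0 => hw0 (by simpa [h0] using he)
    have hdiff : (N ^ i) (v - (c * e⁻¹) • w) = 0 := by
      have : v - (c * e⁻¹) • w = (v - c • (N ^ (d - (i + 1))) v₀) -
          (c * e⁻¹) • (w - e • (N ^ (d - (i + 1))) v₀) := by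
        rw [smul_sub, smul_smul, inv_mul_cancel_right₀ he0]
        abel
      rw [this, map_sub, map_smul, hc, he, smul_zero, sub_zero]
    have h3 := hinv t ht _ hdiff
    have h4 := hw t ht
    rw [map_sub, sub_eq_zero] at h4 ⊢
    rw [map_sub, map_sub, sub_eq_zero, map_smul, map_smul, h4] at h3
    rw [map_sub, sub_eq_zero, map_smul] at hdiff
    rw [h3, hdiff]
  intro i v hv
  rcases lt_or_ge i d with hid | hid
  · rw [← Nat.sub_sub_self hid.le, ← h.ker_pow (Nat.sub_le _ _)] at hv
    rw [show i + 1 = d - (d - i - 1) by omega, ← h.ker_pow (by omega)]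
    exact key (d - i - 1) (by omega) t ht v (by
      rw [show d - i - 1 + 1 = d - i by omega]; exact hv)
  · rw [h.pow_eq_zero_iff.2 hid] at hv
    obtain ⟨w, rfl⟩ := hv
    simp

end PGroup

end CfsgLib.MaxClassEssential
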