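import Mathlib.GroupTheory.Sylow
import Mathlib.GroupTheory.GroupAction.Quotient
import Mathlib.Algebra.CharP.Lemmas
import Mathlib.Algebra.Polynomial.AlgebraMap
import Mathlib.RingTheory.Polynomial.Basic

/-!
# Transfer of functions invariant under a Sylow normalizer

* `eq_of_transfer`: a function on `G` invariant under left translation by `N_G(T)` is constant if its
  sums over the free orbits of a subgroup of `T` vanish.
* `DegLT x y j m f`: `f` has degree less than `m` for the difference operators of the commuting
  elements `x` (weight one) and `y` (weight `j`); products add degrees and the sums over `⟨x⟩`, resp.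
  `⟨x⟩ × ⟨y⟩`, of functions of degree at most `p - 1`, resp. `(p - 1) (1 + j)`, vanish.
-/

set_option autoImplicit false
set_option linter.style.haveILetI false

namespace CfsgLib.MaxClassEssential

variable {p : ℕ} [hp : Fact p.Prime] {G : Type*} [Group G] {R : Type*} [Field R]

section Operators

/-- Left translation of functions. -/
def shiftOp (t : G) : Module.End R (G → R) := LinearMap.funLeft R R (t * ·)

/-- The difference operator of `t`. -/
def diffOp (t : G) : Module.End R (G → R) := shiftOp t - 1

theorem shiftOp_apply (t : G) (f : G → R) (g : G) : shiftOp t f g = f (t * g) := rfl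

theorem diffOp_apply (t : G) (f : G → R) (g : G) : diffOp t f g = f (t * g) - f g := rfl

theorem shiftOp_one : shiftOp (R := R) (1 : G) = 1 :=
  LinearMap.ext fun f => funext fun g => by rw [shiftOp_apply, one_mul]; rfl

theorem shiftOp_pow (t : G) (a : ℕ) : shiftOp (R := R) t ^ a = shiftOp (t ^ a) := by
  induction a with
  | zero => rw [pow_zero, pow_zero, shiftOp_one]
  | succ a ih =>
    rw [pow_succ, ih]
    refine LinearMap.ext fun f => funext fun g => ?_
    rw [Module.End.mul_apply, shiftOp_apply, shiftOp_apply, shiftOp_apply, pow_succ', mul_assoc]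

theorem shiftOp_commute {s t : G} (h : s * t = t * s) :
    Commute (shiftOp (R := R) s) (shiftOp t) := by
  refine LinearMap.ext fun f => funext fun g => ?_
  rw [Module.End.mul_apply, Module.End.mul_apply, shiftOp_apply, shiftOp_apply, shiftOp_apply,
    shiftOp_apply, ← mul_assoc, ← mul_assoc, h]

theorem diffOp_commute {s t : G} (h : s * t = t * s) : Commute (diffOp (R := R) s) (diffOp t) :=
  ((shiftOp_commute h).sub_left (Commute.one_left _)).sub_right
    ((Commute.one_right _).sub_left (Commute.one_right _))

theorem shiftOp_diffOp_commute {s t : G} (h : s * t = t * s) :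
    Commute (shiftOp (R := R) s) (diffOp t) :=
  (shiftOp_commute h).sub_right (Commute.one_right _)

theorem diffOp_mul (t : G) (f g : G → R) :
    diffOp t (f * g) = diffOp t f * shiftOp t g + f * diffOp t g := by
  refine funext fun h => ?_
  simp only [diffOp_apply, shiftOp_apply, Pi.mul_apply, Pi.add_apply]
  ring

/-- `f` has degree less than `m` for the difference operators of `x` and `y`, of weights `1`, `j`. -/
def DegLT (x y : G) (j m : ℕ) (f : G → R) : Prop :=
  ∀ a b, m ≤ a + j * b → (diffOp x ^ a * diffOp y ^ b : Module.End R (G → R)) f = 0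

variable {x y : G} {j : ℕ}

theorem DegLT.mono {m n : ℕ} {f : G → R} (h : DegLT x y j m f) (hmn : m ≤ n) : DegLT x y j n f :=
  fun a b hab => h a b (hmn.trans hab)

theorem DegLT.add {m : ℕ} {f g : G → R} (hf : DegLT x y j m f) (hg : DegLT x y j m g) :
    DegLT x y j m (f + g) := fun a b hab => by rw [map_add, hf a b hab, hg a b hab, add_zero]

theorem DegLT.sum {ι : Type*} {s : Finset ι} {m : ℕ} {f : ι → G → R}
    (h : ∀ i ∈ s, DegLT x y j m (f i)) : DegLT x y j m (∑ i ∈ s, f i) := fun a b hab => by
  rw [map_sum]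
  exact Finset.sum_eq_zero fun i hi => h i hi a b hab

theorem DegLT.eq_zero {f : G → R} (h : DegLT x y j 0 f) : f = 0 := by
  simpa using h 0 0 (Nat.zero_le _)

theorem degLT_const (c : R) : DegLT x y j 1 (fun _ => c) := by
  intro a b hab
  have hz : ∀ t : G, diffOp (R := R) t (fun _ => c) = 0 := fun t =>
    funext fun g => by rw [diffOp_apply, sub_self]; rfl
  rcases Nat.eq_zero_or_pos b with rfl | hb
  · obtain ⟨a, rfl⟩ : ∃ a', a = a' + 1 := ⟨a - 1, by omega⟩
    rw [pow_zero, mul_one, pow_succ, Module.End.mul_apply, hz, map_zero]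
  · obtain ⟨b, rfl⟩ : ∃ b', b = b' + 1 := ⟨b - 1, by omega⟩
    rw [pow_succ (diffOp y), ← mul_assoc, Module.End.mul_apply, hz, map_zero]

theorem DegLT.mul_aux (hxy : x * y = y * x) : ∀ (k a b : ℕ), a + b = k → ∀ (m n : ℕ) (f g : G → R),
    DegLT x y j m f → DegLT x y j n g → m + n ≤ a + j * b + 1 →
    (diffOp x ^ a * diffOp y ^ b : Module.End R (G → R)) (f * g) = 0 := by
  intro k
  induction k with
  | zero =>
    intro a b hab m n f g hf hg hle
    obtain ⟨rfl, rfl⟩ : a = 0 ∧ b = 0 := by omega
    rcases Nat.eq_zero_or_pos m with rfl | hm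
    · rw [hf.eq_zero, zero_mul, map_zero]
    · obtain rfl : n = 0 := by omega
      rw [hg.eq_zero, mul_zero, map_zero]
  | succ k ih =>
    intro a b hab m n f g hf hg hle
    rcases Nat.eq_zero_or_pos m with rfl | hm
    · rw [hf.eq_zero, zero_mul, map_zero]
    rcases Nat.eq_zero_or_pos n with rfl | hn
    · rw [hg.eq_zero, mul_zero, map_zero]
    rcases a with _ | a
    · obtain ⟨b, rfl⟩ : ∃ b', b = b' + 1 := ⟨b - 1, by omega⟩
      rw [pow_succ (diffOp y), ← mul_assoc, Module.End.mul_apply, diffOp_mul, map_add]
      have hshift : DegLT x y j n (shiftOp y g) := fun a' b' h' => by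
        rw [← Module.End.mul_apply,
          ← ((((shiftOp_diffOp_commute hxy.symm).pow_right a').mul_right
            ((shiftOp_diffOp_commute rfl).pow_right b'))).eq,
          Module.End.mul_apply, hg a' b' h', map_zero]
      have hdf : DegLT x y j (m - j) (diffOp y f) := fun a' b' h' => by
        rw [← Module.End.mul_apply, mul_assoc, ← pow_succ]
        exact hf a' (b' + 1) (by rw [Nat.mul_succ]; omega)
      have hdg : DegLT x y j (n - j) (diffOp y g) := fun a' b' h' => by
        rw [← Module.End.mul_apply, mul_assoc, ← pow_succ]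
        exact hg a' (b' + 1) (by rw [Nat.mul_succ]; omega)
      rw [Nat.mul_succ] at hle
      have hz1 : (diffOp x ^ 0 * diffOp y ^ b : Module.End R (G → R))
          (diffOp y f * shiftOp y g) = 0 := by
        rcases le_or_gt m j with hmj | hmj
        · rw [Nat.sub_eq_zero_of_le hmj] at hdf
          rw [hdf.eq_zero, zero_mul, map_zero]
        · exact ih 0 b (by omega) _ _ _ _ hdf hshift (by omega)
      have hz2 : (diffOp x ^ 0 * diffOp y ^ b : Module.End R (G → R)) (f * diffOp y g) = 0 := by
        rcases le_or_gt n j with hnj | hnj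
        · rw [Nat.sub_eq_zero_of_le hnj] at hdg
          rw [hdg.eq_zero, mul_zero, map_zero]
        · exact ih 0 b (by omega) _ _ _ _ hf hdg (by omega)
      rw [hz1, hz2, add_zero]
    · rw [pow_succ (diffOp x), mul_assoc, ((diffOp_commute hxy).pow_right b).eq, ← mul_assoc,
        Module.End.mul_apply, diffOp_mul, map_add]
      have hshift : DegLT x y j n (shiftOp x g) := fun a' b' h' => by
        rw [← Module.End.mul_apply,
          ← ((((shiftOp_diffOp_commute rfl).pow_right a').mul_right
            ((shiftOp_diffOp_commute hxy).pow_right b'))).eq,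
          Module.End.mul_apply, hg a' b' h', map_zero]
      have hdf : DegLT x y j (m - 1) (diffOp x f) := fun a' b' h' => by
        rw [← Module.End.mul_apply, mul_assoc,
          ← ((diffOp_commute hxy).pow_right b').eq, ← mul_assoc, ← pow_succ]
        exact hf (a' + 1) b' (by omega)
      have hdg : DegLT x y j (n - 1) (diffOp x g) := fun a' b' h' => by
        rw [← Module.End.mul_apply, mul_assoc,
          ← ((diffOp_commute hxy).pow_right b').eq, ← mul_assoc, ← pow_succ]
        exact hg (a' + 1) b' (by omega)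
      rw [ih a b (by omega) _ _ _ _ hdf hshift (by omega), ih a b (by omega) _ _ _ _ hf hdg (by omega),
        add_zero]

theorem DegLT.mul (hxy : x * y = y * x) {m n k : ℕ} {f g : G → R} (hf : DegLT x y j m f)
    (hg : DegLT x y j n g) (hk : m + n ≤ k + 1) : DegLT x y j k (f * g) :=
  fun a b hab => DegLT.mul_aux hxy _ a b rfl m n f g hf hg (by omega)

theorem DegLT.prod (hxy : x * y = y * x) {ι : Type*} (s : Finset ι) {n : ι → ℕ} {f : ι → G → R}
    (h : ∀ i ∈ s, DegLT x y j (n i + 1) (f i)) : DegLT x y j ((∑ i ∈ s, n i) + 1) (∏ i ∈ s, f i) := by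
  classical
  induction s using Finset.induction_on with
  | empty =>
    rw [Finset.prod_empty, Finset.sum_empty]
    exact degLT_const (x := x) (y := y) (j := j) (1 : R)
  | insert i s hi ih =>
    rw [Finset.sum_insert hi, Finset.prod_insert hi]
    exact (h i (Finset.mem_insert_self i s)).mul hxy
      (ih fun k hk => h k (Finset.mem_insert_of_mem hk)) (by omega)

variable [CharP R p]

theorem geom_sum_eq_sub_pow (t : Module.End R (G → R)) :
    ∑ a ∈ Finset.range p, t ^ a = (t - 1) ^ (p - 1) := by
  have h : ∑ a ∈ Finset.range p, (Polynomial.X : Polynomial R) ^ a =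
      (Polynomial.X - 1) ^ (p - 1) := by
    have hne : (Polynomial.X - 1 : Polynomial R) ≠ 0 := by
      simpa using Polynomial.X_sub_C_ne_zero (1 : R)
    refine mul_right_cancel₀ hne ?_
    rw [geom_sum_mul, ← pow_succ, Nat.sub_add_cancel hp.out.one_le, sub_pow_char, one_pow]
  have h2 := congrArg (Polynomial.aeval t) h
  simpa using h2

theorem sum_shift_eq_zero {m : ℕ} {f : G → R} (hf : DegLT x y j m f) (hm : m ≤ p - 1) (k : G) :
    ∑ a ∈ Finset.range p, f (x ^ a * k) = 0 := by
  have h := congrFun (hf (p - 1) 0 (by omega)) k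
  rw [pow_zero, mul_one, diffOp, ← geom_sum_eq_sub_pow, LinearMap.sum_apply, Finset.sum_apply] at h
  simpa [shiftOp_pow, shiftOp_apply] using h

theorem sum_shift_eq_zero' {m : ℕ} {f : G → R} (hf : DegLT x y j m f)
    (hm : m ≤ (p - 1) * (1 + j)) (k : G) :
    ∑ a ∈ Finset.range p, ∑ b ∈ Finset.range p, f (y ^ b * (x ^ a * k)) = 0 := by
  have h := congrFun (hf (p - 1) (p - 1) (by rw [mul_add, mul_one, mul_comm] at hm; exact hm)) k
  rw [diffOp, diffOp, ← geom_sum_eq_sub_pow, ← geom_sum_eq_sub_pow, Module.End.mul_apply,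
    LinearMap.sum_apply, Finset.sum_apply] at h
  simpa [shiftOp_pow, shiftOp_apply, LinearMap.sum_apply] using h

end Operators

section Transfer

variable [Finite G] [CharP R p]

open scoped Classical in
theorem eq_of_transfer (T : Sylow p G) {P : Subgroup G} [Fintype P] (hP : P ≤ (T : Subgroup G))
    (w : G → R)
    (hinv : ∀ n ∈ Subgroup.normalizer ((T : Subgroup G) : Set G), ∀ g, w (n * g) = w g)
    (hfree : ∀ g ∉ Subgroup.normalizer ((T : Subgroup G) : Set G), ∀ t ∈ P,
      g⁻¹ * t * g ∈ (T : Subgroup G) → t = 1)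
    (hvan : ∀ g ∉ Subgroup.normalizer ((T : Subgroup G) : Set G), ∀ k,
      ∑ t : P, w (g⁻¹ * ((t : G) * k)) = 0) (g : G) : w g = w 1 := by
  set N := Subgroup.normalizer ((T : Subgroup G) : Set G) with hN
  letI : Fintype (G ⧸ (T : Subgroup G)) := Fintype.ofFinite _
  have hTN : (T : Subgroup G) ≤ N := Subgroup.le_normalizer
  have hout : ∀ (a : G) (k : G), w ((Quotient.out (a : G ⧸ (T : Subgroup G)))⁻¹ * k) = w (a⁻¹ * k) := by
    intro a k
    obtain ⟨t, ht⟩ := QuotientGroup.mk_out_eq_mul (T : Subgroup G) a
    rw [ht, mul_inv_rev, mul_assoc, hinv _ (hTN (inv_mem t.2))]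
  let F : G → R := fun k => ∑ c : G ⧸ (T : Subgroup G), w ((Quotient.out c)⁻¹ * k)
  have hF : F g = F 1 := by
    refine Fintype.sum_equiv (MulAction.toPerm g⁻¹) _ _ fun c => ?_
    induction c using QuotientGroup.induction_on with
    | H a =>
      rw [MulAction.toPerm_apply, MulAction.Quotient.smul_coe, smul_eq_mul, hout, hout]
      simp [mul_assoc]
  have hfix : ∀ a : G, (a : G ⧸ (T : Subgroup G)) ∈
      (Finset.univ.filter fun c : G ⧸ (T : Subgroup G) => Quotient.out c ∈ N) ↔ a ∈ N := by
    intro a
    rw [Finset.mem_filter]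
    obtain ⟨t, ht⟩ := QuotientGroup.mk_out_eq_mul (T : Subgroup G) a
    simp only [Finset.mem_univ, true_and, ht]
    exact N.mul_mem_cancel_right (hTN t.2)
  set S := Finset.univ.filter fun c : G ⧸ (T : Subgroup G) => Quotient.out c ∈ N with hS
  have hval : ∀ k, F k = (S.card : R) * w k := by
    intro k
    have h1 : ∑ c ∈ S, w ((Quotient.out c)⁻¹ * k) = (S.card : R) * w k := by
      rw [Finset.sum_congr rfl (fun c hc => hinv _ (inv_mem (Finset.mem_filter.1 hc).2) k),
        Finset.sum_const, nsmul_eq_mul]
    have h2 : ∑ c ∈ Sᶜ, w ((Quotient.out c)⁻¹ * k) = 0 := by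
      rw [← Finset.sum_fiberwise_of_maps_to
        (g := fun c : G ⧸ (T : Subgroup G) => MulAction.orbit P c)
        (t := (Sᶜ).image fun c => MulAction.orbit P c)
        (fun c hc => Finset.mem_image_of_mem _ hc)]
      refine Finset.sum_eq_zero fun O hO => ?_
      obtain ⟨c, hc, rfl⟩ := Finset.mem_image.1 hO
      induction c using QuotientGroup.induction_on with
      | H a =>
        have ha : a ∉ N := fun h => (Finset.mem_compl.1 hc) ((hfix a).2 h)
        rw [← hvan a ha k]
        symm
        refine Finset.sum_bij (fun t _ => (((t : G)⁻¹ * a : G) : G ⧸ (T : Subgroup G)))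
          (fun t _ => ?_) (fun s _ t _ hst => ?_) (fun c hc' => ?_) (fun t _ => ?_)
        · rw [Finset.mem_filter, Finset.mem_compl, hfix]
          refine ⟨fun h => ha ?_, ?_⟩
          · simpa using N.mul_mem (hTN (hP t.2)) h
          · exact MulAction.orbit_eq_iff.2 ⟨t⁻¹, rfl⟩
        · rw [QuotientGroup.eq] at hst
          have h3 := hfree a ha ((s : G) * (t : G)⁻¹) (P.mul_mem s.2 (P.inv_mem t.2))
            (by simpa [mul_assoc] using hst)
          exact Subtype.ext (mul_inv_eq_one.1 h3)
        · obtain ⟨t, ht⟩ := MulAction.orbit_eq_iff.1 (Finset.mem_filter.1 hc').2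
          refine ⟨t⁻¹, Finset.mem_univ _, ?_⟩
          rw [← ht]
          show ((((t⁻¹ : P) : G)⁻¹ * a : G) : G ⧸ (T : Subgroup G)) = _
          rw [Subgroup.coe_inv, inv_inv]
          rfl
        · rw [hout, mul_inv_rev, inv_inv, mul_assoc]
    rw [show F k = ∑ c : G ⧸ (T : Subgroup G), w ((Quotient.out c)⁻¹ * k) from rfl,
      ← Finset.sum_add_sum_compl S, h1, h2, add_zero]
  have hcard : S.card = (T : Subgroup G).relIndex N := by
    rw [Subgroup.relIndex, Subgroup.index, ← Nat.card_eq_finsetCard]
    refine (Nat.card_congr (Equiv.ofBijective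
      (fun c : N ⧸ (T : Subgroup G).subgroupOf N =>
        (⟨Quotient.map' (fun a : N => (a : G)) (fun a b h => by
            rw [QuotientGroup.leftRel_apply] at h ⊢
            exact h) c, by
          induction c using QuotientGroup.induction_on with
          | H a => exact (hfix _).2 a.2⟩ : S))
      ⟨fun a b h => ?_, fun c => ?_⟩)).symm
    · induction a using QuotientGroup.induction_on with
      | H a =>
        induction b using QuotientGroup.induction_on with
        | H b =>
          have h' : ((a : G) : G ⧸ (T : Subgroup G)) = ((b : G) : G ⧸ (T : Subgroup G)) :=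
            congrArg Subtype.val h
          rw [QuotientGroup.eq] at h' ⊢
          exact h'
    · obtain ⟨c, hc⟩ := c
      exact ⟨((⟨Quotient.out c, (Finset.mem_filter.1 hc).2⟩ : N) : N ⧸ _),
        Subtype.ext (by exact QuotientGroup.out_eq' c)⟩
  have hne : (S.card : R) ≠ 0 := by
    rw [hcard, ne_eq, CharP.cast_eq_zero_iff R p]
    exact fun h => T.not_dvd_index (h.trans (Subgroup.relIndex_dvd_index_of_le hTN))
  rw [hval, hval] at hF
  exact mul_left_cancel₀ hne hF

end Transfer

end CfsgLib.MaxClassEssential
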