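import Cfsg.Agent.MaxClassEssential.WeightFrame
import Cfsg.Agent.MaxClassEssential.Transfer

/-!
# Products of linear functions on the flag

Matrix coefficients of a representation, as functions on the group, and their degree for the
difference operators of two commuting elements that shift the flag by `1` and `j`.
-/

set_option autoImplicit false
set_option linter.style.haveILetI false
set_option maxHeartbeats 400000

namespace CfsgLib.MaxClassEssential

variable {F : Type*} [Field F] {G : Type*} [Group G] {V : Type*} [AddCommGroup V] [Module F V]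
  (ρ : G →* Module.End F V) (A : Module.End F V)

/-- The `i`-th term of the flag is invariant. -/
def InvIdx (i : ℕ) : Prop :=
  ∀ g : G, ∀ v ∈ LinearMap.range (A ^ i), ρ g v ∈ LinearMap.range (A ^ i)

/-- `x` and `y` commute and shift the flag by `1` and `j`, as their inverses do. -/
structure Shifts (x y : G) (j : ℕ) : Prop where
  comm : x * y = y * x
  sx : ∀ i, ∀ v ∈ LinearMap.range (A ^ i), (ρ x - 1) v ∈ LinearMap.range (A ^ (i + 1))
  sx' : ∀ i, ∀ v ∈ LinearMap.range (A ^ i), (ρ x⁻¹ - 1) v ∈ LinearMap.range (A ^ (i + 1))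
  sy : ∀ i, ∀ v ∈ LinearMap.range (A ^ i), (ρ y - 1) v ∈ LinearMap.range (A ^ (i + j))
  sy' : ∀ i, ∀ v ∈ LinearMap.range (A ^ i), (ρ y⁻¹ - 1) v ∈ LinearMap.range (A ^ (i + j))

/-- All left translates of `f` have degree less than `m`. -/
def TransDeg (x y : G) (j m : ℕ) (f : G → F) : Prop := ∀ g, DegLT x y j m fun h => f (g * h)

variable {ρ A} {x y : G} {j : ℕ}

theorem range_pow_mono {i k : ℕ} (h : i ≤ k) :
    LinearMap.range (A ^ k) ≤ LinearMap.range (A ^ i) := by
  rw [show k = i + (k - i) by omega, pow_add, Module.End.mul_eq_comp]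
  exact LinearMap.range_comp_le_range _ _

theorem pow_shift {B : Module.End F V} {s : ℕ}
    (h : ∀ i, ∀ v ∈ LinearMap.range (A ^ i), B v ∈ LinearMap.range (A ^ (i + s))) (a : ℕ) :
    ∀ i, ∀ v ∈ LinearMap.range (A ^ i), (B ^ a) v ∈ LinearMap.range (A ^ (i + s * a)) := by
  induction a with
  | zero => intro i v hv; simpa using hv
  | succ a ih =>
    intro i v hv
    rw [pow_succ', Module.End.mul_apply, show i + s * (a + 1) = i + s * a + s by ring]
    exact h _ _ (ih i v hv)

theorem diffOp_pow_vec (t : G) (u : V) (a : ℕ) : ∀ L : V →ₗ[F] F,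
    ((diffOp t ^ a : Module.End F (G → F)) fun g => L (ρ g u)) =
      fun g => L (((ρ t - 1) ^ a) (ρ g u)) := by
  induction a with
  | zero => intro L; rfl
  | succ a ih =>
    intro L
    rw [pow_succ, Module.End.mul_apply]
    have h1 : diffOp t (fun g => L (ρ g u)) = fun g => (L.comp (ρ t - 1)) (ρ g u) := funext fun g => by
      rw [diffOp_apply, map_mul, Module.End.mul_apply, LinearMap.comp_apply, LinearMap.sub_apply,
        Module.End.one_apply, map_sub]
    rw [h1, ih (L.comp (ρ t - 1))]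
    funext g
    rw [LinearMap.comp_apply, pow_succ', Module.End.mul_apply]

theorem diffOp_pow_cov (t : G) (ψ : V →ₗ[F] F) (a : ℕ) : ∀ v : V,
    ((diffOp t ^ a : Module.End F (G → F)) fun g => ψ (ρ g⁻¹ v)) =
      fun g => ψ (ρ g⁻¹ (((ρ t⁻¹ - 1) ^ a) v)) := by
  induction a with
  | zero => intro v; rfl
  | succ a ih =>
    intro v
    rw [pow_succ, Module.End.mul_apply]
    have h1 : diffOp t (fun g => ψ (ρ g⁻¹ v)) = fun g => ψ (ρ g⁻¹ ((ρ t⁻¹ - 1) v)) := funext fun g => by
      rw [diffOp_apply, mul_inv_rev, map_mul, Module.End.mul_apply, LinearMap.sub_apply,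
        Module.End.one_apply, map_sub, map_sub]
    rw [h1, ih]
    funext g
    rw [pow_succ, Module.End.mul_apply]

theorem Shifts.deg_vec (hs : Shifts ρ A x y j) {a b : ℕ} (hab : a ≤ b) {u : V} {L : V →ₗ[F] F}
    (hu : ∀ g : G, ρ g u ∈ LinearMap.range (A ^ a))
    (hL : ∀ v ∈ LinearMap.range (A ^ b), L v = 0) : DegLT x y j (b - a) fun g => L (ρ g u) := by
  intro k l hkl
  have h2 := diffOp_pow_vec (ρ := ρ) x u k (L.comp ((ρ y - 1) ^ l))
  rw [Module.End.mul_apply, diffOp_pow_vec]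
  refine (show _ = _ from h2).trans (funext fun g => ?_)
  refine hL _ (range_pow_mono (show b ≤ a + 1 * k + j * l by omega) ?_)
  exact pow_shift hs.sy l _ _ (pow_shift hs.sx k a _ (hu g))

theorem Shifts.deg_cov (hs : Shifts ρ A x y j) {a b : ℕ} (hab : a ≤ b) {v : V} {ψ : V →ₗ[F] F}
    (hv : v ∈ LinearMap.range (A ^ a)) (hb : InvIdx ρ A b)
    (hψ : ∀ v ∈ LinearMap.range (A ^ b), ψ v = 0) : DegLT x y j (b - a) fun g => ψ (ρ g⁻¹ v) := by
  intro k l hkl
  rw [Module.End.mul_apply, diffOp_pow_cov, diffOp_pow_cov]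
  refine funext fun g => hψ _ (hb _ _ (range_pow_mono (show b ≤ a + j * l + 1 * k by omega) ?_))
  exact pow_shift hs.sx' k _ _ (pow_shift hs.sy' l a _ hv)

theorem Shifts.transDeg_vec (hs : Shifts ρ A x y j) {a b : ℕ} (hab : a ≤ b) {u : V} {L : V →ₗ[F] F}
    (ha : InvIdx ρ A a) (hb : InvIdx ρ A b) (hu : u ∈ LinearMap.range (A ^ a))
    (hL : ∀ v ∈ LinearMap.range (A ^ b), L v = 0) :
    TransDeg x y j (b - a) fun g => L (ρ g u) := fun g => by
  have := hs.deg_vec hab (L := L.comp (ρ g)) (u := u) (fun k => ha k u hu)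
    (fun v hv => hL _ (hb g v hv))
  intro k l hkl
  rw [← this k l hkl]
  congr 1
  funext h
  show L (ρ (g * h) u) = L (ρ g (ρ h u))
  rw [map_mul, Module.End.mul_apply]

theorem Shifts.transDeg_cov (hs : Shifts ρ A x y j) {a b : ℕ} (hab : a ≤ b) {v : V} {ψ : V →ₗ[F] F}
    (ha : InvIdx ρ A a) (hb : InvIdx ρ A b) (hv : v ∈ LinearMap.range (A ^ a))
    (hψ : ∀ v ∈ LinearMap.range (A ^ b), ψ v = 0) :
    TransDeg x y j (b - a) fun g => ψ (ρ g⁻¹ v) := fun g => by
  have := hs.deg_cov hab (ψ := ψ) (ha g⁻¹ v hv) hb hψ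
  intro k l hkl
  rw [← this k l hkl]
  congr 1
  funext h
  show ψ (ρ (g * h)⁻¹ v) = ψ (ρ h⁻¹ (ρ g⁻¹ v))
  rw [mul_inv_rev, map_mul, Module.End.mul_apply]

theorem TransDeg.mul {m n k : ℕ} {f f' : G → F} (hxy : x * y = y * x) (h : TransDeg x y j m f)
    (h' : TransDeg x y j n f') (hk : m + n ≤ k + 1) : TransDeg x y j k (f * f') := fun g =>
  (h g).mul hxy (h' g) hk

theorem TransDeg.pow {m : ℕ} {f : G → F} (hxy : x * y = y * x) (h : TransDeg x y j (m + 1) f)
    (n : ℕ) : TransDeg x y j (n * m + 1) (f ^ n) := fun g => by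
  have := DegLT.prod (x := x) (y := y) (j := j) hxy (Finset.range n) (n := fun _ => m)
    (f := fun _ => fun h => f (g * h)) (fun i _ => h g)
  rw [Finset.sum_const, Finset.card_range, smul_eq_mul, Finset.prod_const, Finset.card_range] at this
  exact this

/-- The pairing through an endomorphism `B` commuting with the flag has degree at most twice the
length of the layer range. -/
theorem Shifts.transDeg_pair {d : ℕ} (hs : Shifts ρ A x y j) (hreg : IsRegNil A d) {a b k : ℕ}
    (hab : a ≤ b) (hk : 2 * (b - a) ≤ k + 1) (ha : InvIdx ρ A a) (hb : InvIdx ρ A b)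
    {u : V} (hu : u ∈ LinearMap.range (A ^ a)) {ψ : V →ₗ[F] F}
    (hψ : ∀ v ∈ LinearMap.range (A ^ b), ψ v = 0) (i : ℕ) :
    TransDeg x y j k fun g => ψ (ρ g⁻¹ ((A ^ i) (ρ g u))) := by
  obtain ⟨v₀, B, hB, hrange⟩ := hreg.exists_basis
  have hAi : ∀ c, ∀ v ∈ LinearMap.range (A ^ c), (A ^ i) v ∈ LinearMap.range (A ^ c) := by
    rintro c _ ⟨w, rfl⟩
    exact ⟨(A ^ i) w, by rw [← Module.End.mul_apply, ← Module.End.mul_apply, ← pow_add, ← pow_add,
      add_comm]⟩
  intro g
  -- expand along the layers between `a` and `b`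
  set s := Finset.univ.filter fun l : Fin d => a ≤ (l : ℕ) ∧ (l : ℕ) < b with hsdef
  set E : Module.End F V := ρ g⁻¹ * A ^ i * ρ g with hE
  have hexp : (fun h => ψ (ρ (g * h)⁻¹ ((A ^ i) (ρ (g * h) u)))) =
      ∑ l ∈ s, (fun h => B.coord l (E (ρ h u))) * fun h => ψ (ρ h⁻¹ (B l)) := by
    funext h
    rw [Finset.sum_apply]
    have h1 : ρ (g * h)⁻¹ ((A ^ i) (ρ (g * h) u)) = ρ h⁻¹ (E (ρ h u)) := by
      rw [mul_inv_rev, map_mul, map_mul, hE]
      rfl
    have h2 : E (ρ h u) ∈ LinearMap.range (A ^ a) := ha g⁻¹ _ (hAi a _ (ha g _ (ha h u hu)))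
    rw [h1]
    conv_lhs => rw [← B.sum_repr (E (ρ h u))]
    rw [map_sum, map_sum]
    symm
    refine Finset.sum_subset_zero_on_sdiff (Finset.subset_univ _) (fun l hl => ?_) (fun l _ => ?_)
    · rw [Finset.mem_sdiff, hsdef, Finset.mem_filter] at hl
      rcases lt_or_ge (l : ℕ) a with hla | hla
      · rw [(hrange a _).1 h2 l hla]
        simp
      · have hlb : b ≤ (l : ℕ) := by
          by_contra hc
          exact hl.2 ⟨Finset.mem_univ _, hla, not_le.1 hc⟩
        rw [map_smul, map_smul, hψ _ (hb _ _ (range_pow_mono hlb ⟨v₀, (hB l).symm⟩)), smul_zero]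
    · simp [Pi.mul_apply]
  show DegLT x y j k fun h => ψ (ρ (g * h)⁻¹ ((A ^ i) (ρ (g * h) u)))
  rw [hexp]
  refine DegLT.sum fun l hl => ?_
  rw [hsdef, Finset.mem_filter] at hl
  refine (hs.deg_vec hab (L := (B.coord l).comp E) (fun h => ha h u hu) fun v hv => ?_).mul hs.comm
    (hs.deg_cov hab (range_pow_mono hl.2.1 (⟨v₀, (hB l).symm⟩ : B l ∈ LinearMap.range (A ^ (l : ℕ))))
      hb hψ) (by omega)
  exact (hrange b _).1 (hb g⁻¹ _ (hAi b _ (hb g _ hv))) l hl.2.2

end CfsgLib.MaxClassEssential
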