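import Cfsg.Agent.FusionPearl.Twist
import Cfsg.Agent.FusionRankThree.Derived
import Cfsg.Agent.FusionEssential.Aut
import Mathlib.LinearAlgebra.Matrix.ToLin

/-!
# Automorphisms of a normal essential subgroup

The action on a characteristic elementary quotient, the automorphisms induced by `S`, extensions to
`S`, and the absence of invariant lines on a quotient of order `p²`.
-/

set_option autoImplicit false
set_option linter.style.haveILetI false

namespace CfsgLib.MaxClassEssential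

open Cfsg Cfsg.FusionSystem CfsgLib.Fusion CfsgLib.FusionEssential CfsgLib.PMaxClass
open scoped commutatorElement

variable {Ω : Type*} [Group Ω] {S : Subgroup Ω} {F : FusionSystem S} {p : ℕ}
  {E : Subgroup Ω}

/-- Conjugation by an element of `S`, as an automorphism of the normal subgroup `E`. -/
noncomputable def conjOn (hN : S ≤ Subgroup.normalizer (E : Set Ω)) : S →* MulAut E :=
  E.normalizerMonoidHom.comp (Subgroup.inclusion hN)

theorem conjOn_apply (hN : S ≤ Subgroup.normalizer (E : Set Ω)) (g : S) (e : E) :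
    ((conjOn hN g e : E) : Ω) = (g : Ω) * e * (g : Ω)⁻¹ := rfl

theorem conjOn_mem (hN : S ≤ Subgroup.normalizer (E : Set Ω)) (g : S) :
    conjOn hN g ∈ autInducedBy S E :=
  mem_autInducedBy_iff.2 ⟨g, g.2, hN g.2, fun _ => rfl⟩

theorem exists_conjOn_eq (hN : S ≤ Subgroup.normalizer (E : Set Ω)) {α : MulAut E}
    (hα : α ∈ autInducedBy S E) : ∃ g : S, conjOn hN g = α := by
  obtain ⟨g, hg, -, hgα⟩ := mem_autInducedBy_iff.1 hα
  exact ⟨⟨g, hg⟩, MulEquiv.ext fun e => Subtype.ext (hgα e).symm⟩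

theorem mem_of_conjOn_mem_Inn (hE : F.IsCentric E) (hN : S ≤ Subgroup.normalizer (E : Set Ω))
    {g : S} (h : conjOn hN g ∈ Inn E) : (g : Ω) ∈ E := by
  by_contra hg
  exact not_mem_Inn_of_not_mem hE ⟨g.2, hN g.2⟩ hg (conjOn_apply hN g) h

theorem conjOn_mem_Inn (hN : S ≤ Subgroup.normalizer (E : Set Ω)) {g : S} (hg : (g : Ω) ∈ E) :
    conjOn hN g ∈ Inn E :=
  ⟨⟨g, hg⟩, MulEquiv.ext fun _ => rfl⟩

/-- An element of `Aut_F(E)` normalizing `Aut_S(E)` extends to `S`. -/
theorem exists_aut_extension [Finite S] [Fact p.Prime] (hS : IsPGroup p S) (hF : F.IsSaturated p)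
    (hfn : F.IsFullyNormalized E) (hN : S ≤ Subgroup.normalizer (E : Set Ω)) {α : MulAut E}
    (hα : α ∈ F.autGroup E)
    (hnorm : ∀ β ∈ autInducedBy S E, α * β * α⁻¹ ∈ autInducedBy S E) :
    ∃ β : MulAut S, β ∈ F.autGroup S ∧
      (∀ e : E, ((β (Subgroup.inclusion hfn.1 e) : S) : Ω) = α e) ∧
      ∀ g : S, α * conjOn hN g * α⁻¹ = conjOn hN (β g) := by
  obtain ⟨-, hr⟩ := automized_receptive hS hF hfn
  have hI : IsIso F α := (mem_autGroup_iff hfn.1).1 hα
  have hle : S ≤ extender S E (E.subtype.comp α.toMonoidHom) := by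
    intro g hg
    refine mem_extender_of_congr (α := conjOn hN ⟨g, hg⟩) ⟨hg, hN hg⟩ (fun _ => rfl) ?_
    rw [congr_self_eq]
    exact hnorm _ (conjOn_mem hN _)
  obtain ⟨ψ, hψ, hψx⟩ := exists_extension hr hI le_rfl
  have hψS : (restrictHom ψ hle) ∈ F.Hom S := restrict_mem hψ hle
  have hrange : (restrictHom ψ hle).range = S := eq_S_of_isConj ⟨_, hψS, rfl⟩
  obtain ⟨β, hβF, hβ⟩ := FusionPearl.exists_aut_of_range hψS hrange
  have hβe : ∀ e : E, ((β (Subgroup.inclusion hfn.1 e) : S) : Ω) = α e := fun e =>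
    (hβ _).trans (hψx e (hle (hfn.1 e.2)))
  refine ⟨β, hβF, hβe, fun g => MulEquiv.ext fun e => Subtype.ext ?_⟩
  obtain ⟨e', rfl⟩ := α.surjective e
  rw [MulAut.mul_apply, MulAut.mul_apply, MulAut.inv_apply_self, conjOn_apply, ← hβe, ← hβe,
    ← Subgroup.coe_inv, ← Subgroup.coe_mul, ← Subgroup.coe_mul]
  refine congrArg Subtype.val ?_
  rw [show Subgroup.inclusion hfn.1 (conjOn hN g e') = g * Subgroup.inclusion hfn.1 e' * g⁻¹ from
    rfl, map_mul, map_mul, map_inv]

variable [Finite S] [hp : Fact p.Prime]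

/-- A subgroup of `E` invariant under `Aut_F(E)` is not a line of a characteristic elementary
quotient inside the Frattini quotient. -/
theorem false_of_invariant_line (hS : IsPGroup p S) (hess : F.IsEssential p E) (D K : Subgroup E)
    [D.Normal] [hK : K.Normal] (hDΦ : D ≤ frattini E)
    (hDinv : ∀ α ∈ F.autGroup E, ∀ x ∈ D, α x ∈ D)
    (hKinv : ∀ α ∈ F.autGroup E, ∀ x ∈ K, α x ∈ K)
    (hpow : ∀ x : E, x ^ p ∈ D) (hKi : K.index = p) (hDr : D.relIndex K = p) : False := by
  haveI := finite_of_le hess.1.1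
  let C : ℕ → Subgroup E := fun i => if i = 0 then ⊤ else if i = 1 then K else D
  have hinv : ∀ α ∈ F.autGroup E, ∀ i, ∀ x ∈ C i, α x ∈ C i := by
    intro α hα i x hx
    match i with
    | 0 => trivial
    | 1 => exact hKinv α hα x hx
    | i + 2 => exact hDinv α hα x hx
  let K₀ := stabChain (F.autGroup E) C 2 hinv
  have hK₀ : IsPGroup p K₀ := by
    rintro ⟨α, hα⟩
    have h1 : ∀ x : E, x⁻¹ * (α : MulAut E) x ∈ K := fun x => hα 0 (by omega) x trivial
    have h2 : ∀ x ∈ K, x⁻¹ * (α : MulAut E) x ∈ D := fun x hx => hα 1 (by omega) x hx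
    have hj : ∀ (j : ℕ) (x : E),
        (x * (x⁻¹ * (α : MulAut E) x) ^ j)⁻¹ * (((α : MulAut E) ^ j) x) ∈ D := by
      intro j
      induction j with
      | zero => intro x; simp
      | succ j ih =>
        intro x
        set d := x⁻¹ * (α : MulAut E) x with hd
        have h3 := hDinv _ α.2 _ (ih x)
        rw [map_mul, map_inv, map_mul, map_pow] at h3
        have h4 := h2 d (h1 x)
        have h5 : ((α : MulAut E) d : E ⧸ D) = (d : E ⧸ D) := (QuotientGroup.eq.2 h4).symm
        have h6 : (((α : MulAut E) x : E) : E ⧸ D) = (x : E ⧸ D) * (d : E ⧸ D) := by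
          rw [← QuotientGroup.mk_mul, hd, mul_inv_cancel_left]
        rw [← QuotientGroup.eq, QuotientGroup.mk_mul, QuotientGroup.mk_pow] at h3
        rw [← QuotientGroup.eq, pow_succ' (α : MulAut E), MulAut.mul_apply, ← h3,
          QuotientGroup.mk_mul, QuotientGroup.mk_pow, h5, h6, pow_succ', mul_assoc]
    obtain ⟨k, hk⟩ := FusionRankThree.exists_pow_eq_one_of_frattini (hS.to_le hess.1.1)
      (α := (α : MulAut E) ^ p) (fun x => hDΦ (by
        have h3 := mul_mem (D.pow_mem (hpow (x⁻¹ * (α : MulAut E) x)) 1) (hj p x)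
        rw [pow_one, show (x⁻¹ * (α : MulAut E) x) ^ p *
          ((x * (x⁻¹ * (α : MulAut E) x) ^ p)⁻¹ * ((α : MulAut E) ^ p) x) =
            x⁻¹ * ((α : MulAut E) ^ p) x by group] at h3
        exact (Subgroup.Normal.mem_comm_iff inferInstance).1 h3))
    refine ⟨k + 1, Subtype.ext (Subtype.ext ?_)⟩
    rw [pow_succ', pow_mul]
    simpa using hk
  obtain ⟨α, ⟨k, hk⟩, hout⟩ := exists_pElement_not_inn hess
  refine hout (map_le_Inn hess (K := K₀) stabChain_normal hK₀ ⟨α, ?_, rfl⟩)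
  have hk' : (α : MulAut E) ^ p ^ k = 1 := by simpa using congrArg Subtype.val hk
  intro i hi x hx
  match i with
  | 0 =>
    haveI : (K.subgroupOf ⊤).Normal := hK.subgroupOf _
    exact inv_mul_apply_mem_of_relIndex (p := p) (D := K) (B := ⊤)
      (by rw [Subgroup.relIndex_top_right, hKi]) hk' (fun _ _ => trivial) (hKinv _ α.2) hx
  | 1 =>
    haveI : (D.subgroupOf K).Normal := (inferInstance : D.Normal).subgroupOf _
    exact inv_mul_apply_mem_of_relIndex (p := p) hDr hk' (hKinv _ α.2) (hDinv _ α.2) hx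

/-- `Out_F(E)` acts faithfully on an elementary characteristic quotient inside the Frattini
quotient. -/
theorem exists_rep (hS : IsPGroup p S) (hess : F.IsEssential p E) (D : Subgroup E) [D.Normal]
    [D.Characteristic] [((Inn E).subgroupOf (F.autGroup E)).Normal] (hDΦ : D ≤ frattini E)
    (hcomm : ∀ a b : E, ⁅a, b⁆ ∈ D) (hpow : ∀ x : E, x ^ p ∈ D) {d : ℕ}
    (hd : D.index = p ^ d) :
    ∃ (ρ : F.autGroup E ⧸ (Inn E).subgroupOf (F.autGroup E) →*
        Module.End (ZMod p) (Fin d → ZMod p))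
      (π : Additive E →+ (Fin d → ZMod p)),
      Function.Injective ρ ∧ Function.Surjective π ∧
      (∀ e : E, π (Additive.ofMul e) = 0 ↔ e ∈ D) ∧
      ∀ (α : F.autGroup E) (e : E),
        π (Additive.ofMul ((α : MulAut E) e)) =
          ρ (QuotientGroup.mk' _ α) (π (Additive.ofMul e)) := by
  haveI := finite_of_le hess.1.1
  set mkD := QuotientGroup.mk' D with hmkD
  have hc : ∀ a b : E ⧸ D, a * b = b * a := fun a b => by
    obtain ⟨a, rfl⟩ := QuotientGroup.mk'_surjective _ a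
    obtain ⟨b, rfl⟩ := QuotientGroup.mk'_surjective _ b
    rw [← commutatorElement_eq_one_iff_mul_comm, ← map_commutatorElement]
    exact (QuotientGroup.eq_one_iff _).2 (hcomm a b)
  have he : ∀ a : E ⧸ D, a ^ p = 1 := fun a => by
    obtain ⟨a, rfl⟩ := QuotientGroup.mk'_surjective _ a
    rw [← map_pow]
    exact (QuotientGroup.eq_one_iff _).2 (hpow a)
  obtain ⟨f⟩ := exists_mulEquiv_fin_of_elementary hc he (d := d)
    (by rw [← Subgroup.index_eq_card, hd])
  let qbar : MulAut E →* MulAut (E ⧸ D) :=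
    { toFun := fun α => QuotientGroup.congr _ _ α (Subgroup.characteristic_iff_map_eq.1 ‹_› α)
      map_one' := MulEquiv.ext fun y => by
        obtain ⟨y, rfl⟩ := QuotientGroup.mk'_surjective _ y
        rfl
      map_mul' := fun a b => MulEquiv.ext fun y => by
        obtain ⟨y, rfl⟩ := QuotientGroup.mk'_surjective _ y
        rfl }
  let π : Additive E →+ (Fin d → ZMod p) :=
    (f.toMonoidHom.comp mkD).toAdditiveLeft
  have hπ : ∀ e : E, π (Additive.ofMul e) = (f (mkD e)).toAdd := fun _ => rfl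
  let ρ₀ : F.autGroup E →* Module.End (ZMod p) (Fin d → ZMod p) :=
    ((Matrix.toLinAlgEquiv' : Matrix (Fin d) (Fin d) (ZMod p) ≃ₐ[ZMod p] _).toMulEquiv.toMonoidHom.comp
      ((autMatrix f).comp qbar)).comp (F.autGroup E).subtype
  have hρ₀ : ∀ (α : F.autGroup E) (e : E),
      π (Additive.ofMul ((α : MulAut E) e)) = ρ₀ α (π (Additive.ofMul e)) := by
    intro α e
    show _ = Matrix.toLinAlgEquiv' (autMatrix f (qbar α)) (π (Additive.ofMul e))
    rw [Matrix.toLinAlgEquiv'_apply, autMatrix_mulVec, hπ, hπ, ofAdd_toAdd,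
      MulEquiv.symm_apply_apply]
    rfl
  have hπsurj : Function.Surjective π := fun v => by
    obtain ⟨e, he'⟩ := QuotientGroup.mk'_surjective D (f.symm (Multiplicative.ofAdd v))
    exact ⟨Additive.ofMul e, by rw [hπ, hmkD, he', MulEquiv.apply_symm_apply, toAdd_ofAdd]⟩
  have hπ0 : ∀ e : E, π (Additive.ofMul e) = 0 ↔ e ∈ D := fun e => by
    rw [hπ, toAdd_eq_zero, MulEquiv.map_eq_one_iff]
    exact QuotientGroup.eq_one_iff e
  have hker : ∀ α : F.autGroup E, ρ₀ α = 1 ↔ (α : MulAut E) ∈ Inn E := by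
    have hInn : ∀ α : F.autGroup E, (α : MulAut E) ∈ Inn E → ρ₀ α = 1 := by
      rintro α ⟨e₀, he₀⟩
      refine LinearMap.ext fun v => ?_
      obtain ⟨e, rfl⟩ := hπsurj v
      rw [← ofMul_toMul e, ← hρ₀, Module.End.one_apply, hπ, hπ, ← he₀]
      refine congrArg (fun y => (f y).toAdd) ?_
      show mkD (e₀ * e.toMul * e₀⁻¹) = _
      rw [map_mul, map_mul, map_inv, hc (mkD e₀), mul_inv_cancel_right]
    have hkerp : IsPGroup p ρ₀.ker := by
      rintro ⟨α, hα⟩
      obtain ⟨k, hk⟩ := FusionRankThree.exists_pow_eq_one_of_frattini (hS.to_le hess.1.1)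
        (α := (α : MulAut E)) fun x => hDΦ ((hπ0 _).1 (by
          rw [ofMul_mul, map_add, hρ₀, show ρ₀ α = 1 from hα, Module.End.one_apply, ofMul_inv,
            map_neg, add_neg_cancel]))
      exact ⟨k, Subtype.ext (Subtype.ext (by simpa using hk))⟩
    exact fun α => ⟨fun h => map_le_Inn hess (K := ρ₀.ker) inferInstance hkerp ⟨α, h, rfl⟩, hInn α⟩
  refine ⟨QuotientGroup.lift _ ρ₀ fun α hα => (hker α).2 hα, π, ?_, hπsurj, hπ0, hρ₀⟩
  intro x y hxy
  obtain ⟨a, rfl⟩ := QuotientGroup.mk'_surjective _ x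
  obtain ⟨b, rfl⟩ := QuotientGroup.mk'_surjective _ y
  refine QuotientGroup.eq.2 (Subgroup.mem_subgroupOf.2 ((hker (a⁻¹ * b)).1 ?_))
  change ρ₀ a = ρ₀ b at hxy
  rw [map_mul, ← hxy, ← map_mul, inv_mul_cancel, map_one]

end CfsgLib.MaxClassEssential
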