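import Cfsg.Agent.PMaxClass.PowerIndex
import Cfsg.Agent.PMaxClass.Blackburn
import Cfsg.Agent.PMaxClass.Ambient
import Cfsg.Agent.FpfAction.InvolutionCase

/-!
# Normal subgroups of small index in groups of maximal class
-/

set_option autoImplicit false
set_option linter.style.haveILetI false

namespace CfsgLib.MaxClassEssential

open Subgroup CfsgLib.PMaxClass
open CfsgLib.PMaxClass.MaxClass (layerCentralizer mem_layerCentralizer)
open scoped commutatorElement

universe u

variable {G : Type u} [Group G] {p n : ℕ}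

/-- A normal subgroup below a term, with an element of exact level, is that term. -/
theorem eq_upper_of_exact (h : MaxClass G p n) {i : ℕ} (hi : i ≤ n - 2) {N : Subgroup G} [N.Normal]
    (hle : N ≤ Subgroup.upperCentralSeries G i) {a : G} (ha : a ∈ N)
    (ha' : a ∉ Subgroup.upperCentralSeries G (i - 1)) : N = Subgroup.upperCentralSeries G i := by
  have := h.finite
  have := Fact.mk h.prime
  obtain ⟨j, hj⟩ := IsPGroup.iff_card.1 (h.isPGroup.to_subgroup N)
  have h1 := card_le_of_le hle
  rw [hj, h.card_upper hi] at h1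
  have hji : j ≤ i := (Nat.pow_le_pow_iff_right h.prime.one_lt).1 h1
  have hN := h.normal_eq_upper (by omega) hj
  rcases hji.eq_or_lt with rfl | hlt
  · exact hN
  · exact absurd (Subgroup.upperCentralSeries_mono G (by omega) (hN ▸ ha)) ha'

/-- A subgroup below the derived group has at most `p - 1` levels not coming from `p`-th powers. -/
theorem card_le_powSub_of_le (h : MaxClass G p n) (hn : 2 ≤ n) {H : Subgroup G}
    (hH : H ≤ Subgroup.upperCentralSeries G (n - 2)) :
    Nat.card H ≤ Nat.card (powSub p H) * p ^ (p - 1) := by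
  have := h.finite
  set L := levels n H with hL
  have hlow : (L.filter fun j => ¬ p ≤ j).card ≤ p - 1 := by
    refine (Finset.card_le_card (t := Finset.Icc 1 (p - 1)) fun j hj => ?_).trans (by simp)
    obtain ⟨hj, hjp⟩ := Finset.mem_filter.1 hj
    have := (mem_levels.1 hj).1
    rw [Finset.mem_Icc]
    omega
  have hsum := Finset.card_filter_add_card_filter_not (s := L) (p ≤ ·)
  rw [h.card_le_relIndex hn H, relIndex_eq_one.2 hH, mul_one, ← hL, ← hsum, pow_add]
  exact Nat.mul_le_mul (h.card_high_le hn H) (Nat.pow_le_pow_right h.prime.pos hlow)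

/-- A normal subgroup of index `p` contains the derived group. -/
theorem upper_le_of_index (h : MaxClass G p n) (hn : 3 ≤ n) {M : Subgroup G} [M.Normal]
    (hM : M.index = p) : Subgroup.upperCentralSeries G (n - 2) ≤ M := by
  have := h.finite
  have := Fact.mk h.prime
  rw [h.upper_eq_commutator hn, commutator_le]
  intro a _ b _
  have hc : IsCyclic (G ⧸ M) := isCyclic_of_prime_card (p := p) (by rw [← index_eq_card, hM])
  rw [← QuotientGroup.eq_one_iff, ← QuotientGroup.mk'_apply, map_commutatorElement,
    commutatorElement_eq_one_iff_mul_comm]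
  exact hc.isMulCommutative.is_comm.comm _ _

/-- A normal subgroup of index `p` is generated over the derived group by each element outside it. -/
theorem sup_zpowers_of_index (h : MaxClass G p n) (hn : 3 ≤ n) {M : Subgroup G} [M.Normal]
    (hM : M.index = p) {x : G} (hx : x ∈ M) (hx' : x ∉ Subgroup.upperCentralSeries G (n - 2)) :
    Subgroup.upperCentralSeries G (n - 2) ⊔ zpowers x = M := by
  have := h.finite
  have := Fact.mk h.prime
  refine eq_of_le_of_card_ge (sup_le (upper_le_of_index h hn hM) (zpowers_le.2 hx)) ?_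
  have h1 := card_mul_le_of_lt h.isPGroup (lt_of_le_of_ne le_sup_left
    fun (e : Subgroup.upperCentralSeries G (n - 2) =
      Subgroup.upperCentralSeries G (n - 2) ⊔ zpowers x) =>
        hx' (e.symm ▸ mem_sup_right (mem_zpowers x) : x ∈ Subgroup.upperCentralSeries G (n - 2)))
  rw [h.card_upper le_rfl] at h1
  have h2 := card_mul_index M
  rw [hM, h.card_eq] at h2
  refine le_trans (le_of_eq ?_) h1
  refine Nat.eq_of_mul_eq_mul_right h.prime.pos (h2.trans ?_)
  rw [mul_assoc, ← sq, ← pow_add]
  congr 1
  omega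

/-- The elements of a maximal subgroup other than the layer centraliser avoid it. -/
theorem not_mem_layerCentralizer_of_index (h : MaxClass G p n) (hn : 3 ≤ n) {M : Subgroup G}
    [M.Normal] (hM : M.index = p) {j : ℕ} (hj : 2 ≤ j) (hjn : j + 1 ≤ n)
    (hne : M ≠ layerCentralizer G j) {x : G} (hx : x ∈ M)
    (hx' : x ∉ Subgroup.upperCentralSeries G (n - 2)) : x ∉ layerCentralizer G j := by
  intro hxj
  have := h.finite
  have := Fact.mk h.prime
  have hle : M ≤ layerCentralizer G j := by
    rw [← sup_zpowers_of_index h hn hM hx hx']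
    exact sup_le (h.upperLayer_le_layerCentralizer (by omega) hj) (zpowers_le.2 hxj)
  refine h.layerCentralizer_ne_top hj hjn (eq_top_of_le_card _ ?_)
  have h1 := card_mul_le_of_lt h.isPGroup (lt_of_le_of_ne hle hne)
  rwa [← card_mul_index M, hM]

/-- The layer centralisers of the top four levels coincide. -/
theorem not_mem_layerCentralizer_high (h : MaxClass G p n) (hp : 5 ≤ p) {x : G}
    (hx : x ∉ layerCentralizer G (n - 2)) (hx2 : x ∉ layerCentralizer G 2) (hn : 5 ≤ n) :
    x ∉ layerCentralizer G (n - 3) ∧ (6 ≤ n → x ∉ layerCentralizer G (n - 4)) := by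
  have key : ∀ i j, (n - i = 5 ∨ n - i = 7) → i + 2 ≤ j → j + 2 ≤ n →
      x ∉ layerCentralizer G j := by
    intro i j hi hij hjn hxj
    have hq := (blackburn (n - i) _ (h.quotient (i := i) (by omega)) (by omega)).2
      (by rcases hi with e | e <;> rw [e] <;> decide)
    have hle := h.flat_of_quotient hq j (by omega) hjn
    exact hx (h.layer_eq_of_le (by omega) (by omega) hjn hle ▸ hxj)
  refine ⟨key (n - 5) (n - 3) (Or.inl (by omega)) (by omega) (by omega), fun h6 => ?_⟩
  rcases Nat.eq_or_lt_of_le h6 with e | e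
  · rw [show n - 4 = 2 by omega]
    exact hx2
  · exact key (n - 7) (n - 4) (Or.inr (by omega)) (by omega) (by omega)

/-- The `p`-th power of an element outside the derived group and the top layer centraliser. -/
theorem pow_mem_of_not_mem (h : MaxClass G p n) (hn : 4 ≤ n) {x : G}
    (hx : x ∉ layerCentralizer G (n - 2)) : x ^ p ∈ Subgroup.upperCentralSeries G (n - 3) := by
  by_contra hxp
  refine hx (h.mem_layerCentralizer_of_exact (a := x ^ p) (by omega) (by omega)
    (h.pow_mem_top_term (by omega) x) (by rwa [show n - 2 - 1 = n - 3 by omega]) ?_)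
  rw [commutatorElement_eq_one_iff_commute.2 (Commute.pow_self x p)]
  exact one_mem _

/-- The commutator pairing on `G / U_(n-3)`. -/
theorem commutator_zpow_mod (h : MaxClass G p n) (hn : 3 ≤ n) {s t e₁ e₂ : G} (a b c : ℕ)
    (he₁ : e₁ ∈ Subgroup.upperCentralSeries G (n - 2))
    (he₂ : e₂ ∈ Subgroup.upperCentralSeries G (n - 2)) :
    ((⁅t ^ c * e₂, s ^ a * t ^ b * e₁⁆ : G) : G ⧸ Subgroup.upperCentralSeries G (n - 3)) =
      ((⁅t, s⁆ ^ (c * a) : G) : G ⧸ Subgroup.upperCentralSeries G (n - 3)) := by
  set q := QuotientGroup.mk' (Subgroup.upperCentralSeries G (n - 3))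
  have hz : ∀ e ∈ Subgroup.upperCentralSeries G (n - 2), q e ∈ center _ := fun e he =>
    mem_center_iff.2 fun y => by
      obtain ⟨y, rfl⟩ := QuotientGroup.mk'_surjective _ y
      rw [eq_comm, ← commutatorElement_eq_one_iff_mul_comm, ← map_commutatorElement]
      refine (QuotientGroup.eq_one_iff _).2 ?_
      rw [show n - 2 = n - 3 + 1 by omega] at he
      exact Subgroup.mem_upperCentralSeries_succ_iff.1 he y
  have hc : ∀ u v : G ⧸ Subgroup.upperCentralSeries G (n - 3), ⁅u, v⁆ ∈ center _ := fun u v => by
    obtain ⟨u, rfl⟩ := QuotientGroup.mk'_surjective _ u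
    obtain ⟨v, rfl⟩ := QuotientGroup.mk'_surjective _ v
    rw [← map_commutatorElement]
    exact hz _ (h.commutator_mem_upper (by omega) u v)
  show q ⁅t ^ c * e₂, s ^ a * t ^ b * e₁⁆ = q (⁅t, s⁆ ^ (c * a))
  rw [map_commutatorElement, map_mul, map_mul, map_mul, map_pow, map_pow, map_pow, map_pow,
    map_commutatorElement]
  have hr : ∀ (u v z : G ⧸ Subgroup.upperCentralSeries G (n - 3)),
      ⁅u, v⁆ = 1 → ⁅u, z * v⁆ = ⁅u, z⁆ := fun u v z huv => by
    rw [commutatorElement_eq_one_iff_mul_comm] at huv
    rw [commutatorElement_def, commutatorElement_def]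
    calc u * (z * v) * u⁻¹ * (z * v)⁻¹ = u * z * (v * u⁻¹) * v⁻¹ * z⁻¹ := by group
      _ = u * z * (u⁻¹ * v) * v⁻¹ * z⁻¹ := by
        rw [show v * u⁻¹ = u⁻¹ * (u * v) * u⁻¹ by group, huv]; group
      _ = u * z * u⁻¹ * z⁻¹ := by group
  rw [FpfAction.commutator_mul_left_of_central (hc _ _),
    show ⁅q e₂, q s ^ a * q t ^ b * q e₁⁆ = 1 from
      commutatorElement_eq_one_iff_mul_comm.2 (mem_center_iff.1 (hz _ he₂) _).symm,
    mul_one, hr _ (q e₁) _ (commutatorElement_eq_one_iff_mul_comm.2 (mem_center_iff.1 (hz _ he₁) _)),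
    hr _ (q t ^ b) _ (commutatorElement_eq_one_iff_commute.2 (Commute.pow_pow_self (q t) c b)),
    FpfAction.commutator_pow_pow_of_central hc]

/-- Two generators modulo the derived group do not commute modulo `U_(n-3)`. -/
theorem commutator_gen_not_mem (h : MaxClass G p n) (hn : 3 ≤ n) {s t : G}
    (hgen : Subgroup.upperCentralSeries G (n - 2) ⊔ zpowers s ⊔ zpowers t = ⊤) :
    ⁅t, s⁆ ∉ Subgroup.upperCentralSeries G (n - 3) := by
  intro hw
  set U := Subgroup.upperCentralSeries G with hU
  have hst : ⁅s, t⁆ ∈ U (n - 3) := by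
    rw [← commutatorElement_inv]
    exact inv_mem hw
  have key : ∀ g, g = s ∨ g = t → g ∈ U (n - 2) := by
    intro g hg
    let q := QuotientGroup.mk' (U (n - 3))
    have hle : U (n - 2) ⊔ zpowers s ⊔ zpowers t ≤ (centralizer ({q g} : Set _)).comap q := by
      refine sup_le (sup_le (fun e he => ?_) (zpowers_le.2 ?_)) (zpowers_le.2 ?_) <;>
        rw [mem_comap, mem_centralizer_singleton_iff, ← commutatorElement_eq_one_iff_mul_comm,
          ← map_commutatorElement, QuotientGroup.mk'_apply, QuotientGroup.eq_one_iff]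
      · rw [show n - 2 = n - 3 + 1 by omega] at he
        exact Subgroup.mem_upperCentralSeries_succ_iff.1 he g
      · rcases hg with rfl | rfl
        · rw [commutatorElement_self]; exact one_mem _
        · exact hst
      · rcases hg with rfl | rfl
        · exact hw
        · rw [commutatorElement_self]; exact one_mem _
    rw [show n - 2 = n - 3 + 1 by omega, hU, Subgroup.mem_upperCentralSeries_succ_iff]
    intro y
    have hy := hle (hgen.symm ▸ mem_top y)
    rw [mem_comap, mem_centralizer_singleton_iff, ← commutatorElement_eq_one_iff_mul_comm,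
      ← map_commutatorElement, QuotientGroup.mk'_apply, QuotientGroup.eq_one_iff] at hy
    rw [← commutatorElement_inv]
    exact inv_mem hy
  refine h.ne_top (top_le_iff.1 (hgen.ge.trans (sup_le (sup_le le_rfl ?_) ?_)))
  · exact zpowers_le.2 (key s (Or.inl rfl))
  · exact zpowers_le.2 (key t (Or.inr rfl))

/-- The first terms of the lower series of a maximal subgroup avoiding the special layers. -/
theorem lower_terms_of_avoid (h : MaxClass G p n) (hn : 5 ≤ n) {M : Subgroup G} [M.Normal]
    (hM : M.index = p) {x : G} (hx : x ∈ M) (hx' : x ∉ Subgroup.upperCentralSeries G (n - 2))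
    (h2 : x ∉ layerCentralizer G (n - 2)) (h3 : x ∉ layerCentralizer G (n - 3))
    (h4 : 6 ≤ n → x ∉ layerCentralizer G (n - 4)) :
    ⁅M, M⁆ = Subgroup.upperCentralSeries G (n - 3) ∧
      ⁅⁅M, M⁆, M⁆ = Subgroup.upperCentralSeries G (n - 4) ∧
      ⁅⁅⁅M, M⁆, M⁆, M⁆ = Subgroup.upperCentralSeries G (n - 5) := by
  have := h.finite
  set U := Subgroup.upperCentralSeries G with hU
  have hUM : U (n - 2) ≤ M := upper_le_of_index h (by omega) hM
  -- one step
  have step : ∀ i, 2 ≤ i → i ≤ n - 2 → x ∉ layerCentralizer G i → ⁅U i, M⁆ = U (i - 1) := by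
    intro i h2i hin hxi
    obtain ⟨a, ha, ha'⟩ := SetLike.not_le_iff_exists.1 (h.upper_lt (j := i) (by omega) (by omega))
    refine eq_upper_of_exact h (by omega) ?_ (commutator_mem_commutator ha hx) ?_
    · rw [commutator_le]
      intro b hb y _
      rw [hU, show i = i - 1 + 1 by omega] at hb
      exact Subgroup.mem_upperCentralSeries_succ_iff.1 hb y
    · rw [show i - 1 - 1 = i - 2 by omega]
      exact fun hh => hxi (h.mem_layerCentralizer_of_exact (by omega) (by omega) ha ha' hh)
  have e2 : ⁅M, M⁆ = U (n - 3) := by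
    refine le_antisymm ?_ ((step (n - 2) (by omega) le_rfl h2).symm.le.trans
      (commutator_mono hUM le_rfl) |>.trans' (by rw [show n - 2 - 1 = n - 3 by omega]))
    have hgen := sup_zpowers_of_index h (by omega) hM hx hx'
    rw [commutator_le]
    intro a ha b hb
    let q := QuotientGroup.mk' (U (n - 3))
    have hz : ∀ e ∈ U (n - 2), ∀ y, q e * q y = q y * q e := fun e he y => by
      rw [← commutatorElement_eq_one_iff_mul_comm, ← map_commutatorElement, QuotientGroup.mk'_apply,
        QuotientGroup.eq_one_iff]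
      rw [hU, show n - 2 = n - 3 + 1 by omega] at he
      exact Subgroup.mem_upperCentralSeries_succ_iff.1 he y
    have hxc : M ≤ (centralizer ({q x} : Set _)).comap q := hgen.ge.trans (sup_le
      (fun e he => mem_comap.2 (mem_centralizer_singleton_iff.2 (hz e he x)))
      (zpowers_le.2 (mem_comap.2 (mem_centralizer_singleton_iff.2 rfl))))
    have hac : M ≤ (centralizer ({q a} : Set _)).comap q := hgen.ge.trans (sup_le
      (fun e he => mem_comap.2 (mem_centralizer_singleton_iff.2 (hz e he a)))
      (zpowers_le.2 (mem_comap.2 (mem_centralizer_singleton_iff.2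
        (mem_centralizer_singleton_iff.1 (hxc ha)).symm))))
    rw [← QuotientGroup.eq_one_iff, ← QuotientGroup.mk'_apply, map_commutatorElement,
      commutatorElement_eq_one_iff_mul_comm]
    exact (mem_centralizer_singleton_iff.1 (hac hb)).symm
  refine ⟨e2, ?_, ?_⟩
  · rw [e2, step (n - 3) (by omega) (by omega) h3]
    congr 1
  · rw [e2, step (n - 3) (by omega) (by omega) h3, show n - 3 - 1 = n - 4 by omega]
    rcases Nat.lt_or_ge n 6 with h6 | h6
    · rw [show n - 5 = 0 by omega, show n - 4 = 1 by omega, hU,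
        Subgroup.upperCentralSeries_zero, eq_bot_iff]
      refine commutator_le.2 fun b hb y _ => ?_
      have := Subgroup.mem_upperCentralSeries_succ_iff.1 hb y
      rwa [Subgroup.upperCentralSeries_zero] at this
    · rw [step (n - 4) (by omega) (by omega) (h4 h6)]
      congr 1

end CfsgLib.MaxClassEssential
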