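import Cfsg.Agent.MaxClassEssential.GlueAut
import Cfsg.Agent.MaxClassEssential.GlueGroup
import Cfsg.Agent.FusionEssential.OrderCube

/-!
# Essential maximal subgroups of a group of maximal class
-/

set_option autoImplicit false
set_option linter.style.haveILetI false

namespace CfsgLib.MaxClassEssential

open Cfsg Cfsg.FusionSystem CfsgLib.Fusion CfsgLib.FusionEssential CfsgLib.PMaxClass
open CfsgLib.PMaxClass.MaxClass (layerCentralizer mem_layerCentralizer)
open scoped commutatorElement

variable {Ω : Type*} [Group Ω] {S : Subgroup Ω} [Finite S] {F : FusionSystem S} {p n : ℕ}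
  [hp : Fact p.Prime] {E : Subgroup Ω}

/-- An essential subgroup of index `p` is a two-step centralizer, apart from order `p⁴`. -/
theorem layerCentralizer_or_of_index (hp5 : 5 ≤ p) (hS : IsPGroup p S) (h : MaxClass S p n)
    (hn : 4 ≤ n) (hess : F.IsEssential p E) (hEn : (E.subgroupOf S).Normal)
    (hidx : (E.subgroupOf S).index = p) :
    E.subgroupOf S = layerCentralizer S (n - 2) ∨ E.subgroupOf S = layerCentralizer S 2 ∨
      (n = 4 ∧ Nat.card E = p ^ 3 ∧ IsExtraspecial p ↥E ∧ Monoid.exponent E = p) := by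
  by_contra hc
  push Not at hc
  obtain ⟨hne1, hne2, hne3⟩ := hc
  haveI := finite_of_le hess.1.1
  haveI := hEn
  set ι := Subgroup.inclusion hess.1.1 with hι
  set U := Subgroup.upperCentralSeries S with hU
  set M := E.subgroupOf S with hM
  have hrange : ι.range = M := Subgroup.inclusion_range _
  have hιinj : Function.Injective ι := Subgroup.inclusion_injective _
  have hEp : IsPGroup p E := hS.to_le hess.1.1
  have hcardM : Nat.card M = p ^ (n - 1) := by
    refine Nat.eq_of_mul_eq_mul_right h.prime.pos ?_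
    have h1 := Subgroup.card_mul_index M
    rw [hidx, h.card_eq] at h1
    rw [h1, ← pow_succ]
    congr 1
    omega
  have hcardE : Nat.card E = p ^ (n - 1) := by
    rw [← hcardM]
    exact (Nat.card_congr (Subgroup.subgroupOfEquivOfLe hess.1.1).toEquiv).symm
  obtain ⟨x, hxM, hxU⟩ : ∃ x ∈ M, x ∉ U (n - 2) := by
    refine SetLike.not_le_iff_exists.1 fun hle => ?_
    have h1 := Subgroup.card_le_of_le hle
    rw [hcardM, hU, h.card_upper le_rfl, Nat.pow_le_pow_iff_right h.prime.one_lt] at h1
    omega
  have hout : ∀ y ∈ M, y ∉ U (n - 2) → y ∉ layerCentralizer S (n - 2) ∧ y ∉ layerCentralizer S 2 :=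
    fun y hy hy' => ⟨not_mem_layerCentralizer_of_index h (by omega) hidx (by omega) (by omega)
      hne1 hy hy', not_mem_layerCentralizer_of_index h (by omega) hidx le_rfl (by omega)
      hne2 hy hy'⟩
  obtain ⟨hx1, hx2⟩ := hout x hxM hxU
  rcases hn.eq_or_lt with rfl | hn5
  · -- order `p⁴`
    rcases essential_card_cube hS hess hcardE with hab | ⟨-, hex, hexp⟩ | ⟨h2, -⟩
    · refine hx2 (mem_layerCentralizer.2 fun b hb => ?_)
      obtain ⟨x, rfl⟩ := hrange.ge hxM
      obtain ⟨b, rfl⟩ := hrange.ge (upper_le_of_index h (by omega) hidx hb)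
      rw [← map_commutatorElement, commutatorElement_eq_one_iff_mul_comm.2 (hab.1.is_comm.comm b x),
        map_one]
      exact one_mem _
    · refine hne3 rfl hcardE hex ?_
      refine Nat.dvd_antisymm (Monoid.exponent_dvd_of_forall_pow_eq_one fun y =>
        Subtype.ext (hexp y y.2)) ?_
      have : Nontrivial E := Finite.one_lt_card_iff_nontrivial.1 (by
        rw [hcardE]; exact Nat.one_lt_pow (by omega) h.prime.one_lt)
      obtain ⟨y, hy⟩ := exists_ne (1 : E)
      have ho : orderOf y = p := orderOf_eq_prime (Subtype.ext (hexp y y.2)) hy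
      exact ho ▸ Monoid.order_dvd_exponent y
    · omega
  obtain ⟨hx3, hx4⟩ := not_mem_layerCentralizer_high h hp5 hx1 hx2 (by omega)
  obtain ⟨e2, -, e4⟩ := lower_terms_of_avoid h (by omega) hidx hxM hxU hx1 hx3 hx4
  set D := commutator E with hD
  set C : Subgroup E := ⁅⁅⁅(⊤ : Subgroup E), (⊤ : Subgroup E)⁆, (⊤ : Subgroup E)⁆, (⊤ : Subgroup E)⁆ with hC
  have hDmap : D.map ι = U (n - 3) := by
    rw [hD, commutator_def, Subgroup.map_commutator, ← MonoidHom.range_eq_map, hrange, e2]
  have hCmap : C.map ι = U (n - 5) := by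
    rw [hC, Subgroup.map_commutator, Subgroup.map_commutator, Subgroup.map_commutator,
      ← MonoidHom.range_eq_map, hrange, e4]
  set K := (U (n - 2)).comap ι with hK
  haveI : K.Normal := Subgroup.Normal.comap inferInstance ι
  have hKmap : K.map ι = U (n - 2) :=
    Subgroup.map_comap_eq_self (hrange.symm ▸ upper_le_of_index h (by omega) hidx)
  -- `U (n - 2)` is the centralizer in `E` of a characteristic section
  have hKinv : ∀ α ∈ F.autGroup E, ∀ y ∈ K, α y ∈ K := by
    intro α _ y hy
    by_contra hαy
    have hmem : ι (α y) ∈ M := hrange ▸ ⟨α y, rfl⟩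
    refine hx3 ?_
    have hall : ι (α y) ∈ layerCentralizer S (n - 3) := by
      refine mem_layerCentralizer.2 fun c hc => ?_
      rw [← hU, ← hDmap] at hc
      obtain ⟨c, hc, rfl⟩ := hc
      have hDfix : D.map α.toMonoidHom = D :=
        Subgroup.characteristic_iff_map_eq.1 (inferInstance : (commutator E).Characteristic) α
      rw [← hDfix] at hc
      obtain ⟨c, hc, rfl⟩ := hc
      have h1 : ι ⁅c, y⁆ ∈ U (n - 5) := by
        rw [map_commutatorElement]
        have h2 := mem_layerCentralizer.1
          (h.upperLayer_le_layerCentralizer (by omega) (j := n - 3) (by omega) hy) (ι c)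
          (hDmap.le ⟨c, hc, rfl⟩)
        rwa [show n - 3 - 2 = n - 5 by omega] at h2
      rw [show n - 3 - 2 = n - 5 by omega, ← hU, ← hCmap] at *
      obtain ⟨z, hz, hze⟩ := h1
      rw [hιinj hze] at hz
      have hCfix : C.map α.toMonoidHom = C := by
        rw [hC, Subgroup.map_commutator, Subgroup.map_commutator, Subgroup.map_commutator,
          Subgroup.map_top_of_surjective _ α.surjective]
      refine ⟨α ⁅c, y⁆, hCfix.le ⟨_, hz, rfl⟩, ?_⟩
      rw [map_commutatorElement, map_commutatorElement]
      rfl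
    -- `ι (α y)` generates `M` over `U (n - 2)`
    have hgen := sup_zpowers_of_index h (by omega) hidx hmem hαy
    exact (sup_le (h.upperLayer_le_layerCentralizer (by omega) (by omega))
      (Subgroup.zpowers_le.2 hall)) (hgen.ge hxM)
  have hDΦ : D ≤ frattini E := CfsgLib.Solvable.commutator_le_frattini hEp
  have hpow : ∀ y : E, y ^ p ∈ D := by
    intro y
    rw [← Subgroup.mem_map_iff_mem hιinj, hDmap, map_pow]
    by_cases hy : ι y ∈ U (n - 2)
    · exact Subgroup.upperCentralSeries_mono S (by omega) (h.pow_mem_level (k := n - 2) (by omega) hy)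
    · exact pow_mem_of_not_mem h (by omega) (hout _ (hrange ▸ ⟨y, rfl⟩) hy).1
  have hcK : Nat.card K = p ^ (n - 2) := by
    rw [← h.card_upper le_rfl, ← hU, ← hKmap, Subgroup.card_map_of_injective hιinj]
  have hcD : Nat.card D = p ^ (n - 3) := by
    rw [← h.card_upper (show n - 3 ≤ n - 2 by omega), ← hU, ← hDmap,
      Subgroup.card_map_of_injective hιinj]
  refine false_of_invariant_line hS hess D K hDΦ
    (fun α _ y hy => ?_) hKinv hpow ?_ ?_
  · have hDfix : D.map α.toMonoidHom = D :=
      Subgroup.characteristic_iff_map_eq.1 (inferInstance : (commutator E).Characteristic) α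
    exact hDfix.le ⟨y, hy, rfl⟩
  · have h1 := Subgroup.card_mul_index K
    rw [hcK, hcardE, show n - 1 = n - 2 + 1 by omega, pow_succ] at h1
    exact Nat.eq_of_mul_eq_mul_left (pow_pos h.prime.pos _) h1
  · have hDK : D ≤ K := fun y hy => Subgroup.upperCentralSeries_mono S (by omega)
      (hDmap.le ⟨y, hy, rfl⟩)
    have h1 : Nat.card D * D.relIndex K = Nat.card K := by
      rw [← Subgroup.relIndex_bot_left, Subgroup.relIndex_mul_relIndex _ _ _ bot_le hDK,
        Subgroup.relIndex_bot_left]
    rw [hcK, hcD, show n - 2 = n - 3 + 1 by omega, pow_succ] at h1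
    exact Nat.eq_of_mul_eq_mul_left (pow_pos h.prime.pos _) h1

end CfsgLib.MaxClassEssential
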