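import Cfsg.Agent.PMaxClass.Blackburn
import Cfsg.Agent.PMaxClass.Ambient

/-!
# The two-step centralizers in the ambient group
-/

set_option autoImplicit false

namespace CfsgLib.MaxClassEssential

open CfsgLib.PMaxClass
open CfsgLib.PMaxClass.MaxClass (layerCentralizer mem_layerCentralizer)
open scoped commutatorElement

variable {Ω : Type*} [Group Ω] {S : Subgroup Ω} {p n : ℕ}

theorem lower_eq_map_upper (h : MaxClass S p n) (hn : 2 ≤ n) {i : ℕ} (hi : i + 2 ≤ n) :
    Subgroup.lowerCentralSeries S (n - 1 - i) =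
      (Subgroup.upperCentralSeries S i).map S.subtype := by
  rw [← h.lower_eq_upper (h.upper_top hn) hi, Subgroup.top_subtype_lowerCentralSeries]

/-- `Γ₁` is the centralizer of the top layer. -/
theorem gamma_one_eq (h : MaxClass S p n) (hn : 4 ≤ n) {Γ : Subgroup Ω}
    (hΓ : ∀ x : Ω, x ∈ Γ ↔ x ∈ S ∧ ∀ y ∈ Subgroup.lowerCentralSeries S 1,
      x * y * x⁻¹ * y⁻¹ ∈ Subgroup.lowerCentralSeries S 3) :
    Γ = (layerCentralizer S (n - 2)).map S.subtype := by
  have h1 : Subgroup.lowerCentralSeries S 1 =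
      (Subgroup.upperCentralSeries S (n - 2)).map S.subtype := by
    rw [← lower_eq_map_upper h (by omega) (i := n - 2) (by omega), show n - 1 - (n - 2) = 1 by omega]
  have h3 : Subgroup.lowerCentralSeries S 3 =
      (Subgroup.upperCentralSeries S (n - 4)).map S.subtype := by
    rw [← lower_eq_map_upper h (by omega) (i := n - 4) (by omega), show n - 1 - (n - 4) = 3 by omega]
  ext x
  rw [hΓ, Subgroup.mem_map, h1, h3]
  constructor
  · rintro ⟨hx, hxy⟩
    refine ⟨⟨x, hx⟩, mem_layerCentralizer.2 fun b hb => ?_, rfl⟩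
    obtain ⟨z, hz, hze⟩ := hxy b ⟨b, hb, rfl⟩
    rw [show n - 2 - 2 = n - 4 by omega,
      show ⁅b, (⟨x, hx⟩ : S)⁆ = z⁻¹ by
        rw [← commutatorElement_inv]
        exact congrArg _ (Subtype.ext hze.symm)]
    exact inv_mem hz
  · rintro ⟨x, hx, rfl⟩
    refine ⟨x.2, fun y hy => ?_⟩
    obtain ⟨b, hb, rfl⟩ := hy
    have h2 := mem_layerCentralizer.1 hx b hb
    rw [show n - 2 - 2 = n - 4 by omega] at h2
    refine ⟨⁅x, b⁆, ?_, rfl⟩
    rw [← commutatorElement_inv]
    exact inv_mem h2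

/-- `C_S(Z₂(S))` is the centralizer of the bottom layer. -/
theorem centralizer_two_eq :
    S ⊓ Subgroup.centralizer (((Subgroup.upperCentralSeries S 2).map S.subtype) : Set Ω) =
      (layerCentralizer S 2).map S.subtype := by
  ext x
  rw [Subgroup.mem_inf, Subgroup.mem_centralizer_iff, Subgroup.mem_map]
  constructor
  · rintro ⟨hx, hxy⟩
    refine ⟨⟨x, hx⟩, mem_layerCentralizer.2 fun b hb => ?_, rfl⟩
    rw [Subgroup.upperCentralSeries_zero, Subgroup.mem_bot,
      commutatorElement_eq_one_iff_mul_comm]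
    exact Subtype.ext (hxy b ⟨b, hb, rfl⟩)
  · rintro ⟨x, hx, rfl⟩
    refine ⟨x.2, ?_⟩
    rintro _ ⟨b, hb, rfl⟩
    have h2 := mem_layerCentralizer.1 hx b hb
    rw [Subgroup.upperCentralSeries_zero, Subgroup.mem_bot,
      commutatorElement_eq_one_iff_mul_comm] at h2
    exact congrArg Subtype.val h2

end CfsgLib.MaxClassEssential
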