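import Cfsg.Agent.MaxClassEssential.Quadratic
import Cfsg.Agent.MaxClassEssential.AbelianCase
import Cfsg.Agent.FusionEssential.Basic

/-!
# No strongly embedded subgroup with a regular unipotent element

`false_of_uniserial`: for `p ≥ 5`, a group with a strongly `p`-embedded subgroup has no faithful
representation over `ZMod p` of dimension at most `p` in which a Sylow `p`-subgroup `T` of order at
least `p²` contains a regular unipotent element `x`; for abelian `T` it is also assumed that `T` has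
order `p²`, that the dimension is less than `p`, and that the top weight of an element of `N(T)` is
the product of its eigenvalues on `x` and on `y`.
-/

set_option autoImplicit false
set_option linter.style.haveILetI false

namespace CfsgLib.MaxClassEssential

variable {p : ℕ} [hp : Fact p.Prime] {X : Type*} [Group X] [Finite X] {V : Type*}
  [AddCommGroup V] [Module (ZMod p) V] [Finite V] (ρ : X →* Module.End (ZMod p) V)

theorem false_of_uniserial (hp5 : 5 ≤ p) (hinj : Function.Injective ρ) {Y : Subgroup X}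
    (hY : Cfsg.IsStronglyPEmbedded p Y) (T : Sylow p X) {x : X} (hx : x ∈ (T : Subgroup X)) {d : ℕ}
    (hd : Module.finrank (ZMod p) V = d) (hreg : (ρ x - 1) ^ (d - 1) ≠ 0) (hdp : d ≤ p)
    (hT2 : p ^ 2 ≤ Nat.card (T : Subgroup X))
    (hab : (∀ s ∈ (T : Subgroup X), ∀ t ∈ (T : Subgroup X), s * t = t * s) →
      Nat.card (T : Subgroup X) = p ^ 2 ∧ d < p ∧
      ∀ n ∈ Subgroup.normalizer ((T : Subgroup X) : Set X), ∀ y ∈ (T : Subgroup X), y ≠ 1 →
        (∀ v, (ρ y - 1) v ∈ LinearMap.range ((ρ x - 1) ^ 2)) →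
        ∀ a b c : ℕ, n * x * n⁻¹ = x ^ a * y ^ b → n * y * n⁻¹ = y ^ c →
          ∀ v, ρ n v - ((a * c : ℕ) : ZMod p) • v ∈ LinearMap.range (ρ x - 1)) : False := by
  haveI : Module.Finite (ZMod p) V := Module.Finite.of_finite
  obtain ⟨M, hM⟩ := exists_isEmb hY T
  have hnil : IsNilpotent (ρ x - 1) := by
    obtain ⟨e, he⟩ := T.isPGroup' ⟨x, hx⟩
    exact ⟨p ^ e, sub_one_pow_of_pow_eq_one ρ (by simpa using congrArg Subtype.val he)⟩
  have hregN := isRegNil_of_pow_ne hnil hd hreg
  by_cases hcomm : ∀ s ∈ (T : Subgroup X), ∀ t ∈ (T : Subgroup X), s * t = t * s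
  · obtain ⟨hcard, hdlt, hW⟩ := hab hcomm
    by_cases hq : ∃ z ∈ (T : Subgroup X), z ≠ 1 ∧ (ρ z - 1) * (ρ z - 1) = 0
    · obtain ⟨z, hz, hz1, hzz⟩ := hq
      exact false_of_quadratic ρ hp5 hinj hM hx hregN hT2 hz (hcomm x hx z hz) hz1 hzz
    · push Not at hq
      obtain ⟨y, A, j, hframe⟩ := exists_weightFrame ρ hinj T hx hregN hdlt hcomm hcard hq hW
      exact hframe.false_of_frame hinj fun N hN hNp =>
        FusionEssential.eq_bot_of_stronglyPEmbedded hY hN hNp
  · push Not at hcomm
    obtain ⟨z, hz, hxz, hz1, hzz⟩ := exists_quadratic_of_noncomm ρ hinj T.isPGroup' hx hregN hdp hcomm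
    exact false_of_quadratic ρ hp5 hinj hM hx hregN hT2 hz hxz hz1 hzz

end CfsgLib.MaxClassEssential
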