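import Cfsg.Agent.MaxClassEssential.GlueAut
import Cfsg.Agent.MaxClassEssential.GlueGroup
import Cfsg.Agent.MaxClassEssential.Uniserial

/-!
# Normal essential subgroups of a group of maximal class have index `p`
-/

set_option autoImplicit false
set_option linter.style.haveILetI false

namespace CfsgLib.MaxClassEssential

open Cfsg Cfsg.FusionSystem CfsgLib.Fusion CfsgLib.FusionEssential CfsgLib.PMaxClass
open CfsgLib.PMaxClass.MaxClass (layerCentralizer mem_layerCentralizer)
open scoped commutatorElement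

variable {Ω : Type*} [Group Ω] {S : Subgroup Ω} [Finite S] {F : FusionSystem S} {p n : ℕ}
  [hp : Fact p.Prime] {E : Subgroup Ω}

theorem le_normalizer_of_subgroupOf_normal {E S : Subgroup Ω} (hES : E ≤ S)
    (hEn : (E.subgroupOf S).Normal) : S ≤ Subgroup.normalizer (E : Set Ω) :=
  (Subgroup.normal_subgroupOf_iff_le_normalizer hES).1 hEn

/-- The terms and the Frattini subgroup of a normal essential subgroup of index at least `p²`. -/
theorem exists_levels (hp5 : 5 ≤ p) (hS : IsPGroup p S) (h : MaxClass S p n) (hn : 4 ≤ n)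
    (hess : F.IsEssential p E) (hEn : (E.subgroupOf S).Normal)
    (hk : p ^ 2 ≤ (E.subgroupOf S).index) :
    ∃ m d, 2 ≤ m ∧ m + 2 ≤ n ∧ 1 ≤ d ∧ d ≤ m ∧ d < p ∧
      E.subgroupOf S = Subgroup.upperCentralSeries S m ∧ (frattini E).index = p ^ d ∧
      ∀ e : E, e ∈ frattini E ↔
        Subgroup.inclusion hess.1.1 e ∈ Subgroup.upperCentralSeries S (m - d) := by
  haveI := finite_of_le hess.1.1
  haveI := hEn
  set ι := Subgroup.inclusion hess.1.1 with hι
  set U := Subgroup.upperCentralSeries S with hU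
  have hEp : IsPGroup p E := hS.to_le hess.1.1
  have hN := le_normalizer_of_subgroupOf_normal hess.1.1 hEn
  have hrange : ι.range = E.subgroupOf S := Subgroup.inclusion_range _
  -- the order of `E`
  obtain ⟨m, hm⟩ := IsPGroup.iff_card.1 (h.isPGroup.to_subgroup (E.subgroupOf S))
  obtain ⟨k, hk'⟩ := h.isPGroup.index (E.subgroupOf S)
  have hmk : m + k = n := Nat.pow_right_injective h.prime.two_le (show p ^ (m + k) = p ^ n by
    rw [pow_add, ← hm, ← hk', Subgroup.card_mul_index, h.card_eq])
  rw [hk', Nat.pow_le_pow_iff_right h.prime.one_lt] at hk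
  have hE : E.subgroupOf S = U m := h.normal_eq_upper (by omega) hm
  have hm2 : 2 ≤ m := by
    by_contra hlt
    have hle : U m ≤ Subgroup.center S := by
      rw [← Subgroup.upperCentralSeries_one]
      exact Subgroup.upperCentralSeries_mono S (by omega)
    have htop : (⊤ : Subgroup S) ≤ U m := by
      intro g _
      rw [← hE]
      refine Subgroup.mem_subgroupOf.2 (centralizerIn_le_of_centric hess.1
        (mem_centralizerIn'.2 ⟨g.2, fun e he => ?_⟩))
      have h1 : (⟨e, hess.1.1 he⟩ : S) ∈ U m := hE ▸ Subgroup.mem_subgroupOf.2 he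
      have h2 := congrArg Subtype.val (Subgroup.mem_center_iff.1 (hle h1) g)
      rw [Subgroup.coe_mul, Subgroup.coe_mul] at h2
      rw [mul_inv_eq_iff_eq_mul]
      exact h2
    have h3 := Subgroup.card_le_of_le htop
    rw [Subgroup.card_top, h.card_eq, h.card_upper (by omega),
      Nat.pow_le_pow_iff_right h.prime.one_lt] at h3
    omega
  have hcardE : Nat.card E = p ^ m := by
    rw [← hm]
    exact (Nat.card_congr (Subgroup.subgroupOfEquivOfLe hess.1.1).toEquiv).symm
  obtain ⟨d, hd⟩ := hEp.index (frattini E)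
  obtain ⟨e, he⟩ := IsPGroup.iff_card.1 (hEp.to_subgroup (frattini E))
  have hed : e + d = m := Nat.pow_right_injective h.prime.two_le (show p ^ (e + d) = p ^ m by
    rw [pow_add, ← he, ← hd, Subgroup.card_mul_index, hcardE])
  have hd1 : 1 ≤ d := by
    by_contra hd0
    have htop : frattini E = ⊤ :=
      Subgroup.index_eq_one.1 (by rw [hd, show d = 0 by omega, pow_zero])
    have hbot : (⊥ : Subgroup E) = ⊤ :=
      CfsgLib.Solvable.eq_top_of_sup_frattini (by rw [bot_sup_eq, htop])
    have h1 : Nat.card E = 1 := by rw [← Subgroup.card_top (G := E), ← hbot, Subgroup.card_bot]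
    rw [hcardE] at h1
    have := Nat.one_lt_pow (show m ≠ 0 by omega) h.prime.one_lt
    omega
  haveI : ((frattini E).map ι).Normal := by
    constructor
    rintro _ ⟨y, hy, rfl⟩ g
    refine ⟨conjOn hN g y, ?_, rfl⟩
    have hfix := (inferInstance : (frattini E).Characteristic).fixed (conjOn hN g)
    rw [← hfix] at hy
    exact hy
  have hcardD : Nat.card ((frattini E).map ι) = p ^ e := by
    rw [Subgroup.card_map_of_injective (Subgroup.inclusion_injective _), he]
  have hD : (frattini E).map ι = U e := h.normal_eq_upper (by omega) hcardD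
  have hdp : d < p := by
    have h1 : powSub p (E.subgroupOf S) ≤ (frattini E).map ι := by
      refine (Subgroup.closure_le _).2 ?_
      rintro _ ⟨y, hy, rfl⟩
      obtain ⟨y, rfl⟩ := hrange.ge hy
      exact ⟨y ^ p, CfsgLib.Solvable.pow_mem_frattini hEp y, map_pow ι y p⟩
    have h2 := (card_le_powSub_of_le h (by omega) (H := E.subgroupOf S)
      (hE ▸ Subgroup.upperCentralSeries_mono S (by omega))).trans
      (Nat.mul_le_mul_right _ (Subgroup.card_le_of_le h1))
    rw [hm, hcardD, ← pow_add, Nat.pow_le_pow_iff_right h.prime.one_lt] at h2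
    omega
  refine ⟨m, d, hm2, by omega, hd1, by omega, hdp, hE, hd, fun y => ?_⟩
  rw [show m - d = e by omega, ← hD]
  exact (Subgroup.mem_map_iff_mem (Subgroup.inclusion_injective _)).symm

/-- A normal essential subgroup of a group of maximal class has index `p`. -/
theorem false_of_index (hp5 : 5 ≤ p) (hS : IsPGroup p S) (h : MaxClass S p n) (hn : 4 ≤ n)
    (hF : F.IsSaturated p) (hess : F.IsEssential p E) (hEn : (E.subgroupOf S).Normal)
    (hk : p ^ 2 ≤ (E.subgroupOf S).index) : False := by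
  obtain ⟨m, d, hm2, hmn, hd1, hdm, hdp, hE, hd, hΦ⟩ := exists_levels hp5 hS h hn hess hEn hk
  haveI := finite_of_le hess.1.1
  set ι := Subgroup.inclusion hess.1.1 with hι
  set U := Subgroup.upperCentralSeries S with hU
  have hEp : IsPGroup p E := hS.to_le hess.1.1
  have hN := le_normalizer_of_subgroupOf_normal hess.1.1 hEn
  have hιE : ∀ e : E, ι e ∈ U m := fun e => hE ▸ Subgroup.mem_subgroupOf.2 e.2
  have hιsurj : ∀ g ∈ U m, ∃ e : E, ι e = g := fun g hg =>
    ⟨⟨g, Subgroup.mem_subgroupOf.1 (hE.symm ▸ hg : g ∈ E.subgroupOf S)⟩, rfl⟩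
  obtain ⟨hn', Y, hY⟩ := hess.2.2
  haveI := hn'
  obtain ⟨ρ, π, hinj, hπs, hπ0, hρ⟩ := exists_rep hS hess (frattini E) le_rfl
    (fun a b => CfsgLib.Solvable.commutator_le_frattini hEp
      (Subgroup.commutator_mem_commutator (Subgroup.mem_top a) (Subgroup.mem_top b)))
    (fun x => CfsgLib.Solvable.pow_mem_frattini hEp x) hd
  set mk := QuotientGroup.mk' ((Inn E).subgroupOf (F.autGroup E)) with hmk
  let cA : S →* F.autGroup E := (conjOn hN).codRestrict (F.autGroup E)
    fun g => autInducedBy_le_autGroup hess.1.1 (conjOn_mem hN g)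
  let cH : S →* F.autGroup E ⧸ (Inn E).subgroupOf (F.autGroup E) := mk.comp cA
  have hker : ∀ g : S, cH g = 1 ↔ g ∈ U m := fun g => by
    show mk (cA g) = 1 ↔ _
    rw [hmk, QuotientGroup.mk'_apply, QuotientGroup.eq_one_iff, Subgroup.mem_subgroupOf,
      ← hE, Subgroup.mem_subgroupOf]
    exact ⟨mem_of_conjOn_mem_Inn hess.1 hN, conjOn_mem_Inn hN⟩
  have heq : ∀ g g' : S, cH g = cH g' → g⁻¹ * g' ∈ U m := fun g g' hgg =>
    (hker _).1 (by rw [map_mul, map_inv, hgg, inv_mul_cancel])
  -- the Sylow subgroup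
  obtain ⟨hauto, -⟩ := automized_receptive hS hF hess.2.1
  obtain ⟨R, hR⟩ := hauto.2
  let T := R.mapSurjective (f := mk) (QuotientGroup.mk'_surjective _)
  have hT : ∀ y, y ∈ (T : Subgroup (F.autGroup E ⧸ (Inn E).subgroupOf (F.autGroup E))) ↔ ∃ g : S, cH g = y := by
    intro y
    rw [show (T : Subgroup (F.autGroup E ⧸ (Inn E).subgroupOf (F.autGroup E))) = (R : Subgroup (F.autGroup E)).map mk from
      Sylow.coe_mapSurjective _ _]
    constructor
    · rintro ⟨α, hα, rfl⟩
      obtain ⟨g, hg⟩ := exists_conjOn_eq hN (Subgroup.mem_subgroupOf.1 (hR.le hα))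
      exact ⟨g, congrArg mk (Subtype.ext hg : cA g = α)⟩
    · rintro ⟨g, rfl⟩
      exact ⟨cA g, hR.ge (Subgroup.mem_subgroupOf.2 (conjOn_mem hN g)), rfl⟩
  have hTr : (T : Subgroup (F.autGroup E ⧸ (Inn E).subgroupOf (F.autGroup E))) = cH.range := by
    ext y
    rw [hT, MonoidHom.mem_range]
  have hcardT : Nat.card (T : Subgroup (F.autGroup E ⧸ (Inn E).subgroupOf (F.autGroup E))) * p ^ m = p ^ n := by
    rw [hTr, ← Subgroup.index_ker, ← h.card_eq, ← Subgroup.card_mul_index cH.ker, mul_comm]
    congr 1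
    rw [show cH.ker = U m from Subgroup.ext fun g => hker g, hU, h.card_upper (by omega)]
  -- the action of `S`
  let δ : S → E → E := fun g e => conjOn hN g e * e⁻¹
  have hδ : ∀ g e, ι (δ g e) = ⁅g, ι e⁆ := fun g e => Subtype.ext rfl
  have hπδ : ∀ g e, π (Additive.ofMul (δ g e)) = (ρ (cH g) - 1) (π (Additive.ofMul e)) := by
    intro g e
    rw [LinearMap.sub_apply, Module.End.one_apply]
    show π (Additive.ofMul (conjOn hN g e * e⁻¹)) = _
    rw [ofMul_mul, map_add, ofMul_inv, map_neg, ← sub_eq_add_neg]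
    exact congrArg (· - π (Additive.ofMul e)) (hρ (cA g) e)
  have hδlev : ∀ g e i, ι e ∈ U (i + 1) → ι (δ g e) ∈ U i := fun g e i he => by
    rw [hδ, ← commutatorElement_inv]
    exact inv_mem (Subgroup.mem_upperCentralSeries_succ_iff.1 he g)
  have hδiter : ∀ g e i, ι e ∈ U m → ∃ e' : E, ι e' ∈ U (m - i) ∧
      ((ρ (cH g) - 1) ^ i) (π (Additive.ofMul e)) = π (Additive.ofMul e') := by
    intro g e i he
    induction i with
    | zero => exact ⟨e, he, rfl⟩
    | succ i ih =>
      obtain ⟨e', he', heq'⟩ := ih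
      rcases Nat.eq_zero_or_pos (m - i) with h0 | h0
      · refine ⟨δ g e', ?_, by rw [pow_succ', Module.End.mul_apply, heq', hπδ]⟩
        rw [h0, hU, Subgroup.upperCentralSeries_zero, Subgroup.mem_bot] at he'
        rw [hδ, he', commutatorElement_one_right]
        exact one_mem _
      · exact ⟨δ g e', hδlev g e' _ (by rwa [show m - (i + 1) + 1 = m - i by omega]),
          by rw [pow_succ', Module.End.mul_apply, heq', hπδ]⟩
  have hπlow : ∀ e : E, ι e ∈ U (m - d) → π (Additive.ofMul e) = 0 := fun e he =>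
    (hπ0 e).2 ((hΦ e).2 he)
  have hNd : ∀ g : S, (ρ (cH g) - 1) ^ d = 0 := fun g => by
    refine LinearMap.ext fun v => ?_
    obtain ⟨e, rfl⟩ := hπs v
    obtain ⟨e', he', heq'⟩ := hδiter g e.toMul d (hιE _)
    rw [ofMul_toMul] at heq'
    rw [heq', hπlow e' he', LinearMap.zero_apply]
  have hd2 : 2 ≤ d := by
    by_contra hlt
    obtain rfl : d = 1 := by omega
    have hall : ∀ g : S, g ∈ U m := fun g => (hker g).1 (hinj (by
      have := hNd g
      rw [pow_one, sub_eq_zero] at this
      rw [this, map_one]))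
    have h3 := Subgroup.card_le_of_le (fun g _ => hall g : (⊤ : Subgroup S) ≤ U m)
    rw [Subgroup.card_top, h.card_eq, hU, h.card_upper (by omega),
      Nat.pow_le_pow_iff_right h.prime.one_lt] at h3
    omega
  -- a regular element
  obtain ⟨s, hs⟩ := h.exists_avoid (J := Finset.Icc (m + 2 - d) m)
    (fun j hj => by rw [Finset.mem_Icc] at hj; omega) (by rw [Nat.card_Icc]; omega)
  set x := cH s with hx
  set N := ρ x - 1 with hNdef
  have hchain : ∀ i, i + 1 ≤ d → ∃ e : E, ι e ∈ U (m - i) ∧ ι e ∉ U (m - i - 1) ∧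
      π (Additive.ofMul e) ∈ LinearMap.range (N ^ i) := by
    intro i hi
    induction i with
    | zero =>
      obtain ⟨g, hg, hg'⟩ := SetLike.not_le_iff_exists.1 (h.upper_lt (j := m) (by omega) (by omega))
      obtain ⟨e, rfl⟩ := hιsurj g hg
      exact ⟨e, hg, hg', ⟨_, rfl⟩⟩
    | succ i ih =>
      obtain ⟨e, he, he', v, hv⟩ := ih (by omega)
      refine ⟨δ s e, hδlev s e _ (by rwa [show m - (i + 1) + 1 = m - i by omega]), fun hbad => ?_,
        ⟨v, by rw [pow_succ', Module.End.mul_apply, hv, hπδ]⟩⟩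
      refine hs (m - i) (Finset.mem_Icc.2 ⟨by omega, by omega⟩)
        (h.mem_layerCentralizer_of_exact (a := ι e) (by omega) (by omega) he he' ?_)
      rw [← commutatorElement_inv, ← hδ]
      rw [show m - (i + 1) - 1 = m - i - 2 by omega] at hbad
      exact inv_mem hbad
  have hreg : N ^ (d - 1) ≠ 0 := by
    intro h0
    obtain ⟨e, -, he', v, hv⟩ := hchain (d - 1) (by omega)
    rw [h0, LinearMap.zero_apply] at hv
    refine he' ?_
    rw [show m - (d - 1) - 1 = m - d by omega]
    exact (hΦ e).1 ((hπ0 e).1 hv.symm)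
  have hlow : ∀ j, j + 1 ≤ d → ∀ e : E, ι e ∈ U (m - d + j) →
      π (Additive.ofMul e) ∈ LinearMap.range N := by
    intro j
    induction j with
    | zero => exact fun _ e he => hπlow e he ▸ zero_mem _
    | succ j ih =>
      intro hj e he
      obtain ⟨a, ha, ha', v, hv⟩ := hchain (d - (j + 1)) (by omega)
      rw [show m - (d - (j + 1)) = m - d + (j + 1) by omega] at ha ha'
      rw [show m - d + (j + 1) - 1 = m - d + j by omega] at ha'
      let K : Subgroup E :=
        { carrier := {y | π (Additive.ofMul y) ∈ LinearMap.range N}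
          one_mem' := by
            show π 0 ∈ LinearMap.range N
            rw [map_zero]; exact zero_mem _
          mul_mem' := fun {y z} hy hz => by
            show π (Additive.ofMul y + Additive.ofMul z) ∈ LinearMap.range N
            rw [map_add]; exact add_mem hy hz
          inv_mem' := fun {y} hy => by
            show π (-Additive.ofMul y) ∈ LinearMap.range N
            rw [map_neg]; exact neg_mem hy }
      have hK1 : U (m - d + j) ≤ K.map ι := fun g hg => by
        obtain ⟨y, rfl⟩ := hιsurj g (Subgroup.upperCentralSeries_mono S (by omega) hg)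
        exact ⟨y, ih (by omega) y hg, rfl⟩
      have haK : a ∈ K := by
        obtain ⟨i, hi⟩ : ∃ i, d - (j + 1) = i + 1 := ⟨d - (j + 1) - 1, by omega⟩
        refine ⟨(N ^ i) v, ?_⟩
        rw [← hv, hi, pow_succ', Module.End.mul_apply]
      have hsup : U (m - d + (j + 1)) ≤ K.map ι := by
        refine le_trans (le_of_eq ?_) (sup_le hK1 (Subgroup.zpowers_le.2 ⟨a, haK, rfl⟩) :
          U (m - d + j) ⊔ Subgroup.zpowers (ι a) ≤ K.map ι)
        symm
        refine Subgroup.eq_of_le_of_card_ge (sup_le (Subgroup.upperCentralSeries_mono S (by omega))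
          (Subgroup.zpowers_le.2 ha)) ?_
        have h1 := card_mul_le_of_lt h.isPGroup (lt_of_le_of_ne le_sup_left
          fun (e' : U (m - d + j) = U (m - d + j) ⊔ Subgroup.zpowers (ι a)) =>
            ha' (e'.symm ▸ Subgroup.mem_sup_right (Subgroup.mem_zpowers (ι a)) :
              ι a ∈ U (m - d + j)))
        rw [hU, h.card_upper (by omega), ← pow_succ] at h1
        rw [hU, h.card_upper (by omega)]
        exact h1
      obtain ⟨y, hy, hye⟩ := hsup he
      rwa [← Subgroup.inclusion_injective hess.1.1 hye]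
  refine false_of_uniserial ρ hp5 hinj hY T ((hT x).2 ⟨s, rfl⟩) (d := d)
    (by rw [Module.finrank_fintype_fun_eq_card, Fintype.card_fin]) hreg hdp.le ?_ ?_
  · refine Nat.le_of_mul_le_mul_right ?_ (pow_pos h.prime.pos m)
    rw [hcardT, ← pow_add]
    exact Nat.pow_le_pow_right h.prime.pos (by omega)
  intro hcomm
  -- the quotient is abelian
  have hm : m = n - 2 := by
    by_contra hne
    have htop : (⊤ : Subgroup S) ≤ U (m + 1) := fun g _ => by
      rw [hU, Subgroup.mem_upperCentralSeries_succ_iff]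
      intro y
      rw [← hU, ← hker, map_commutatorElement, commutatorElement_eq_one_iff_mul_comm]
      exact hcomm _ ((hT _).2 ⟨g, rfl⟩) _ ((hT _).2 ⟨y, rfl⟩)
    have h3 := Subgroup.card_le_of_le htop
    rw [Subgroup.card_top, h.card_eq, hU, h.card_upper (by omega),
      Nat.pow_le_pow_iff_right h.prime.one_lt] at h3
    omega
  have hcard2 : Nat.card (T : Subgroup (F.autGroup E ⧸ (Inn E).subgroupOf (F.autGroup E))) = p ^ 2 := by
    refine Nat.eq_of_mul_eq_mul_right (pow_pos h.prime.pos m) (hcardT.trans ?_)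
    rw [← pow_add]
    congr 1
    omega
  refine ⟨hcard2, hdp, ?_⟩
  intro ν hν y hy hy1 hyr a b c hnx hny
  obtain ⟨α, rfl⟩ := QuotientGroup.mk'_surjective _ ν
  obtain ⟨t, rfl⟩ := (hT y).1 hy
  have hxp : x ^ p = 1 := by
    have h1 := pow_eq_one_of_sub_one_pow ρ hinj (g := x) (e := 1) (by
      rw [pow_one]
      exact pow_eq_zero_of_le hdp.le (hNd s))
    rwa [pow_one] at h1
  -- `cH t` is not a power of `x`
  have hyx : ∀ i : ℕ, cH t ≠ x ^ i := by
    intro i hi
    rcases Classical.em ((i : ZMod p) = 0) with hi0 | hi0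
    · obtain ⟨q, rfl⟩ := (ZMod.natCast_eq_zero_iff _ _).1 hi0
      rw [pow_mul, hxp, one_pow] at hi
      exact hy1 hi
    have hexp : ∀ i : ℕ, ∃ M, ρ x ^ i = 1 + (i : ZMod p) • N + N ^ 2 * M := by
      intro i
      induction i with
      | zero => exact ⟨0, by simp⟩
      | succ i ih =>
        obtain ⟨M, hM⟩ := ih
        refine ⟨M * ρ x + (i : ZMod p) • 1, ?_⟩
        rw [pow_succ, hM, show ρ x = 1 + N by rw [hNdef]; abel, Nat.cast_succ, add_smul, one_smul]
        simp only [mul_add, add_mul, one_mul, mul_one, smul_mul_assoc, mul_smul_comm, sq,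
          mul_assoc]
        abel
    obtain ⟨M, hM⟩ := hexp i
    have hrange : ∀ v, ∃ w, N v = (N ^ 2) w := by
      intro v
      obtain ⟨w, hw⟩ := hyr v
      refine ⟨(i : ZMod p)⁻¹ • (w - M v), ?_⟩
      have h1 : (ρ (cH t) - 1) v = (i : ZMod p) • N v + (N ^ 2) (M v) := by
        rw [hi, map_pow, hM]
        simp [Module.End.mul_apply, add_assoc]
      rw [← hw, ← hNdef] at h1
      rw [map_smul, map_sub, h1, add_sub_cancel_right, inv_smul_smul₀ hi0]
    have hall : ∀ j v, ∃ w, N v = (N ^ (j + 1)) w := by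
      intro j
      induction j with
      | zero => exact fun v => ⟨v, by rw [zero_add, pow_one]⟩
      | succ j ih =>
        intro v
        obtain ⟨w, hw⟩ := ih v
        obtain ⟨w', hw'⟩ := hrange w
        refine ⟨w', ?_⟩
        rw [hw, pow_succ N j, Module.End.mul_apply, hw', ← Module.End.mul_apply, ← pow_add]
    have hN0 : N = 0 := LinearMap.ext fun v => by
      obtain ⟨w, hw⟩ := hall (d - 1) v
      rw [hw, show d - 1 + 1 = d by omega, hNd s]
      rfl
    exact hreg (by rw [hN0, zero_pow (by omega)])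
  -- `α` extends
  have hnorm : ∀ β ∈ autInducedBy S E, (α : MulAut E) * β * (α : MulAut E)⁻¹ ∈ autInducedBy S E := by
    intro β hβ
    obtain ⟨g, rfl⟩ := exists_conjOn_eq hN hβ
    obtain ⟨g', hg'⟩ := (hT _).1
      ((Subgroup.mem_normalizer_iff.1 hν (cH g)).1 ((hT _).2 ⟨g, rfl⟩))
    have h1 : mk (α * cA g * α⁻¹) = mk (cA g') := by
      rw [map_mul, map_mul, map_inv]
      exact hg'.symm
    have h2 : (cA g')⁻¹ * (α * cA g * α⁻¹) ∈ (Inn E).subgroupOf (F.autGroup E) :=
      QuotientGroup.eq.1 h1.symm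
    have h3 := (autInducedBy S E).mul_mem (conjOn_mem hN g')
      (Inn_le_autInducedBy hess.1.1 (Subgroup.mem_subgroupOf.1 h2))
    simpa [cA] using h3
  obtain ⟨β, -, hβe, hβc⟩ := exists_aut_extension hS hF hess.2.1 hN α.2 hnorm
  have hcHβ : ∀ g : S, cH (β g) = mk α * cH g * (mk α)⁻¹ := fun g => by
    show mk (cA (β g)) = mk α * mk (cA g) * (mk α)⁻¹
    rw [← map_inv, ← map_mul, ← map_mul]
    exact congrArg mk (Subtype.ext (hβc g).symm)
  have hs1 := heq (s ^ a * t ^ b) (β s) (by rw [hcHβ, map_mul, map_pow, map_pow]; exact hnx.symm)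
  have ht1 := heq (t ^ c) (β t) (by rw [hcHβ, map_pow]; exact hny.symm)
  have hgen : U (n - 2) ⊔ Subgroup.zpowers s ⊔ Subgroup.zpowers t = ⊤ := by
    have hs' : s ∉ U m := fun hh => hreg (by
      rw [hNdef, hx, (hker s).2 hh, map_one, sub_self, zero_pow (by omega)])
    have ht' : t ∉ U m ⊔ Subgroup.zpowers s := fun hh => by
      have hle : U m ⊔ Subgroup.zpowers s ≤ (Subgroup.zpowers x).comap cH :=
        sup_le (fun g hg => by rw [Subgroup.mem_comap, (hker g).2 hg]; exact one_mem _)
          (Subgroup.zpowers_le.2 (Subgroup.mem_zpowers x))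
      have h1 : cH t ∈ Subgroup.zpowers x := hle hh
      rw [← mem_powers_iff_mem_zpowers, Submonoid.mem_powers_iff] at h1
      obtain ⟨i, hi⟩ := h1
      exact hyx i hi.symm
    rw [← hm]
    refine Subgroup.eq_top_of_le_card _ ?_
    have h1 := card_mul_le_of_lt h.isPGroup (lt_of_le_of_ne le_sup_left
      fun (e : U m = U m ⊔ Subgroup.zpowers s) => hs' (e.symm ▸
        Subgroup.mem_sup_right (Subgroup.mem_zpowers s) : s ∈ U m))
    have h2 := card_mul_le_of_lt h.isPGroup (lt_of_le_of_ne le_sup_left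
      fun (e : U m ⊔ Subgroup.zpowers s = U m ⊔ Subgroup.zpowers s ⊔ Subgroup.zpowers t) =>
        ht' (e.symm ▸ Subgroup.mem_sup_right (Subgroup.mem_zpowers t) :
          t ∈ U m ⊔ Subgroup.zpowers s))
    rw [hU, h.card_upper (by omega)] at h1
    rw [h.card_eq]
    refine le_trans ?_ ((Nat.mul_le_mul_right p h1).trans h2)
    rw [mul_assoc, ← sq, ← pow_add]
    exact Nat.pow_le_pow_right h.prime.pos (by omega)
  have hw := commutator_gen_not_mem h (by omega) hgen
  have hwE : ⁅t, s⁆ ∈ U m := hm.symm ▸ h.commutator_mem_upper (by omega) t s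
  obtain ⟨w, hwι⟩ := hιsurj _ hwE
  -- the top weight
  have hβw : ι ((α : MulAut E) w) = β ⁅t, s⁆ := by
    rw [← hwι]
    exact Subtype.ext (hβe w).symm
  have hmain : π (Additive.ofMul ((α : MulAut E) w)) - ((a * c : ℕ) : ZMod p) •
      π (Additive.ofMul w) ∈ LinearMap.range N := by
    have hcong := commutator_zpow_mod h (by omega) (s := s) (t := t) a b c
      (show (s ^ a * t ^ b)⁻¹ * β s ∈ Subgroup.upperCentralSeries S (n - 2) from hm ▸ hs1)
      (show (t ^ c)⁻¹ * β t ∈ Subgroup.upperCentralSeries S (n - 2) from hm ▸ ht1)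
    rw [mul_inv_cancel_left, mul_inv_cancel_left, QuotientGroup.eq, ← map_commutatorElement,
      ← hβw] at hcong
    have h1 := hlow (d - 1) (by omega) (((α : MulAut E) w)⁻¹ * w ^ (c * a)) (by
      rw [show m - d + (d - 1) = n - 3 by omega, map_mul, map_inv, map_pow, hwι]
      exact hcong)
    have h2 := neg_mem h1
    rw [ofMul_mul, ofMul_inv, ofMul_pow, map_add, map_neg, map_nsmul, neg_add, neg_neg,
      ← sub_eq_add_neg, ← Nat.cast_smul_eq_nsmul (ZMod p), mul_comm c a] at h2
    exact h2
  intro v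
  obtain ⟨e, rfl⟩ := hπs v
  let K : Subgroup E :=
    { carrier := {y | π (Additive.ofMul ((α : MulAut E) y)) - ((a * c : ℕ) : ZMod p) •
        π (Additive.ofMul y) ∈ LinearMap.range N}
      one_mem' := by
        show π (Additive.ofMul ((α : MulAut E) 1)) - ((a * c : ℕ) : ZMod p) • π (Additive.ofMul 1) ∈ LinearMap.range N
        simp
      mul_mem' := fun {y z} hy hz => by
        show π (Additive.ofMul ((α : MulAut E) (y * z))) - ((a * c : ℕ) : ZMod p) • π (Additive.ofMul (y * z)) ∈ LinearMap.range N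
        rw [map_mul, ofMul_mul, ofMul_mul, map_add, map_add, smul_add, add_sub_add_comm]
        exact add_mem hy hz
      inv_mem' := fun {y} hy => by
        show π (Additive.ofMul ((α : MulAut E) y⁻¹)) - ((a * c : ℕ) : ZMod p) • π (Additive.ofMul y⁻¹) ∈ LinearMap.range N
        rw [map_inv, ofMul_inv, ofMul_inv, map_neg, map_neg, smul_neg, ← neg_sub']
        exact neg_mem hy }
  have hle : U m ≤ K.map ι := by
    refine le_trans (le_of_eq ?_) (sup_le (fun g hg => ?_) (Subgroup.zpowers_le.2 ⟨w, hmain, hwι⟩) :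
      U (n - 3) ⊔ Subgroup.zpowers ⁅t, s⁆ ≤ K.map ι)
    · symm
      refine Subgroup.eq_of_le_of_card_ge (sup_le (Subgroup.upperCentralSeries_mono S (by omega))
        (Subgroup.zpowers_le.2 hwE)) ?_
      have h1 := card_mul_le_of_lt h.isPGroup (lt_of_le_of_ne le_sup_left
        fun (e' : U (n - 3) = U (n - 3) ⊔ Subgroup.zpowers ⁅t, s⁆) =>
          hw (e'.symm ▸ Subgroup.mem_sup_right (Subgroup.mem_zpowers ⁅t, s⁆) :
            ⁅t, s⁆ ∈ U (n - 3)))
      rw [hU, h.card_upper (by omega), ← pow_succ] at h1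
      rw [hU, h.card_upper (by omega)]
      exact le_trans (Nat.pow_le_pow_right h.prime.pos (by omega)) h1
    · obtain ⟨y, rfl⟩ := hιsurj g (Subgroup.upperCentralSeries_mono S (by omega) hg)
      have hαy : ι ((α : MulAut E) y) ∈ U (n - 3) := by
        rw [show ι ((α : MulAut E) y) = β (ι y) from Subtype.ext (hβe y).symm]
        have hchar : (Subgroup.upperCentralSeries S (n - 3)).comap β.toMonoidHom =
            Subgroup.upperCentralSeries S (n - 3) :=
          (inferInstance : (Subgroup.upperCentralSeries S (n - 3)).Characteristic).fixed β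
        exact (hchar.symm ▸ hg : ι y ∈ (Subgroup.upperCentralSeries S (n - 3)).comap β.toMonoidHom)
      refine ⟨y, sub_mem (hlow (d - 1) (by omega) _ ?_)
        (Submodule.smul_mem _ _ (hlow (d - 1) (by omega) _ ?_)), rfl⟩
      · rwa [show m - d + (d - 1) = n - 3 by omega]
      · rwa [show m - d + (d - 1) = n - 3 by omega]
  obtain ⟨y, hy, hye⟩ := hle (hιE e.toMul)
  rw [Subgroup.inclusion_injective hess.1.1 hye] at hy
  have hy' : π (Additive.ofMul ((α : MulAut E) e.toMul)) - ((a * c : ℕ) : ZMod p) •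
      π (Additive.ofMul e.toMul) ∈ LinearMap.range N := hy
  rwa [hρ α e.toMul] at hy'

end CfsgLib.MaxClassEssential
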