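import Cfsg.Agent.MaxClassEssential.Torus

/-!
# Block upper triangular elements for the three idempotents of a quadratic pair
-/

set_option autoImplicit false
set_option linter.unusedSimpArgs false

namespace CfsgLib.MaxClassEssential

variable {F : Type*} [Field F] {A : Type*} [Ring A] [Algebra F A] {Z Y : A}

/-- Three orthogonal idempotents with sum `1`. -/
structure IsFrame (e₁ e₂ e₃ : A) : Prop where
  one : e₁ + e₂ + e₃ = 1
  i11 : e₁ * e₁ = e₁
  i22 : e₂ * e₂ = e₂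
  i33 : e₃ * e₃ = e₃
  o12 : e₁ * e₂ = 0
  o21 : e₂ * e₁ = 0
  o13 : e₁ * e₃ = 0
  o31 : e₃ * e₁ = 0
  o23 : e₂ * e₃ = 0
  o32 : e₃ * e₂ = 0

theorem IsTorusPair.isFrame (h : IsTorusPair F Z Y) :
    IsFrame (Z * Y) (1 - (Z * Y + Y * Z)) (Y * Z) := by
  refine ⟨by abel, h.e11, ?_, h.e33, ?_, ?_, h.e13, h.e31, ?_, ?_⟩ <;>
    simp only [mul_sub, sub_mul, mul_add, add_mul, mul_one, one_mul, h.e11, h.e33, h.e13, h.e31] <;>
    abel

/-- Block upper triangular elements. -/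
def IsUpper (e₁ e₂ e₃ a : A) : Prop := e₂ * a * e₁ = 0 ∧ e₃ * a * e₁ = 0 ∧ e₃ * a * e₂ = 0

/-- The block diagonal part. -/
def diagPart (e₁ e₂ e₃ a : A) : A := e₁ * a * e₁ + e₂ * a * e₂ + e₃ * a * e₃

variable {e₁ e₂ e₃ : A}

theorem IsFrame.decomp (hf : IsFrame e₁ e₂ e₃) {a : A} (ha : IsUpper e₁ e₂ e₃ a) :
    a = diagPart e₁ e₂ e₃ a + (e₁ * a * e₂ + e₁ * a * e₃ + e₂ * a * e₃) := by
  obtain ⟨h21, h31, h32⟩ := ha
  conv_lhs => rw [← one_mul a, ← mul_one (1 * a), ← hf.one]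
  simp only [diagPart, add_mul, mul_add, h21, h31, h32]
  abel

theorem IsFrame.diagPart_one (hf : IsFrame e₁ e₂ e₃) : diagPart e₁ e₂ e₃ (1 : A) = 1 := by
  simp only [diagPart, mul_one, hf.i11, hf.i22, hf.i33, hf.one]

theorem IsFrame.diagPart_mul (hf : IsFrame e₁ e₂ e₃) {a b : A} (ha : IsUpper e₁ e₂ e₃ a)
    (hb : IsUpper e₁ e₂ e₃ b) :
    diagPart e₁ e₂ e₃ (a * b) = diagPart e₁ e₂ e₃ a * diagPart e₁ e₂ e₃ b := by
  obtain ⟨a21, a31, a32⟩ := ha
  obtain ⟨b21, b31, b32⟩ := hb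
  have key : ∀ e : A, e * (a * b) * e =
      e * a * e₁ * (e₁ * b * e) + e * a * e₂ * (e₂ * b * e) + e * a * e₃ * (e₃ * b * e) := by
    intro e
    have : ∀ f : A, f * f = f → e * a * f * (f * b * e) = e * a * f * (b * e) := fun f hff => by
      simp only [← mul_assoc]
      rw [mul_assoc (e * a) f f, hff]
    rw [this _ hf.i11, this _ hf.i22, this _ hf.i33, ← add_mul, ← add_mul, ← mul_add, ← mul_add,
      hf.one, mul_one]
    simp only [mul_assoc]
  have orth : ∀ e f : A, e * f = 0 → ∀ x y : A, x * e * (f * y) = 0 := fun e f hef x y => by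
    rw [mul_assoc x, ← mul_assoc e f y, hef, zero_mul, mul_zero]
  simp only [diagPart, key, b21, b31, b32, a21, a31, a32, zero_mul, mul_zero, add_zero, zero_add,
    mul_add, add_mul]
  simp only [mul_assoc e₁ b, mul_assoc e₂ b, mul_assoc e₃ b, orth _ _ hf.o12, orth _ _ hf.o21,
    orth _ _ hf.o13, orth _ _ hf.o31, orth _ _ hf.o23, orth _ _ hf.o32, add_zero, zero_add]

theorem IsFrame.cube_eq_zero (hf : IsFrame e₁ e₂ e₃) {a : A} (ha : IsUpper e₁ e₂ e₃ a)
    (hd : diagPart e₁ e₂ e₃ a = 0) : a * a * a = 0 := by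
  have h := hf.decomp ha
  rw [hd, zero_add] at h
  have orth : ∀ e f : A, e * f = 0 → ∀ x y : A, x * e * (f * y) = 0 := fun e f hef x y => by
    rw [mul_assoc x, ← mul_assoc e f y, hef, zero_mul, mul_zero]
  have orth' : ∀ e f : A, e * f = 0 → ∀ y : A, e * (f * y) = 0 := fun e f hef y => by
    rw [← mul_assoc, hef, zero_mul]
  rw [h]
  simp only [add_mul, mul_add, mul_assoc, orth' _ _ hf.o12, orth' _ _ hf.o21, orth' _ _ hf.o13,
    orth' _ _ hf.o31, orth' _ _ hf.o23, orth' _ _ hf.o32, mul_zero, zero_add, add_zero]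

theorem IsTorusPair.isUpper_of_commute (h : IsTorusPair F Z Y) {a : A} (ha : a * Z = Z * a) :
    IsUpper (Z * Y) (1 - (Z * Y + Y * Z)) (Y * Z) a := by
  have z1 : (1 - (Z * Y + Y * Z)) * Z = 0 := by
    rw [sub_mul, one_mul, add_mul, h.zyz, mul_assoc Y Z Z, h.zz, mul_zero, add_zero, sub_self]
  have z2 : Y * Z * Z = 0 := by rw [mul_assoc, h.zz, mul_zero]
  have z3 : Z * (1 - (Z * Y + Y * Z)) = 0 := by
    rw [mul_sub, mul_one, mul_add, ← mul_assoc Z Z Y, h.zz, zero_mul, zero_add, ← mul_assoc, h.zyz,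
      sub_self]
  refine ⟨?_, ?_, ?_⟩
  · calc (1 - (Z * Y + Y * Z)) * a * (Z * Y)
        = (1 - (Z * Y + Y * Z)) * (a * Z) * Y := by simp only [mul_assoc]
      _ = 0 := by rw [ha, ← mul_assoc, z1, zero_mul, zero_mul]
  · calc Y * Z * a * (Z * Y) = Y * Z * (a * Z) * Y := by simp only [mul_assoc]
      _ = 0 := by rw [ha, ← mul_assoc, z2, zero_mul, zero_mul]
  · calc Y * Z * a * (1 - (Z * Y + Y * Z))
        = Y * (Z * a) * (1 - (Z * Y + Y * Z)) := by simp only [mul_assoc]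
      _ = 0 := by rw [← ha, mul_assoc, mul_assoc, z3, mul_zero, mul_zero]

/-- An element commuting with `Z` and with an element of three distinct eigenvalues on the frame
commutes with `Y`. -/
theorem IsTorusPair.commute_of_commute (h : IsTorusPair F Z Y) {a H : A} {c₁ c₂ c₃ : F}
    (hH : H = c₁ • (Z * Y) + c₂ • (1 - (Z * Y + Y * Z)) + c₃ • (Y * Z)) (h12 : c₁ ≠ c₂)
    (h13 : c₁ ≠ c₃) (h23 : c₂ ≠ c₃) (haH : a * H = H * a) (haZ : a * Z = Z * a) : a * Y = Y * a := by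
  have hf := h.isFrame
  set e₁ := Z * Y with he₁
  set e₂ := 1 - (Z * Y + Y * Z) with he₂
  set e₃ := Y * Z with he₃
  have l1 : e₁ * H = c₁ • e₁ := by
    simp [hH, mul_add, hf.i11, hf.o12, hf.o13]
  have r1 : H * e₁ = c₁ • e₁ := by simp [hH, add_mul, hf.i11, hf.o21, hf.o31]
  have l2 : e₂ * H = c₂ • e₂ := by simp [hH, mul_add, hf.i22, hf.o21, hf.o23]
  have r2 : H * e₂ = c₂ • e₂ := by simp [hH, add_mul, hf.i22, hf.o12, hf.o32]
  have l3 : e₃ * H = c₃ • e₃ := by simp [hH, mul_add, hf.i33, hf.o31, hf.o32]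
  have r3 : H * e₃ = c₃ • e₃ := by simp [hH, add_mul, hf.i33, hf.o13, hf.o23]
  have off : ∀ (e f : A) (c d : F), e * H = c • e → H * f = d • f → c ≠ d → e * a * f = 0 := by
    intro e f c d he hf' hcd
    have h1 : c • (e * a * f) = d • (e * a * f) := by
      calc c • (e * a * f) = (e * H) * a * f := by rw [he, smul_mul_assoc, smul_mul_assoc]
        _ = e * (H * a) * f := by simp only [mul_assoc]
        _ = e * (a * H) * f := by rw [haH]
        _ = e * a * (H * f) := by simp only [mul_assoc]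
        _ = d • (e * a * f) := by rw [hf', mul_smul_comm]
    rw [← sub_eq_zero, ← sub_smul, smul_eq_zero] at h1
    exact h1.resolve_left (sub_ne_zero.2 hcd)
  have hc1 : e₁ * a = a * e₁ := by
    calc e₁ * a = e₁ * a * (e₁ + e₂ + e₃) := by rw [hf.one, mul_one]
      _ = e₁ * a * e₁ := by
        rw [mul_add, mul_add, off _ _ _ _ l1 r2 h12, off _ _ _ _ l1 r3 h13, add_zero, add_zero]
      _ = (e₁ + e₂ + e₃) * a * e₁ := by
        rw [add_mul, add_mul, add_mul, add_mul, off _ _ _ _ l2 r1 h12.symm,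
          off _ _ _ _ l3 r1 h13.symm, add_zero, add_zero]
      _ = a * e₁ := by rw [hf.one, one_mul]
  have hc3 : e₃ * a = a * e₃ := by
    calc e₃ * a = e₃ * a * (e₁ + e₂ + e₃) := by rw [hf.one, mul_one]
      _ = e₃ * a * e₃ := by
        rw [mul_add, mul_add, off _ _ _ _ l3 r1 h13.symm, off _ _ _ _ l3 r2 h23.symm, zero_add,
          zero_add]
      _ = (e₁ + e₂ + e₃) * a * e₃ := by
        rw [add_mul, add_mul, add_mul, add_mul, off _ _ _ _ l1 r3 h13, off _ _ _ _ l2 r3 h23,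
          zero_add, zero_add]
      _ = a * e₃ := by rw [hf.one, one_mul]
  rw [he₁] at hc1
  rw [he₃] at hc3
  calc a * Y = a * (Y * Z) * Y := by rw [mul_assoc a (Y * Z), h.yzy]
    _ = Y * Z * a * Y := by rw [hc3]
    _ = Y * (a * Z) * Y := by rw [haZ]; simp only [mul_assoc]
    _ = Y * (a * (Z * Y)) := by simp only [mul_assoc]
    _ = Y * (Z * Y * a) := by rw [hc1]
    _ = Y * a := by rw [← mul_assoc, ← mul_assoc, h.yzy]

end CfsgLib.MaxClassEssential
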