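import Mathlib.Algebra.Algebra.Basic
import Mathlib.Tactic.NoncommRing
import Mathlib.Tactic.Module
import Mathlib.Tactic.LinearCombination

/-!
# The relations of a quadratic pair

`Z`, `Y` square to zero and satisfy the braid relation `Z + Y = ZYZ + YZY`, and the product
`W 2 * (W 1)⁻¹` of the Weyl elements `W s = (1 + sZ)(1 - s⁻¹Y)(1 + sZ)` scales `Z` by `4`.  Then
`C = ZY + YZ` is an idempotent fixing `Z` and `Y`, and `ZY`, `1 - C`, `YZ` are orthogonal idempotents
on which that product acts as `2`, `1`, `2⁻¹`.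
-/

set_option autoImplicit false
set_option linter.unusedSimpArgs false

namespace CfsgLib.MaxClassEssential

variable {F : Type*} [Field F] {A : Type*} [Ring A] [Algebra F A]

/-- The Weyl element of the pair. -/
def weyl (Z Y : A) (s : F) : A := (1 + s • Z) * (1 + (-s⁻¹) • Y) * (1 + s • Z)

/-- The relations satisfied by a quadratic pair with a torus. -/
structure IsTorusPair (F : Type*) [Field F] [Algebra F A] (Z Y : A) : Prop where
  zz : Z * Z = 0
  yy : Y * Y = 0
  zyz : Z * Y * Z = Z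
  yzy : Y * Z * Y = Y

variable {Z Y : A}

theorem weyl_expand (hZ : Z * Z = 0) {s : F} (hs : s ≠ 0) :
    weyl Z Y s = 1 - (Z * Y + Y * Z) + (2 * s) • Z - s⁻¹ • Y - s • (Z * Y * Z) := by
  simp only [weyl, mul_add, add_mul, smul_mul_assoc, mul_smul_comm, smul_add, smul_smul, one_mul, mul_one,
    hZ, smul_zero]
  rw [show s * -s⁻¹ = (-1 : F) by rw [mul_neg, mul_inv_cancel₀ hs],
    show -s⁻¹ * s = (-1 : F) by rw [neg_mul, inv_mul_cancel₀ hs]]
  simp only [neg_smul, one_smul, mul_neg, two_mul, add_smul, add_zero, mul_one]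
  abel

theorem isTorusPair_of_relations (hZ : Z * Z = 0) (hY : Y * Y = 0)
    (hbraid : Z + Y = Z * Y * Z + Y * Z * Y) (hν : (2 : F) ^ 2 ≠ 1) (h2 : (2 : F) ≠ 0) {W' : A}
    (hW : W' * weyl Z Y (1 : F) = 1) (hW2 : IsUnit (weyl Z Y (2 : F)))
    (hconj : weyl Z Y (2 : F) * W' * Z = ((2 : F) ^ 2) • (Z * (weyl Z Y (2 : F) * W'))) :
    IsTorusPair F Z Y := by
  have hzz : ∀ a : A, Z * (Z * a) = 0 := fun a => by rw [← mul_assoc, hZ, zero_mul]
  have hyy : ∀ a : A, Y * (Y * a) = 0 := fun a => by rw [← mul_assoc, hY, zero_mul]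
  set C := Z * Y + Y * Z with hC
  have hCZ : Commute C Z := by
    show C * Z = Z * C
    simp only [hC, add_mul, mul_add, mul_assoc, hZ, hzz, mul_zero, add_zero, zero_add]
  have hCY : Commute C Y := by
    show C * Y = Y * C
    simp only [hC, add_mul, mul_add, mul_assoc, hY, hyy, mul_zero, add_zero, zero_add]
  have hCzyz : C * Z = Z * Y * Z := by
    simp only [hC, add_mul, mul_assoc, hZ, mul_zero, add_zero]
  have hCyzy : C * Y = Y * Z * Y := by
    simp only [hC, add_mul, mul_assoc, hY, mul_zero, zero_add]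
  have hsum : C * (Z + Y) = Z + Y := by rw [mul_add, hCzyz, hCyzy, ← hbraid]
  have hidem : C * C = C := by
    have h1 := congrArg (· * Z) hsum
    have h2' := congrArg (Z * ·) hsum
    simp only [mul_assoc, add_mul, mul_add, hZ, zero_add, mul_zero, add_zero] at h1 h2'
    rw [← mul_assoc Z C Y, ← hCZ.eq, mul_assoc, ← mul_assoc Z C Z, ← hCZ.eq, mul_assoc, hZ,
      mul_zero, zero_add] at h2'
    calc C * C = C * (Z * Y) + C * (Y * Z) := by rw [← mul_add]
      _ = C := by rw [h1, h2', hC]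
  set e := 1 - C with he
  have heC : e * C = 0 := by rw [he, sub_mul, one_mul, hidem, sub_self]
  have heY : e * Y = -(e * Z) := by
    rw [eq_neg_iff_add_eq_zero, ← mul_add, add_comm Y Z, he, sub_mul, one_mul, hsum, sub_self]
  have heZ : Commute e Z := (Commute.one_left Z).sub_left hCZ
  have heY' : Commute e Y := (Commute.one_left Y).sub_left hCY
  have hew : ∀ s : F, Commute e (weyl Z Y s) := fun s => by
    have a1 : Commute e (1 + s • Z) := (Commute.one_right e).add_right (heZ.smul_right s)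
    have a2 : Commute e (1 + (-s⁻¹) • Y) :=
      (Commute.one_right e).add_right (heY'.smul_right _)
    exact (a1.mul_right a2).mul_right a1
  have hee : e * e = e := by
    conv_lhs => rw [he, mul_sub, mul_one, ← he, heC, sub_zero]
  -- on the image of `e` the Weyl elements commute with `Z`
  have hcom : ∀ s : F, s ≠ 0 → Commute (e * Z) (weyl Z Y s) := by
    intro s hs
    have h1 : e * weyl Z Y s = e + (2 * s + s⁻¹) • (e * Z) := by
      rw [weyl_expand hZ hs, ← hC, ← hCzyz]
      simp only [mul_add, mul_sub, mul_one, mul_smul_comm, heC, heY, ← mul_assoc, zero_mul,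
        smul_zero, sub_zero, smul_neg, sub_neg_eq_add, add_smul]
      abel
    have hez : e * Z * (e * Z) = 0 := by
      rw [mul_assoc, ← mul_assoc Z e Z, ← heZ.eq, mul_assoc e Z Z, hZ, mul_zero, mul_zero]
    show e * Z * weyl Z Y s = weyl Z Y s * (e * Z)
    calc e * Z * weyl Z Y s = e * Z * (e * weyl Z Y s) := by
          rw [← mul_assoc (e * Z) e, mul_assoc e Z e, ← heZ.eq, ← mul_assoc e e Z, hee]
      _ = (e * weyl Z Y s) * (e * Z) := by
          rw [h1, mul_add, add_mul, mul_smul_comm, smul_mul_assoc, hez, smul_zero, add_zero,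
            add_zero, mul_assoc e Z e, ← heZ.eq]
      _ = weyl Z Y s * (e * Z) := by
          rw [(hew s).eq, mul_assoc, ← mul_assoc e e Z, hee]
  have hW1 : weyl Z Y (1 : F) * W' = 1 := by
    have h11 : weyl Z Y (1 : F) * weyl Z Y (-1 : F) = 1 := by
      have a : ∀ (B : A) (c : F), B * B = 0 → (1 + c • B) * (1 + (-c) • B) = 1 := fun B c hB => by
        simp [mul_add, add_mul, hB]
      simp only [weyl]
      rw [show (-(-1 : F)⁻¹) • Y = (-(-(1 : F)⁻¹)) • Y from by
        simp]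
      calc _ = (1 + (1 : F) • Z) * ((1 + (-(1 : F)⁻¹) • Y) *
            ((1 + (1 : F) • Z) * (1 + (-(1 : F)) • Z)) * (1 + (-(-(1 : F)⁻¹)) • Y)) *
            (1 + (-(1 : F)) • Z) := by simp only [mul_assoc]
        _ = 1 := by rw [a Z _ hZ, mul_one, a Y _ hY, mul_one, a Z _ hZ]
    rw [left_inv_eq_right_inv hW h11]
    exact h11
  have hWc : Commute (e * Z) W' := by
    show e * Z * W' = W' * (e * Z)
    calc e * Z * W' = W' * weyl Z Y (1 : F) * (e * Z) * W' := by rw [hW, one_mul]
      _ = W' * ((e * Z) * weyl Z Y (1 : F)) * W' := by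
          rw [(hcom 1 one_ne_zero).eq]; simp only [mul_assoc]
      _ = W' * (e * Z) := by simp only [mul_assoc, hW1, mul_one]
  have heW' : Commute e W' := by
    show e * W' = W' * e
    calc e * W' = W' * weyl Z Y (1 : F) * e * W' := by rw [hW, one_mul]
      _ = W' * (e * weyl Z Y (1 : F)) * W' := by rw [(hew 1).eq]; simp only [mul_assoc]
      _ = W' * e := by simp only [mul_assoc, hW1, mul_one]
  set h := weyl Z Y (2 : F) * W' with hh
  have hc' : Commute (e * Z) h := (hcom 2 h2).mul_right hWc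
  have hmul := congrArg (e * ·) hconj
  simp only [mul_smul_comm] at hmul
  rw [show e * (h * Z) = e * Z * h from by
    rw [hc'.eq, ← mul_assoc, ((hew 2).mul_right heW' : Commute e h).eq, mul_assoc]] at hmul
  rw [← mul_assoc e Z h] at hmul
  have hzero : e * Z = 0 := by
    have h0 : ((2 : F) ^ 2 - 1) • (e * Z * h) = 0 := by
      rw [sub_smul, one_smul, ← hmul, sub_self]
    rw [smul_eq_zero] at h0
    have hu : IsUnit h := hW2.mul ⟨⟨W', weyl Z Y (1 : F), hW, hW1⟩, rfl⟩
    exact hu.mul_left_eq_zero.1 (h0.resolve_left (sub_ne_zero.2 hν))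
  have hZC : C * Z = Z := by
    rw [he, sub_mul, one_mul, sub_eq_zero] at hzero
    exact hzero.symm
  have hYC : C * Y = Y := by
    rw [hzero, neg_zero, he, sub_mul, one_mul, sub_eq_zero] at heY
    exact heY.symm
  exact ⟨hZ, hY, by rw [← hCzyz, hZC], by rw [← hCyzy, hYC]⟩

namespace IsTorusPair

variable (h : IsTorusPair F Z Y)
include h

theorem e11 : Z * Y * (Z * Y) = Z * Y := by rw [← mul_assoc, h.zyz]

theorem e33 : Y * Z * (Y * Z) = Y * Z := by rw [← mul_assoc, h.yzy]

theorem e13 : Z * Y * (Y * Z) = 0 := by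
  rw [mul_assoc, ← mul_assoc Y Y Z, h.yy, zero_mul, mul_zero]

theorem e31 : Y * Z * (Z * Y) = 0 := by
  rw [mul_assoc, ← mul_assoc Z Z Y, h.zz, zero_mul, mul_zero]

theorem weyl_eq {s : F} (hs : s ≠ 0) :
    weyl Z Y s = (1 - (Z * Y + Y * Z)) + s • Z - s⁻¹ • Y := by
  rw [weyl_expand h.zz hs, h.zyz, two_mul, add_smul]
  abel

theorem weyl_one_mul (W' : A) (hW : W' * weyl Z Y (1 : F) = 1) :
    W' = (1 - (Z * Y + Y * Z)) - Z + Y := by
  refine left_inv_eq_right_inv hW ?_
  rw [h.weyl_eq one_ne_zero, inv_one, one_smul, one_smul]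
  have hzz : ∀ a : A, Z * (Z * a) = 0 := fun a => by rw [← mul_assoc, h.zz, zero_mul]
  have hyy : ∀ a : A, Y * (Y * a) = 0 := fun a => by rw [← mul_assoc, h.yy, zero_mul]
  have hzyz : ∀ a : A, Z * (Y * (Z * a)) = Z * a := fun a => by
    rw [← mul_assoc Y, ← mul_assoc Z, ← mul_assoc Z, h.zyz]
  have hyzy : ∀ a : A, Y * (Z * (Y * a)) = Y * a := fun a => by
    rw [← mul_assoc Z, ← mul_assoc Y, ← mul_assoc Y, h.yzy]
  have hzyz' : Z * (Y * Z) = Z := by rw [← mul_assoc, h.zyz]
  have hyzy' : Y * (Z * Y) = Y := by rw [← mul_assoc, h.yzy]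
  simp only [mul_add, add_mul, mul_sub, sub_mul, mul_one, one_mul, mul_assoc, h.zz, h.yy, hzz,
    hyy, hzyz, hyzy, hzyz', hyzy', mul_zero]
  abel

/-- The torus element acts as `2`, `1`, `2⁻¹` on the three pieces. -/
theorem torus_eq (W' : A) (hW : W' * weyl Z Y (1 : F) = 1) (h2 : (2 : F) ≠ 0) :
    weyl Z Y (2 : F) * W' =
      (2 : F) • (Z * Y) + (1 - (Z * Y + Y * Z)) + (2 : F)⁻¹ • (Y * Z) := by
  rw [h.weyl_one_mul W' hW, h.weyl_eq h2]
  have hzz : ∀ a : A, Z * (Z * a) = 0 := fun a => by rw [← mul_assoc, h.zz, zero_mul]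
  have hyy : ∀ a : A, Y * (Y * a) = 0 := fun a => by rw [← mul_assoc, h.yy, zero_mul]
  have hzyz : ∀ a : A, Z * (Y * (Z * a)) = Z * a := fun a => by
    rw [← mul_assoc Y, ← mul_assoc Z, ← mul_assoc Z, h.zyz]
  have hyzy : ∀ a : A, Y * (Z * (Y * a)) = Y * a := fun a => by
    rw [← mul_assoc Z, ← mul_assoc Y, ← mul_assoc Y, h.yzy]
  have hzyz' : Z * (Y * Z) = Z := by rw [← mul_assoc, h.zyz]
  have hyzy' : Y * (Z * Y) = Y := by rw [← mul_assoc, h.yzy]
  simp only [mul_add, add_mul, mul_sub, sub_mul, mul_one, one_mul, smul_mul_assoc, mul_smul_comm,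
    mul_assoc, h.zz, h.yy, hzz, hyy, hzyz, hyzy, hzyz', hyzy', mul_zero, smul_zero, smul_sub,
    smul_add]
  abel

end IsTorusPair

end CfsgLib.MaxClassEssential
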