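import Cfsg.Agent.MaxClassEssential.SLTwo
import Cfsg.Agent.MaxClassEssential.Torus
import Cfsg.Agent.MaxClassEssential.Embedded
import Cfsg.Agent.LocalEven50.PSL2Gen
import Cfsg.Agent.Fusion.StronglyEmbedded

/-!
# A quadratic element of a strongly embedded subgroup

If `z ∈ M` acts quadratically, `M` strongly `p`-embedded, then a conjugate of `z` and `z` generate a
group with a homomorphism onto `SL(2, K)` with central kernel of order prime to `p`; this yields an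
element `u ∉ M` and a torus element acting as `2, 1, 2⁻¹` on the pieces of `(z, u)`.
-/

set_option autoImplicit false
set_option linter.style.haveILetI false
set_option maxHeartbeats 1000000

namespace CfsgLib.MaxClassEssential

open scoped MatrixGroups

section Matrices

variable {K : Type*} [Field K]

/-- `[[1, r], [0, 1]]`. -/
abbrev up (r : K) : SL(2, K) := LocalEven50.upperHom K (Multiplicative.ofAdd r)

/-- `[[1, 0], [r, 1]]`. -/
abbrev lo (r : K) : SL(2, K) := LocalEven50.lowerHom K (Multiplicative.ofAdd r)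

theorem up_pow (r : K) (n : ℕ) : up r ^ n = up (n * r) := by
  rw [up, ← map_pow, ← ofAdd_nsmul, nsmul_eq_mul]

theorem lo_pow (r : K) (n : ℕ) : lo r ^ n = lo (n * r) := by
  rw [lo, ← map_pow, ← ofAdd_nsmul, nsmul_eq_mul]

theorem up_inv (r : K) : (up r)⁻¹ = up (-r) := by rw [up, ← map_inv, ← ofAdd_neg]

theorem lo_inv (r : K) : (lo r)⁻¹ = lo (-r) := by rw [lo, ← map_inv, ← ofAdd_neg]

theorem up_add (r s : K) : up (r + s) = up r * up s := by rw [up, ofAdd_add, map_mul]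

theorem up_coe (r : K) : ((up r : SL(2, K)) : Matrix (Fin 2) (Fin 2) K) = !![1, r; 0, 1] := rfl

theorem lo_coe (r : K) : ((lo r : SL(2, K)) : Matrix (Fin 2) (Fin 2) K) = !![1, 0; r, 1] := rfl

theorem pow_char_up {p : ℕ} [CharP K p] (r : K) : up r ^ p = 1 := by
  rw [up_pow, CharP.cast_eq_zero, zero_mul]
  exact map_one _

theorem pow_char_lo {p : ℕ} [CharP K p] (r : K) : lo r ^ p = 1 := by
  rw [lo_pow, CharP.cast_eq_zero, zero_mul]
  exact map_one _

theorem weyl_up {t : K} (ht : t ≠ 0) (r : K) :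
    up t * lo (-t⁻¹) * up t * up r * (up t * lo (-t⁻¹) * up t)⁻¹ = lo (-(r / (t * t))) := by
  rw [mul_inv_eq_iff_eq_mul]
  refine Matrix.SpecialLinearGroup.ext _ _ fun i j => ?_
  simp only [Matrix.SpecialLinearGroup.coe_mul, up_coe, lo_coe]
  fin_cases i <;> fin_cases j <;>
    simp [Matrix.mul_apply, Fin.sum_univ_two] <;> field_simp <;> first | ring1 | simp

/-- The element `[[2, 0], [0, 2⁻¹]]` as a product of two Weyl elements. -/
theorem torus_up {t : K} (ht : t ≠ 0) (h2 : (2 : K) ≠ 0) :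
    (up (2 * t) * lo (-(2 * t)⁻¹) * up (2 * t)) * (up t * lo (-t⁻¹) * up t)⁻¹ * up t *
      ((up (2 * t) * lo (-(2 * t)⁻¹) * up (2 * t)) * (up t * lo (-t⁻¹) * up t)⁻¹)⁻¹ =
      up (4 * t) := by
  have hw : ∀ {s : K}, s ≠ 0 → ((up s * lo (-s⁻¹) * up s : SL(2, K)) : Matrix (Fin 2) (Fin 2) K) =
      !![0, s; -s⁻¹, 0] := by
    intro s hs
    simp only [Matrix.SpecialLinearGroup.coe_mul, up_coe, lo_coe]
    ext i j
    fin_cases i <;> fin_cases j <;> simp [Matrix.mul_apply, Fin.sum_univ_two, hs]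
  rw [mul_inv_eq_iff_eq_mul]
  refine Matrix.SpecialLinearGroup.ext _ _ fun i j => ?_
  have h2t : 2 * t ≠ 0 := mul_ne_zero h2 ht
  simp only [Matrix.SpecialLinearGroup.coe_mul, Matrix.SpecialLinearGroup.coe_inv]
  rw [← Matrix.SpecialLinearGroup.coe_mul (up (2 * t)), ← Matrix.SpecialLinearGroup.coe_mul,
    hw h2t, ← Matrix.SpecialLinearGroup.coe_mul (up t), ← Matrix.SpecialLinearGroup.coe_mul,
    hw ht]
  simp only [up_coe, Matrix.adjugate_fin_two]
  fin_cases i <;> fin_cases j <;>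
    simp [Matrix.mul_apply, Fin.sum_univ_two] <;> field_simp <;> ring

/-- Every translation is a commutator when the field has more than three elements. -/
theorem up_eq_commutator (h2 : (2 : K) ≠ 0) (h3 : (3 : K) ≠ 0) (r : K) :
    ∃ g h : SL(2, K), g * h * g⁻¹ * h⁻¹ = up r := by
  have hdet : Matrix.det !![(2 : K), 0; 0, 2⁻¹] = 1 := by simp [Matrix.det_fin_two, h2]
  set g : SL(2, K) := ⟨_, hdet⟩ with hg
  refine ⟨g, up (r / 3), ?_⟩
  rw [mul_inv_eq_iff_eq_mul, mul_inv_eq_iff_eq_mul]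
  apply Subtype.ext
  show !![(2 : K), 0; 0, 2⁻¹] * !![1, r / 3; 0, 1] =
    !![1, r; 0, 1] * !![1, r / 3; 0, 1] * !![(2 : K), 0; 0, 2⁻¹]
  ext i j
  fin_cases i <;> fin_cases j <;>
    simp [Matrix.mul_apply, Fin.sum_univ_two] <;> field_simp <;> ring

end Matrices

variable {p : ℕ} [hp : Fact p.Prime] {X : Type*} [Group X] [Finite X] {V : Type*}
  [AddCommGroup V] [Module (ZMod p) V] [Finite V] (ρ : X →* Module.End (ZMod p) V)

omit [Finite X] [Finite V] in
theorem sq_zero_conj {a : X} (ha : (ρ a - 1) * (ρ a - 1) = 0) (g : X) :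
    (ρ (g * a * g⁻¹) - 1) * (ρ (g * a * g⁻¹) - 1) = 0 := by
  have h1 : ρ (g * a * g⁻¹) - 1 = ρ g * (ρ a - 1) * ρ g⁻¹ := by
    rw [mul_sub, sub_mul, mul_one, ← map_mul, ← map_mul, ← map_mul, mul_inv_cancel, map_one]
  have h2 : ρ g⁻¹ * ρ g = 1 := by rw [← map_mul, inv_mul_cancel, map_one]
  rw [h1]
  calc ρ g * (ρ a - 1) * ρ g⁻¹ * (ρ g * (ρ a - 1) * ρ g⁻¹)
      = ρ g * (ρ a - 1) * (ρ g⁻¹ * ρ g) * (ρ a - 1) * ρ g⁻¹ := by simp only [mul_assoc]
    _ = 0 := by rw [h2, mul_one, mul_assoc (ρ g) (ρ a - 1) (ρ a - 1), ha, mul_zero, zero_mul]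

theorem cast_ne_zero_of_lt (K : Type*) [Field K] [CharP K p] {n : ℕ} (h0 : 0 < n) (h : n < p) :
    (n : K) ≠ 0 := fun e =>
  absurd (Nat.le_of_dvd h0 ((CharP.cast_eq_zero_iff K p n).1 e)) (by omega)

/-- A quadratic element centralises a normal `p'`-subgroup modulo which it spans an abelian
group. -/
theorem commute_of_normal_pPrime (hp5 : 5 ≤ p) (hinj : Function.Injective ρ) {G : Subgroup X}
    {H : Type*} [Group H] (ψ : G →* H) (hker : ¬ p ∣ Nat.card ψ.ker) (a n : G)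
    (ha : (ρ (a : X) - 1) * (ρ (a : X) - 1) = 0) (hn : ψ n = 1) : n * a = a * n := by
  set b : G := n * a * n⁻¹ with hb
  have hbsq : (ρ (b : X) - 1) * (ρ (b : X) - 1) = 0 := by
    simpa [hb] using sq_zero_conj ρ ha (n : X)
  have hψb : ψ b = ψ a := by simp [hb, hn]
  have hle : Subgroup.closure ({(a : X), (b : X)} : Set X) ≤ G := by
    rw [Subgroup.closure_le]
    rintro y (rfl | rfl)
    exacts [a.2, b.2]
  let f := ψ.comp (Subgroup.inclusion hle)
  have hcyc : ∀ y, f y ∈ Subgroup.zpowers (ψ a) := by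
    intro y
    obtain ⟨y, hy⟩ := y
    induction hy using Subgroup.closure_induction with
    | mem y hy =>
      rcases hy with rfl | rfl
      · exact Subgroup.mem_zpowers (ψ a)
      · show ψ b ∈ _
        rw [hψb]
        exact Subgroup.mem_zpowers _
    | one => exact f.map_one ▸ one_mem _
    | mul y z hy hz h1 h2 => exact (f.map_mul ⟨y, hy⟩ ⟨z, hz⟩) ▸ mul_mem h1 h2
    | inv y hy h1 => exact (f.map_inv ⟨y, hy⟩) ▸ inv_mem h1
  by_cases hC : IsNilpotent ((ρ (a : X) - 1) * (ρ (b : X) - 1) +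
      (ρ (b : X) - 1) * (ρ (a : X) - 1))
  · have hk : n * a * n⁻¹ * a⁻¹ ∈ ψ.ker := by simp [hn]
    obtain ⟨e, he⟩ := pair_isPGroup ρ hinj ha hbsq hC ⟨(b : X) * (a : X)⁻¹, mul_mem
      (Subgroup.subset_closure (Or.inr rfl)) (inv_mem (Subgroup.subset_closure (Or.inl rfl)))⟩
    have he' : (b * a⁻¹) ^ p ^ e = 1 := Subtype.ext (by simpa using congrArg Subtype.val he)
    have h1 : (⟨b * a⁻¹, hk⟩ : ψ.ker) = 1 := by
      refine orderOf_eq_one_iff.1 ((Nat.coprime_of_dvd' fun q hq h1 h2 => ?_ :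
        (orderOf (⟨b * a⁻¹, hk⟩ : ψ.ker)).Coprime (orderOf (⟨b * a⁻¹, hk⟩ : ψ.ker))).eq_one_of_dvd
        dvd_rfl)
      have h3 : orderOf (⟨b * a⁻¹, hk⟩ : ψ.ker) ∣ p ^ e :=
        orderOf_dvd_of_pow_eq_one (Subtype.ext (by simpa using he'))
      have hqp : q = p := (Nat.prime_dvd_prime_iff_eq hq hp.out).1
        (hq.dvd_of_dvd_pow (h1.trans h3))
      exact absurd (hqp ▸ h1.trans (orderOf_dvd_natCard _)) hker
    have h2 : b * a⁻¹ = 1 := congrArg Subtype.val h1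
    rwa [mul_inv_eq_one, hb, mul_inv_eq_iff_eq_mul] at h2
  · exfalso
    obtain ⟨K, iF, iFin, iC, t, χ, hsurj, -, -, -⟩ := exists_hom_SL2 ρ hp5 ha hbsq hC
    obtain ⟨g, h, hgh⟩ := up_eq_commutator (K := K)
      (by exact_mod_cast cast_ne_zero_of_lt (p := p) K two_pos (by omega))
      (by exact_mod_cast cast_ne_zero_of_lt (p := p) K three_pos (by omega)) 1
    obtain ⟨g', rfl⟩ := hsurj g
    obtain ⟨h', rfl⟩ := hsurj h
    set c := g' * h' * g'⁻¹ * h'⁻¹ with hc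
    have hcker : Subgroup.inclusion hle c ∈ ψ.ker := by
      show f c = 1
      obtain ⟨i, hi⟩ := hcyc g'
      obtain ⟨j, hj⟩ := hcyc h'
      simp only [hc, map_mul, map_inv, ← hi, ← hj]
      group
    have hpow : c ^ Nat.card ψ.ker = 1 := Subgroup.inclusion_injective hle (by
      simpa using congrArg Subtype.val (pow_card_eq_one' (x := (⟨_, hcker⟩ : ψ.ker))))
    have hχ : χ c = up (1 : K) := by simpa [hc] using hgh
    have h1 := congrArg χ hpow
    rw [map_pow, hχ, map_one, up_pow, mul_one] at h1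
    have h2 := congrArg (fun A : SL(2, K) => (A : Matrix (Fin 2) (Fin 2) K) 0 1) h1
    simp [up_coe] at h2
    exact hker ((CharP.cast_eq_zero_iff K p _).1 h2)

/-- The data produced by a quadratic element of a strongly embedded subgroup. -/
structure QuadData (M : Subgroup X) (z u w h : X) : Prop where
  u_not_mem : u ∉ M
  w_not_mem : w ∉ M
  pair : IsTorusPair (ZMod p) (ρ z - 1) (ρ u - 1)
  map_w : ρ w = 1 - ((ρ z - 1) * (ρ u - 1) + (ρ u - 1) * (ρ z - 1)) + (ρ z - 1) - (ρ u - 1)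
  map_h : ρ h = (2 : ZMod p) • ((ρ z - 1) * (ρ u - 1)) +
    (1 - ((ρ z - 1) * (ρ u - 1) + (ρ u - 1) * (ρ z - 1))) +
    (2 : ZMod p)⁻¹ • ((ρ u - 1) * (ρ z - 1))
  conj_h : h * z * h⁻¹ = z ^ 4

theorem map_weyl {z u : X} (hz : (ρ z - 1) * (ρ z - 1) = 0) (hu : (ρ u - 1) * (ρ u - 1) = 0)
    (s : ZMod p) :
    ρ (z ^ s.val * u ^ (-s⁻¹).val * z ^ s.val) = weyl (ρ z - 1) (ρ u - 1) s := by
  rw [map_mul, map_mul, map_pow_of_sq_eq_zero ρ hz, map_pow_of_sq_eq_zero ρ hu, weyl,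
    ← Nat.cast_smul_eq_nsmul (ZMod p) s.val, ← Nat.cast_smul_eq_nsmul (ZMod p) (-s⁻¹).val,
    ZMod.natCast_zmod_val, ZMod.natCast_zmod_val]

variable {M : Subgroup X} {T : Sylow p X}

theorem exists_quadData (hp5 : 5 ≤ p) (hinj : Function.Injective ρ) (hM : IsEmb p M T) {z : X}
    (hzM : z ∈ M) (hz1 : z ≠ 1) (hz : (ρ z - 1) * (ρ z - 1) = 0) :
    ∃ u w h : X, QuadData ρ M z u w h := by
  classical
  have hzo := orderOf_of_sq_eq_zero ρ hinj hz hz1
  have hzp : z ^ p ^ 1 = 1 := by rw [pow_one, ← hzo, pow_orderOf_eq_one]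
  have hdvd : p ∣ Nat.card X := hzo ▸ orderOf_dvd_natCard z
  -- a conjugate outside `M`, with minimal generated group
  have hne : ({z' : X | (∃ g, g * z * g⁻¹ = z') ∧ z' ∉ M}).Nonempty := by
    by_contra h
    refine hM.ne_top (eq_top_iff.2 fun g _ => hM.mem_of_conj hzM hzp hz1 ?_)
    by_contra hg
    exact h ⟨_, ⟨g, rfl⟩, hg⟩
  obtain ⟨z', ⟨⟨g₀, hg₀⟩, hz'M⟩, hmin⟩ := Set.exists_min_image _
    (fun z' : X => Nat.card (Subgroup.closure ({z, z'} : Set X))) (Set.toFinite _) hne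
  have hz' : (ρ z' - 1) * (ρ z' - 1) = 0 := hg₀ ▸ sq_zero_conj ρ hz g₀
  have hC : ¬ IsNilpotent ((ρ z - 1) * (ρ z' - 1) + (ρ z' - 1) * (ρ z - 1)) := fun hC =>
    hz'M (Fusion.le_of_isStronglyPEmbedded (hM.isStronglyPEmbedded hdvd)
      (X := Subgroup.zpowers z)
      (Subgroup.zpowers_le.2 (Subgroup.subset_closure (Or.inl rfl)))
      (pair_isPGroup ρ hinj hz hz' hC) (Subgroup.zpowers_le.2 hzM)
      (by rwa [ne_eq, Subgroup.zpowers_eq_bot]) (Subgroup.subset_closure (Or.inr rfl)))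
  set G := Subgroup.closure ({z, z'} : Set X) with hG
  obtain ⟨K, iF, iFin, iC, t, ψ, hsurj, ht, hψz, hψz'⟩ := exists_hom_SL2 ρ hp5 hz hz' hC
  replace hψz : ψ ⟨z, Subgroup.subset_closure (Or.inl rfl)⟩ = up t := hψz
  replace hψz' : ψ ⟨z', Subgroup.subset_closure (Or.inr rfl)⟩ = lo 1 := hψz'
  set Zg : G := ⟨z, Subgroup.subset_closure (Or.inl rfl)⟩ with hZg
  have hgen : ∀ H : Subgroup X, z ∈ H → z' ∈ H → ∀ g : G, (g : X) ∈ H := fun H h1 h2 g =>
    (Subgroup.closure_le H).2 (by rintro y (rfl | rfl); exacts [h1, h2]) g.2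
  have hkerM : ∀ n : G, ψ n = 1 → (n : X) ∈ M := by
    intro n hn
    by_contra hnM
    have hzn : (n : X) * z * (n : X)⁻¹ ∉ M := fun hc => hnM (hM.mem_of_conj hzM hzp hz1 hc)
    have hle : Subgroup.closure ({z, (n : X) * z * (n : X)⁻¹} : Set X) ≤ G := by
      rw [Subgroup.closure_le]
      rintro y (rfl | rfl)
      exacts [Zg.2, mul_mem (mul_mem n.2 Zg.2) (inv_mem n.2)]
    have hlt : Subgroup.closure ({z, (n : X) * z * (n : X)⁻¹} : Set X) < G := by
      refine hle.lt_of_ne fun heq => ?_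
      let H : Subgroup G := ((LocalEven50.upperHom K).range).comap ψ
      have hzH : Zg ∈ H := ⟨_, hψz.symm⟩
      have hnH : n * Zg * n⁻¹ ∈ H := ⟨_, (by simp [hn, hψz] : ψ (n * Zg * n⁻¹) = up t).symm⟩
      have h2 : z' ∈ H.map G.subtype := by
        refine (Subgroup.closure_le _).2 ?_ (heq.symm ▸ Subgroup.subset_closure (Or.inr rfl) :
          z' ∈ Subgroup.closure ({z, (n : X) * z * (n : X)⁻¹} : Set X))
        rintro y (rfl | rfl)
        exacts [⟨Zg, hzH, rfl⟩, ⟨_, hnH, rfl⟩]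
      obtain ⟨y, ⟨r, hr⟩, hy⟩ := h2
      have hyz : y = ⟨z', Subgroup.subset_closure (Or.inr rfl)⟩ := Subtype.ext hy
      rw [hyz, hψz'] at hr
      have h3 := congrArg (fun A : SL(2, K) => (A : Matrix (Fin 2) (Fin 2) K) 1 0) hr
      have h4 : (!![1, Multiplicative.toAdd r; 0, 1] : Matrix (Fin 2) (Fin 2) K) 1 0 = (1 : K) := h3
      simp at h4
    have h1 := hmin ((n : X) * z * (n : X)⁻¹) ⟨⟨n, rfl⟩, hzn⟩
    have h2 : Nat.card (Subgroup.closure ({z, (n : X) * z * (n : X)⁻¹} : Set X)) < Nat.card G :=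
      lt_of_le_of_ne (Subgroup.card_le_of_le hle) fun h => hlt.ne
        (Subgroup.eq_of_le_of_card_ge hle h.ge)
    exact absurd h1 (not_le.2 h2)
  have hnotle : ¬ ∀ g : G, (g : X) ∈ M := fun h =>
    hz'M (h ⟨z', Subgroup.subset_closure (Or.inr rfl)⟩)
  have hp' : ¬ p ∣ Nat.card ψ.ker := by
    intro hd
    obtain ⟨P⟩ : Nonempty (Sylow p ψ.ker) := inferInstance
    have hPne : (P : Subgroup ψ.ker) ≠ ⊥ := P.ne_bot_of_dvd_card hd
    set Q := ((P : Subgroup ψ.ker).map ψ.ker.subtype).map G.subtype with hQ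
    have hQM : Q ≤ M := by
      rintro _ ⟨q, ⟨q', -, rfl⟩, rfl⟩
      exact hkerM _ q'.2
    have hQne : Q ≠ ⊥ := by
      rw [hQ, ne_eq, Subgroup.map_eq_bot_iff_of_injective _ G.subtype_injective,
        Subgroup.map_eq_bot_iff_of_injective _ ψ.ker.subtype_injective]
      exact hPne
    have hN := hM.norm_le Q hQM ((P.isPGroup'.map _).map _) hQne
    refine hnotle fun g => ?_
    have hg : g ∈ Subgroup.normalizer (((P : Subgroup ψ.ker).map ψ.ker.subtype : Subgroup G) :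
        Set G) ⊔ ψ.ker := by
      rw [Sylow.normalizer_sup_eq_top P]; trivial
    rw [← SetLike.mem_coe, Subgroup.mul_normal] at hg
    obtain ⟨a, ha, b, hb, rfl⟩ := hg
    refine M.mul_mem (hN ?_) (hkerM b hb)
    exact Subgroup.le_normalizer_map G.subtype ⟨a, ha, rfl⟩
  -- uniqueness of `p`-elements over their images
  have hcent : ∀ n : G, ψ n = 1 → ∀ g : G, n * g = g * n := by
    intro n hn g
    have h1 := commute_of_normal_pPrime ρ hp5 hinj ψ hp' Zg n hz hn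
    have h2 := commute_of_normal_pPrime ρ hp5 hinj ψ hp'
      ⟨z', Subgroup.subset_closure (Or.inr rfl)⟩ n hz' hn
    have := hgen (Subgroup.centralizer {(n : X)})
      (Subgroup.mem_centralizer_singleton_iff.2 (congrArg Subtype.val h1).symm)
      (Subgroup.mem_centralizer_singleton_iff.2 (congrArg Subtype.val h2).symm) g
    exact Subtype.ext (Subgroup.mem_centralizer_singleton_iff.1 this).symm
  have huniq : ∀ g g' : G, (∃ e, g ^ p ^ e = 1) → (∃ e, g' ^ p ^ e = 1) → ψ g = ψ g' → g = g' := by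
    intro g g' ⟨e, he⟩ ⟨e', he'⟩ heq
    set k := g⁻¹ * g' with hk
    have hkk : ψ k = 1 := by simp [hk, heq]
    have hgk : Commute g k := (hcent k hkk g).symm
    have h1 : k ^ p ^ (e + e') = 1 := by
      have h2 : g' ^ p ^ (e + e') = 1 := by rw [add_comm, pow_add, pow_mul, he', one_pow]
      have h3 : g ^ p ^ (e + e') = 1 := by rw [pow_add, pow_mul, he, one_pow]
      rw [show g' = g * k by simp [hk], hgk.mul_pow, h3, one_mul] at h2
      exact h2
    have h4 : k ^ Nat.card ψ.ker = 1 := by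
      simpa using congrArg Subtype.val (pow_card_eq_one' (x := (⟨k, hkk⟩ : ψ.ker)))
    have hco : (p ^ (e + e')).Coprime (Nat.card ψ.ker) :=
      ((hp.out.coprime_iff_not_dvd).2 hp').pow_left _
    have h5 : k = 1 := by
      have h6 := (pow_gcd_eq_one (a := k)).2 ⟨h1, h4⟩
      rwa [hco.gcd_eq_one, pow_one] at h6
    exact inv_mul_eq_one.1 h5
  have hlift : ∀ r : K, (∃ g : G, (∃ e, g ^ p ^ e = 1) ∧ ψ g = up r) ∧
      ∃ g : G, (∃ e, g ^ p ^ e = 1) ∧ ψ g = lo r := by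
    intro r
    obtain ⟨a, ha⟩ := hsurj (up r)
    obtain ⟨b, hb⟩ := hsurj (lo r)
    obtain ⟨a', -, ha1, ha2⟩ := exists_pElement_lift (p := p) ψ a (e := 1)
      (by rw [pow_one, ha, pow_char_up])
    obtain ⟨b', -, hb1, hb2⟩ := exists_pElement_lift (p := p) ψ b (e := 1)
      (by rw [pow_one, hb, pow_char_lo])
    exact ⟨⟨a', ha1, ha2.trans ha⟩, b', hb1, hb2.trans hb⟩
  obtain ⟨-, U, hUp, hψU⟩ := hlift t⁻¹
  have hUpow : U ^ p = 1 := by
    refine huniq _ 1 ?_ ⟨0, by simp⟩ (by rw [map_pow, hψU, pow_char_lo, map_one])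
    obtain ⟨e, he⟩ := hUp
    exact ⟨e, by rw [← pow_mul, mul_comm, pow_mul, he, one_pow]⟩
  have hZpow : Zg ^ p = 1 := Subtype.ext (by simpa using hzp)
  let W : ZMod p → G := fun s => Zg ^ s.val * U ^ (-s⁻¹).val * Zg ^ s.val
  have hψW : ∀ s : ZMod p, s ≠ 0 → ψ (W s) =
      up ((s.val : K) * t) * lo (-((s.val : K) * t)⁻¹) * up ((s.val : K) * t) := by
    intro s hs
    have hcast : ((-s⁻¹).val : K) = -((s.val : K))⁻¹ := by
      have hmul : ((-s⁻¹).val : ZMod p) * (s.val : ZMod p) = -1 := by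
        rw [ZMod.natCast_zmod_val, ZMod.natCast_zmod_val, neg_mul, inv_mul_cancel₀ hs]
      have h2 := congrArg (ZMod.castHom (dvd_refl p) K) hmul
      rw [map_mul, map_natCast, map_natCast, map_neg, map_one] at h2
      have hs0 : (s.val : K) ≠ 0 := fun h0 => by rw [h0, mul_zero] at h2; simp at h2
      rw [eq_neg_iff_add_eq_zero, ← mul_left_inj' hs0, add_mul, inv_mul_cancel₀ hs0, h2]
      ring
    simp only [W, map_mul, map_pow, hψz, hψU, up_pow, lo_pow, hcast]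
    rw [show -(s.val : K)⁻¹ * t⁻¹ = -((s.val : K) * t)⁻¹ by rw [mul_inv, neg_mul]]
  have hval1 : ((1 : ZMod p).val : K) = 1 := by
    rw [ZMod.val_one_eq_one_mod, Nat.one_mod_eq_one.2 hp.out.ne_one, Nat.cast_one]
  have hval2 : ((2 : ZMod p).val : K) = 2 := by
    have : ((2 : ℕ) : ZMod p).val = 2 := by rw [ZMod.val_natCast, Nat.mod_eq_of_lt (by omega)]
    rw [show (2 : ZMod p) = ((2 : ℕ) : ZMod p) by norm_num, this]; norm_num
  have h2K : (2 : K) ≠ 0 := by exact_mod_cast cast_ne_zero_of_lt (p := p) K two_pos (by omega)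
  have h2F : (2 : ZMod p) ≠ 0 := by
    exact_mod_cast cast_ne_zero_of_lt (p := p) (ZMod p) two_pos (by omega)
  have hψw : ψ (W 1) = up t * lo (-t⁻¹) * up t := by rw [hψW 1 one_ne_zero, hval1, one_mul]
  have hconjW : W 1 * Zg * (W 1)⁻¹ = U⁻¹ := by
    refine huniq _ _ ⟨1, by rw [pow_one, conj_pow, hZpow, mul_one, mul_inv_cancel]⟩
      ⟨1, by rw [pow_one, inv_pow, hUpow, inv_one]⟩ ?_
    rw [map_mul, map_mul, map_inv, map_inv, hψw, hψz, hψU, weyl_up ht, lo_inv]
    congr 2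
    field_simp
  set Hg : G := W 2 * (W 1)⁻¹ with hHg
  have hconjH : Hg * Zg * Hg⁻¹ = Zg ^ 4 := by
    refine huniq _ _ ⟨1, by rw [pow_one, conj_pow, hZpow, mul_one, mul_inv_cancel]⟩
      ⟨1, by rw [pow_one, ← pow_mul, mul_comm, pow_mul, hZpow, one_pow]⟩ ?_
    simp only [hHg, map_mul, map_inv, map_pow, hψw, hψW 2 h2F, hval2, hψz]
    rw [torus_up ht h2K, up_pow]
    norm_num
  have hUsq : (ρ (U : X) - 1) * (ρ (U : X) - 1) = 0 := by
    have h1 : (U : X) = ((W 1 : X)) * z⁻¹ * ((W 1 : X))⁻¹ := by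
      have := congrArg (fun g : G => ((g : X))⁻¹) hconjW
      simp only [Subgroup.coe_mul, Subgroup.coe_inv, inv_inv] at this
      rw [← this]; group; rfl
    have h2 : (ρ z⁻¹ - 1) * (ρ z⁻¹ - 1) = 0 := by
      rw [inv_eq_of_mul_eq_one_left (a := z ^ (p - 1)) (b := z) (by
        rw [← pow_succ, Nat.sub_add_cancel hp.out.one_le]; simpa using hzp),
        map_pow_of_sq_eq_zero ρ hz, add_sub_cancel_left, smul_mul_smul_comm, hz, smul_zero]
    exact h1 ▸ sq_zero_conj ρ h2 _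
  have hρW : ∀ s : ZMod p, ρ (W s : X) = weyl (ρ z - 1) (ρ (U : X) - 1) s := fun s => by
    rw [← map_weyl ρ hz hUsq s]; rfl
  have hW' : ρ ((W 1)⁻¹ : G) * weyl (ρ z - 1) (ρ (U : X) - 1) (1 : ZMod p) = 1 := by
    rw [← hρW, ← map_mul, Subgroup.coe_inv, inv_mul_cancel, map_one]
  have hρh : ρ (Hg : X) = weyl (ρ z - 1) (ρ (U : X) - 1) (2 : ZMod p) * ρ ((W 1)⁻¹ : G) := by
    rw [← hρW, ← map_mul]; rfl
  have hbraid : (ρ z - 1) + (ρ (U : X) - 1) = (ρ z - 1) * (ρ (U : X) - 1) * (ρ z - 1) +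
      (ρ (U : X) - 1) * (ρ z - 1) * (ρ (U : X) - 1) := by
    have hU' : ρ (((U : X))⁻¹) = 1 - (ρ (U : X) - 1) := by
      refine left_inv_eq_right_inv (by rw [← map_mul, inv_mul_cancel, map_one]) ?_
      rw [mul_sub, mul_one, mul_sub, mul_one]
      calc ρ (U : X) - (ρ (U : X) * ρ (U : X) - ρ (U : X))
          = 1 - (ρ (U : X) - 1) * (ρ (U : X) - 1) := by noncomm_ring
        _ = 1 := by rw [hUsq, sub_zero]
    have hv1 : (1 : ZMod p).val = 1 := by
      rw [ZMod.val_one_eq_one_mod, Nat.one_mod_eq_one.2 hp.out.ne_one]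
    have hW1 : W 1 = Zg * U⁻¹ * Zg := by
      have : U ^ (-(1 : ZMod p)⁻¹).val = U⁻¹ := by
        refine (inv_eq_of_mul_eq_one_left ?_).symm
        rw [← pow_succ]
        refine orderOf_dvd_iff_pow_eq_one.1 ((orderOf_dvd_of_pow_eq_one hUpow).trans ?_)
        rw [← CharP.cast_eq_zero_iff (ZMod p) p, Nat.cast_add, ZMod.natCast_zmod_val]
        simp
      simp only [W, hv1, pow_one, this]
    have h1 : Zg * U⁻¹ * Zg = U⁻¹ * Zg * U⁻¹ := by
      have := mul_inv_eq_iff_eq_mul.1 hconjW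
      rw [hW1] at this
      exact mul_right_cancel (b := Zg) (by rw [this]; group)
    have h2 := congrArg (fun g : G => ρ (g : X)) h1
    simp only [Subgroup.coe_mul, Subgroup.coe_inv, map_mul, hU', hZg] at h2
    set Z := ρ z - 1
    set Y := ρ (U : X) - 1
    rw [show ρ z = 1 + Z from (add_sub_cancel _ _).symm] at h2
    simp only [mul_add, add_mul, mul_sub, sub_mul, mul_one, one_mul, hz, hUsq, add_zero,
      sub_zero, zero_mul] at h2
    rw [← sub_eq_zero] at h2 ⊢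
    rw [← h2]
    abel
  have hν : (2 : ZMod p) ^ 2 ≠ 1 := fun e => by
    have := cast_ne_zero_of_lt (p := p) (ZMod p) three_pos (by omega)
    exact this (by linear_combination e)
  have hWunit : IsUnit (weyl (ρ z - 1) (ρ (U : X) - 1) (2 : ZMod p)) := by
    rw [← hρW]
    exact (Group.isUnit _).map ρ
  have hconjρ : weyl (ρ z - 1) (ρ (U : X) - 1) (2 : ZMod p) * ρ ((W 1)⁻¹ : G) * (ρ z - 1) =
      ((2 : ZMod p) ^ 2) • ((ρ z - 1) * (weyl (ρ z - 1) (ρ (U : X) - 1) (2 : ZMod p) *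
        ρ ((W 1)⁻¹ : G))) := by
    rw [← hρh]
    have h1 : (Hg : X) * z = z ^ 4 * Hg :=
      mul_inv_eq_iff_eq_mul.1 (by simpa using congrArg Subtype.val hconjH)
    have h2 := congrArg ρ h1
    rw [map_mul, map_mul, map_pow_of_sq_eq_zero ρ hz, add_mul, one_mul, smul_mul_assoc,
      ← Nat.cast_smul_eq_nsmul (ZMod p)] at h2
    rw [mul_sub, mul_one, h2, add_sub_cancel_left]
    norm_num
  have hpair := isTorusPair_of_relations hz hUsq hbraid hν h2F hW' hWunit hconjρ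
  have hUM : (U : X) ∉ M := by
    intro hUM
    have hWM : (W 1 : X) ∈ M :=
      mul_mem (mul_mem (pow_mem hzM _) (pow_mem hUM _)) (pow_mem hzM _)
    refine hnotle fun g => ?_
    let L : Subgroup SL(2, K) := (M.comap G.subtype).map ψ
    have hupL : ∀ r : K, up r ∈ L := by
      intro r
      obtain ⟨⟨a, ⟨e, hea⟩, hψa⟩, -⟩ := hlift r
      refine ⟨a, ?_, hψa⟩
      have hc : a * Zg * a⁻¹ = Zg := by
        refine huniq _ _ ⟨1, by rw [pow_one, conj_pow, hZpow, mul_one, mul_inv_cancel]⟩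
          ⟨1, by rw [pow_one, hZpow]⟩ ?_
        rw [map_mul, map_mul, map_inv, hψa, hψz, mul_inv_eq_iff_eq_mul, ← up_add, ← up_add, add_comm]
      exact hM.mem_of_commute hzM hzp hz1
        (congrArg Subtype.val (mul_inv_eq_iff_eq_mul.1 hc))
    have hloL : ∀ r : K, lo r ∈ L := by
      intro r
      have h1 : lo r = ψ (W 1) * up (-r * (t * t)) * (ψ (W 1))⁻¹ := by
        rw [hψw, weyl_up ht]
        congr 2
        field_simp
      rw [h1]
      exact mul_mem (mul_mem ⟨_, hWM, rfl⟩ (hupL _)) (inv_mem ⟨_, hWM, rfl⟩)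
    obtain ⟨m, hm, hψm⟩ := LocalEven50.closure_upper_lower K L (fun s => hupL s.toAdd)
      (fun s => hloL s.toAdd) (ψ g)
    have h2 := hkerM (m⁻¹ * g) (by rw [map_mul, map_inv, hψm, inv_mul_cancel])
    simpa using M.mul_mem (show (m : X) ∈ M from hm) h2
  refine ⟨(U : X), (W 1 : X), (Hg : X), hUM, fun hWM => hUM ?_, hpair, ?_, ?_, ?_⟩
  · have := congrArg (fun g : G => ((g : X))⁻¹) hconjW
    simp only [Subgroup.coe_mul, Subgroup.coe_inv, inv_inv] at this
    rw [← this]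
    exact inv_mem (mul_mem (mul_mem hWM hzM) (inv_mem hWM))
  · rw [hρW, hpair.weyl_eq one_ne_zero, inv_one, one_smul, one_smul]
  · rw [hρh]
    exact hpair.torus_eq _ hW' h2F
  · simpa using congrArg Subtype.val hconjH

end CfsgLib.MaxClassEssential
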