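import Cfsg.Agent.MaxClassEssential.Layers
import Cfsg.Agent.MaxClassEssential.Flag
import Cfsg.Agent.MaxClassEssential.Embedded

/-!
# The three dimensional case of a quadratic element

If the regular unipotent element `x` is strictly upper triangular for the frame of a quadratic pair,
the space has dimension at most three and a Sylow subgroup containing `x` has order at most `p`,
unless it contradicts strong embedding.
-/

set_option autoImplicit false
set_option linter.style.haveILetI false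
set_option linter.unusedSimpArgs false
set_option maxHeartbeats 800000

namespace CfsgLib.MaxClassEssential

variable {p : ℕ} [hp : Fact p.Prime] {X : Type*} [Group X] [Finite X] {V : Type*}
  [AddCommGroup V] [Module (ZMod p) V] [Finite V] (ρ : X →* Module.End (ZMod p) V)

omit [Finite X] [Finite V] in
/-- An endomorphism killing the image of `N` is determined by the value at a generator. -/
theorem eq_smul_of_vanish {N : Module.End (ZMod p) V} {d : ℕ} (hN : IsRegNil N d) {v₀ : V}
    (hlayer : ∀ i, ∀ v ∈ LinearMap.range (N ^ i),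
      ∃ c : ZMod p, v - c • (N ^ i) v₀ ∈ LinearMap.range (N ^ (i + 1)))
    {B M : Module.End (ZMod p) V} (hB : B * N = 0) (hM : M * N = 0) {c : ZMod p}
    (h : B v₀ = c • M v₀) : B = c • M := by
  refine LinearMap.ext fun v => ?_
  obtain ⟨a, w, hw⟩ := hlayer 0 v ⟨v, by simp⟩
  rw [pow_one, pow_zero, Module.End.one_apply] at hw
  rw [show v = N w + a • v₀ by rw [hw]; abel, map_add, map_smul, map_add, map_smul,
    ← Module.End.mul_apply B N, hB, LinearMap.smul_apply c M, LinearMap.smul_apply c M,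
    ← Module.End.mul_apply M N, hM, h]
  simp only [LinearMap.zero_apply, smul_zero, zero_add, smul_comm a c]

omit [Finite X] in
theorem card_le_of_injOn {T : Subgroup X} {β : Type*} [Finite β] (f : T → β)
    (hf : Function.Injective f) : Nat.card T ≤ Nat.card β := Nat.card_le_card_of_injective f hf

variable {M : Subgroup X} {T : Sylow p X}

theorem false_of_small (hinj : Function.Injective ρ) (hM : IsEmb p M T) {x : X}
    (hx : x ∈ (T : Subgroup X)) {d : ℕ} (hreg : IsRegNil (ρ x - 1) d)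
    (hT2 : p ^ 2 ≤ Nat.card (T : Subgroup X)) {z u w : X} (huM : u ∉ M) (hwM : w ∉ M)
    (hpair : IsTorusPair (ZMod p) (ρ z - 1) (ρ u - 1))
    (hw : ρ w = 1 - ((ρ z - 1) * (ρ u - 1) + (ρ u - 1) * (ρ z - 1)) + (ρ z - 1) - (ρ u - 1))
    (hz1 : z ≠ 1)
    (hup : IsUpper ((ρ z - 1) * (ρ u - 1)) (1 - ((ρ z - 1) * (ρ u - 1) + (ρ u - 1) * (ρ z - 1)))
      ((ρ u - 1) * (ρ z - 1)) (ρ x - 1))
    (hdiag : diagPart ((ρ z - 1) * (ρ u - 1))
      (1 - ((ρ z - 1) * (ρ u - 1) + (ρ u - 1) * (ρ z - 1)))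
      ((ρ u - 1) * (ρ z - 1)) (ρ x - 1) = 0) : False := by
  classical
  set Z := ρ z - 1 with hZdef
  set Y := ρ u - 1 with hYdef
  set N := ρ x - 1 with hNdef
  set e₁ := Z * Y with he₁
  set e₂ := 1 - (Z * Y + Y * Z) with he₂
  set e₃ := Y * Z with he₃
  have hf : IsFrame e₁ e₂ e₃ := hpair.isFrame
  have o12 : ∀ a, e₁ * (e₂ * a) = 0 := fun a => by rw [← mul_assoc, hf.o12, zero_mul]
  have o21 : ∀ a, e₂ * (e₁ * a) = 0 := fun a => by rw [← mul_assoc, hf.o21, zero_mul]
  have o13 : ∀ a, e₁ * (e₃ * a) = 0 := fun a => by rw [← mul_assoc, hf.o13, zero_mul]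
  have o31 : ∀ a, e₃ * (e₁ * a) = 0 := fun a => by rw [← mul_assoc, hf.o31, zero_mul]
  have o23 : ∀ a, e₂ * (e₃ * a) = 0 := fun a => by rw [← mul_assoc, hf.o23, zero_mul]
  have o32 : ∀ a, e₃ * (e₂ * a) = 0 := fun a => by rw [← mul_assoc, hf.o32, zero_mul]
  have i11 : ∀ a, e₁ * (e₁ * a) = e₁ * a := fun a => by rw [← mul_assoc, hf.i11]
  have i22 : ∀ a, e₂ * (e₂ * a) = e₂ * a := fun a => by rw [← mul_assoc, hf.i22]
  have i33 : ∀ a, e₃ * (e₃ * a) = e₃ * a := fun a => by rw [← mul_assoc, hf.i33]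
  have hN3 : N ^ 3 = 0 := by
    rw [pow_succ, pow_two]; exact hf.cube_eq_zero hup hdiag
  have hNdec : N = e₁ * N * e₂ + e₁ * N * e₃ + e₂ * N * e₃ := by
    have := hf.decomp hup
    rwa [hdiag, zero_add] at this
  have hlow := fun t (ht : t ∈ (T : Subgroup X)) => lowers_of_isPGroup ρ T.isPGroup' hx hreg ht
  obtain ⟨v₀, hv₀, hlayer⟩ := hreg.exists_layer
  have hd3 : d ≤ 3 := hreg.pow_eq_zero_iff.1 hN3
  rcases lt_or_ge d 3 with hd | hd
  · -- `T` embeds into the field
    have hN2 : N * N = 0 := by rw [← pow_two]; exact hreg.pow_eq_zero_iff.2 (by omega)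
    have hc : ∀ t : (T : Subgroup X), ∃ c : ZMod p, ρ (t : X) - 1 = c • N := by
      intro t
      have h1 : (ρ (t : X) - 1) * N = 0 := by
        refine LinearMap.ext fun v => ?_
        have := hlow t t.2 1 (N v) ⟨v, by rw [pow_one]⟩
        rw [pow_two, hN2] at this
        simpa using this
      obtain ⟨c, s, hs⟩ := hlayer 1 _ (by
        have := hlow t t.2 0 v₀ ⟨v₀, by simp⟩
        exact this)
      refine ⟨c, eq_smul_of_vanish hreg hlayer h1 hN2 ?_⟩
      rw [pow_two, hN2, pow_one, LinearMap.zero_apply, eq_comm, sub_eq_zero] at hs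
      simpa using hs
    choose c hc using hc
    have := Nat.card_le_card_of_injective c (fun a b hab => Subtype.ext (hinj (by
      rw [← sub_left_inj (a := (1 : Module.End (ZMod p) V)), hc a, hc b, hab])))
    rw [Nat.card_zmod] at this
    exact absurd (hT2.trans this) (not_le.2 (lt_self_pow₀ hp.out.one_lt one_lt_two))
  have hd' : d = 3 := le_antisymm hd3 hd
  subst hd'
  -- the flag of `x` is the flag of the frame
  have hNe1 : N * e₁ = 0 := by
    rw [hNdec]; simp only [add_mul, mul_assoc, hf.o21, hf.o31, mul_zero, add_zero]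
  have he12N : (e₁ + e₂) * N = N := by
    conv_lhs => rw [hNdec]
    conv_rhs => rw [hNdec]
    simp only [add_mul, mul_add, mul_assoc, i11, o12, o21, i22, add_zero, zero_add]
  have hN2 : N ^ 2 = e₁ * N * e₂ * (e₂ * N * e₃) := by
    rw [pow_two]
    conv_lhs => rw [hNdec]
    simp only [add_mul, mul_add, mul_assoc, o12, o21, o13, o31, o23, o32, i22, mul_zero, add_zero,
      zero_add]
  have hNle : ∀ v, N v ∈ LinearMap.range (N ^ 1) := fun v => ⟨v, by rw [pow_one]⟩
  have hV1 : ∀ v ∈ LinearMap.range (N ^ 1), e₃ v = 0 := by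
    rintro _ ⟨w, rfl⟩
    rw [pow_one, ← he12N, ← Module.End.mul_apply, ← mul_assoc, mul_add, hf.o31, hf.o32, add_zero,
      zero_mul]
    rfl
  have hV1' : ∀ v, (e₁ + e₂) v ∈ LinearMap.range (N ^ 1) := by
    intro v
    rw [show (1 : ℕ) = 3 - 2 from rfl, ← hreg.ker_pow (by norm_num), LinearMap.mem_ker,
      ← Module.End.mul_apply, hN2, mul_assoc, mul_assoc (e₂ * N), mul_add, hf.o31, hf.o32, add_zero,
      mul_zero, mul_zero]
    rfl
  have hV2 : ∀ v ∈ LinearMap.range (N ^ 2), e₁ v = v := by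
    rintro _ ⟨w, rfl⟩
    rw [← Module.End.mul_apply, hN2]
    simp only [mul_assoc, i11]
  have hV2' : ∀ v, e₁ v ∈ LinearMap.range (N ^ 2) := by
    intro v
    rw [show (2 : ℕ) = 3 - 1 from rfl, ← hreg.ker_pow (by norm_num), LinearMap.mem_ker, pow_one,
      ← Module.End.mul_apply, hNe1]
    rfl
  have htop : ∀ {c : ZMod p} {v : V}, v - c • (N ^ 2) v₀ ∈ LinearMap.range (N ^ (2 + 1)) →
      v = c • (N ^ 2) v₀ := by
    intro c v h
    rw [hN3, LinearMap.range_zero, Submodule.mem_bot, sub_eq_zero] at h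
    exact h
  -- coordinates of a lowering endomorphism
  have coord : ∀ A : Module.End (ZMod p) V,
      (∀ i, ∀ v ∈ LinearMap.range (N ^ i), A v ∈ LinearMap.range (N ^ (i + 1))) →
      ∃ a b g : ZMod p, A = a • (e₁ * N * e₂) + b • N ^ 2 + g • (e₂ * N * e₃) := by
    intro A hA
    have hA3 : e₃ * A = 0 := LinearMap.ext fun v => hV1 _ (hA 0 v ⟨v, by simp⟩)
    have hA12 : e₂ * (A * (e₁ + e₂)) = 0 := by
      refine LinearMap.ext fun v => ?_
      have h1 := hV2 _ (hA 1 _ (hV1' v))
      rw [Module.End.mul_apply, Module.End.mul_apply, ← h1, ← Module.End.mul_apply, hf.o21]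
      simp
    have hA1 : A * e₁ = 0 := by
      refine LinearMap.ext fun v => ?_
      have := hA 2 _ (hV2' v)
      rw [hN3, LinearMap.range_zero, Submodule.mem_bot] at this
      exact this
    have hA22 : e₂ * A * e₂ = 0 := by
      have : e₂ * (A * e₁) + e₂ * (A * e₂) = 0 := by rw [← mul_add, ← mul_add, hA12]
      rwa [hA1, mul_zero, zero_add, ← mul_assoc] at this
    have hAdec : A = e₁ * A * e₂ + e₁ * A * e₃ + e₂ * A * e₃ := by
      have h : A = (e₁ + e₂ + e₃) * A * (e₁ + e₂ + e₃) := by rw [hf.one, one_mul, mul_one]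
      simp only [add_mul, mul_add, hA3, hA22, zero_mul, add_zero, zero_add,
        mul_assoc _ A e₁, hA1, mul_zero] at h
      exact h.trans (by abel)
    have e3N : e₃ * N = 0 := LinearMap.ext fun v => hV1 _ (hNle v)
    obtain ⟨b, hb⟩ := hlayer 2 ((e₁ * A * e₃) v₀) (by
      rw [Module.End.mul_apply, Module.End.mul_apply]; exact hV2' _)
    have hbeq := eq_smul_of_vanish hreg hlayer (B := e₁ * A * e₃) (M := N ^ 2)
      (by rw [mul_assoc, e3N, mul_zero]) (by rw [← pow_succ, hN3]) (htop hb)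
    obtain ⟨g, hg⟩ := hlayer 1 (A v₀) (hA 0 v₀ ⟨v₀, by simp⟩)
    have he2V2 : ∀ v ∈ LinearMap.range (N ^ 2), e₂ v = 0 := fun v hv => by
      rw [← hV2 v hv, ← Module.End.mul_apply, hf.o21]
      rfl
    have e2N : e₂ * N = e₂ * N * e₃ := by
      conv_lhs => rw [hNdec]
      simp only [mul_add, mul_assoc, o21, i22, zero_add]
    have e2A : e₂ * A = e₂ * A * e₃ := by
      conv_lhs => rw [hAdec]
      simp only [mul_add, mul_assoc, o21, i22, zero_add]
    have hgeq := eq_smul_of_vanish hreg hlayer (B := e₂ * A * e₃) (M := e₂ * N * e₃) (c := g)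
      (by rw [mul_assoc, e3N, mul_zero]) (by rw [mul_assoc, e3N, mul_zero]) (by
        rw [← e2A, ← e2N, Module.End.mul_apply, Module.End.mul_apply]
        have h2 := he2V2 _ hg
        rwa [map_sub, map_smul, pow_one, sub_eq_zero] at h2)
    set q := e₂ (N v₀) with hq
    obtain ⟨a, ha⟩ := hlayer 2 ((e₁ * A * e₂) q) (by
      rw [Module.End.mul_apply, Module.End.mul_apply]; exact hV2' _)
    have haeq : e₁ * A * e₂ = a • (e₁ * N * e₂) := by
      refine LinearMap.ext fun v => ?_
      obtain ⟨c, hc⟩ := hlayer 1 (e₂ v) (by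
        have := hV1' (e₂ v)
        rwa [LinearMap.add_apply, ← Module.End.mul_apply, hf.o12, ← Module.End.mul_apply, hf.i22,
          LinearMap.zero_apply, zero_add] at this)
      have hev : e₂ v = c • q := by
        have h3 := he2V2 _ hc
        rw [map_sub, map_smul, pow_one, sub_eq_zero, ← Module.End.mul_apply, hf.i22] at h3
        exact h3
      have happ : ∀ B : Module.End (ZMod p) V, (e₁ * B * e₂) v = c • (e₁ * B * e₂) q := fun B => by
        rw [show e₁ * B * e₂ = e₁ * B * e₂ * e₂ by rw [mul_assoc _ e₂ e₂, hf.i22],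
          Module.End.mul_apply, hev, map_smul, Module.End.mul_apply (f := e₁ * B * e₂) (g := e₂),
          hq, ← Module.End.mul_apply e₂ e₂, hf.i22]
      have hNq : (e₁ * N * e₂) q = (N ^ 2) v₀ := by
        rw [hN2, hq, ← Module.End.mul_apply e₂ N, e2N, ← Module.End.mul_apply]
        simp only [mul_assoc, hf.i33, i22]
      rw [LinearMap.smul_apply, happ A, happ N, htop ha, hNq, smul_comm]
    exact ⟨a, b, g, by rw [← haeq, ← hbeq, ← hgeq]; exact hAdec⟩
  have hlowA : ∀ t : (T : Subgroup X), ∀ i, ∀ v ∈ LinearMap.range (N ^ i),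
      (ρ (t : X) - 1) v ∈ LinearMap.range (N ^ (i + 1)) := fun t i v hv => hlow t t.2 i v hv
  choose a b g habg using fun t : (T : Subgroup X) => coord _ (hlowA t)
  have hinj3 : Function.Injective fun t : (T : Subgroup X) => (a t, b t, g t) := fun s t hst => by
    simp only [Prod.mk.injEq] at hst
    exact Subtype.ext (hinj (by
      rw [← sub_left_inj (a := (1 : Module.End (ZMod p) V)), habg s, habg t, hst.1, hst.2.1,
        hst.2.2]))
  set a12 := e₁ * N * e₂ with ha12
  set a23 := e₂ * N * e₃ with ha23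
  have p11 : a12 * a12 = 0 := by simp only [ha12, mul_assoc, o21, mul_zero]
  have p33 : a23 * a23 = 0 := by simp only [ha23, mul_assoc, o32, mul_zero]
  have p31 : a23 * a12 = 0 := by simp only [ha23, ha12, mul_assoc, o31, mul_zero]
  have p12 : a12 * N ^ 2 = 0 := by simp only [hN2, ha12, mul_assoc, o21, mul_zero]
  have p32 : a23 * N ^ 2 = 0 := by simp only [hN2, ha23, ha12, mul_assoc, o31, mul_zero]
  have p21 : N ^ 2 * a12 = 0 := by simp only [hN2, ha23, ha12, mul_assoc, o31, mul_zero]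
  have p23 : N ^ 2 * a23 = 0 := by simp only [hN2, ha23, mul_assoc, o32, mul_zero]
  have p22 : N ^ 2 * N ^ 2 = 0 := by rw [← pow_add]; exact pow_eq_zero_of_le (by norm_num) hN3
  have hmul : ∀ a₁ b₁ g₁ a₂ b₂ g₂ : ZMod p, (a₁ • a12 + b₁ • N ^ 2 + g₁ • a23) *
      (a₂ • a12 + b₂ • N ^ 2 + g₂ • a23) = (a₁ * g₂) • N ^ 2 := by
    intro a₁ b₁ g₁ a₂ b₂ g₂
    simp only [mul_add, add_mul, smul_mul_assoc, mul_smul_comm, smul_smul, p11, p33, p31, p12, p32,
      p21, p23, p22, smul_zero, zero_add, add_zero]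
    rw [mul_comm g₂ a₁, hN2]
  -- `Z` is a multiple of `N²`
  have e1Z : e₁ * Z = Z := hpair.zyz
  have Ze3 : Z * e₃ = Z := by rw [he₃, ← mul_assoc, hpair.zyz]
  obtain ⟨c₀, hc₀⟩ : ∃ c, Z = c • N ^ 2 := by
    obtain ⟨c, hc⟩ := hlayer 2 (Z v₀) (by rw [← e1Z, Module.End.mul_apply]; exact hV2' _)
    refine ⟨c, eq_smul_of_vanish hreg hlayer ?_ (by rw [← pow_succ, hN3]) (htop hc)⟩
    rw [← Ze3, mul_assoc, show e₃ * N = 0 from LinearMap.ext fun v => hV1 _ (hNle v), mul_zero]
  have hc0 : c₀ ≠ 0 := fun h => hz1 (hinj (by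
    rw [map_one, ← sub_eq_zero, ← hZdef, hc₀, h, zero_smul]))
  have hY1 : Y * e₁ = Y := by rw [he₁, ← mul_assoc, hpair.yzy]
  have hY3 : e₃ * Y = Y := hpair.yzy
  have hYne : Y ≠ 0 := fun h => by
    have h1 : Z * Y * Z = Z := hpair.zyz
    rw [h, mul_zero, zero_mul] at h1
    exact hc0 ((smul_eq_zero.1 (hc₀.symm.trans h1.symm)).resolve_right hreg.pow_pred_ne)
  by_cases hall : ∀ t : (T : Subgroup X), a t = g t
  · -- `T` is abelian of order `p²` and contains an element with coordinates `(1, 0, 1)`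
    have hinj2 : Function.Injective fun t : (T : Subgroup X) => (a t, b t) := fun s t hst => by
      simp only [Prod.mk.injEq] at hst
      exact hinj3 (by simp only [hst.1, hst.2, ← hall s, ← hall t])
    have hbij : Function.Bijective fun t : (T : Subgroup X) => (a t, b t) :=
      hinj2.bijective_of_nat_card_le (by rw [Nat.card_prod, Nat.card_zmod, ← pow_two]; exact hT2)
    obtain ⟨x', hx'⟩ := hbij.2 (1, 0)
    simp only [Prod.mk.injEq] at hx'
    have hcomm : ∀ s t : (T : Subgroup X), (s : X) * t = t * s := by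
      intro s t
      refine hinj ?_
      have h : (ρ (s : X) - 1) * (ρ (t : X) - 1) = (ρ (t : X) - 1) * (ρ (s : X) - 1) := by
        rw [habg s, habg t, hmul, hmul, ← hall s, ← hall t, mul_comm]
      rw [map_mul, map_mul, ← sub_eq_zero]
      rw [← sub_eq_zero] at h
      rw [← h]
      noncomm_ring
    set A := ρ (x' : X) - 1 with hA
    have hAval : A = a12 + a23 := by
      rw [hA, habg x', ← hall x', hx'.1, hx'.2, one_smul, zero_smul, one_smul, add_zero]
    have hA2 : A * A = N ^ 2 := by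
      have := hmul 1 0 1 1 0 1
      rwa [one_mul, one_smul, one_smul, zero_smul, add_zero, one_smul, ← hAval] at this
    have hA3 : A * A * A = 0 := by
      rw [hA2, hAval, mul_add, p21, p23, add_zero]
    have hx'inv : ρ ((x' : X)⁻¹) = 1 - A + A * A := by
      refine left_inv_eq_right_inv (a := ρ (x' : X))
        (by rw [← map_mul, inv_mul_cancel, map_one]) ?_
      rw [show ρ (x' : X) = 1 + A by rw [hA]; abel]
      calc (1 + A) * (1 - A + A * A) = 1 + A * A * A := by noncomm_ring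
        _ = 1 := by rw [hA3, add_zero]
    have hYAY : Y * A * Y = 0 := by
      rw [hAval, ha12, ha23]
      calc Y * (e₁ * N * e₂ + e₂ * N * e₃) * Y
          = Y * e₁ * (e₁ * N * e₂ + e₂ * N * e₃) * (e₃ * Y) := by rw [hY1, hY3]
        _ = 0 := by simp only [mul_add, add_mul, mul_assoc, i11, o23, o12, mul_zero, add_zero]
    have hYA2Y : Y * (A * A) * Y = c₀⁻¹ • Y := by
      rw [hA2, ← inv_smul_smul₀ hc0 (N ^ 2), ← hc₀, mul_smul_comm, smul_mul_assoc, hpair.yzy]
    set W := ρ ((x' : X) * u * (x' : X)⁻¹) - 1 with hW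
    have hWY : W = ρ (x' : X) * Y * ρ ((x' : X)⁻¹) := by
      rw [hW, hYdef, map_mul, map_mul, mul_sub, sub_mul, mul_one, ← map_mul _ (x' : X) ((x' : X)⁻¹),
        mul_inv_cancel, map_one]
    have hρx' : ρ (x' : X) = 1 + A := by rw [hA]; abel
    have hYW : Y * W = 0 := by
      rw [hWY, ← mul_assoc, ← mul_assoc, hρx', mul_add, mul_one, add_mul, hpair.yy, hYAY, add_zero,
        zero_mul]
    have hWYne : W * Y = c₀⁻¹ • (ρ (x' : X) * Y) := by
      rw [hWY, hx'inv]
      calc ρ (x' : X) * Y * (1 - A + A * A) * Y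
          = ρ (x' : X) * (Y * Y) - ρ (x' : X) * (Y * A * Y) + ρ (x' : X) * (Y * (A * A) * Y) := by
            noncomm_ring
        _ = c₀⁻¹ • (ρ (x' : X) * Y) := by
          rw [hpair.yy, hYAY, hYA2Y, mul_zero, sub_zero, zero_add, mul_smul_comm]
    have hW2 : W * W = 0 := by
      rw [hWY]
      calc ρ (x' : X) * Y * ρ ((x' : X)⁻¹) * (ρ (x' : X) * Y * ρ ((x' : X)⁻¹))
          = ρ (x' : X) * Y * (ρ ((x' : X)⁻¹) * ρ (x' : X)) * Y * ρ ((x' : X)⁻¹) := by
            simp only [mul_assoc]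
        _ = 0 := by
          rw [← map_mul, inv_mul_cancel, map_one, mul_one, mul_assoc (ρ (x' : X)) Y Y, hpair.yy,
            mul_zero, zero_mul]
    have hnil : IsNilpotent (Y * W + W * Y) := by
      refine ⟨2, ?_⟩
      rw [hYW, zero_add, pow_two, mul_assoc, ← mul_assoc Y W Y, hYW, zero_mul, mul_zero]
    have hR := pair_isPGroup ρ hinj (z := u) (z' := (x' : X) * u * (x' : X)⁻¹) hpair.yy hW2 hnil
    obtain ⟨Q, hQ⟩ := hR.exists_le_sylow
    obtain ⟨k, hk⟩ := MulAction.exists_smul_eq X T Q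
    have hu1 : u ∈ (Q : Subgroup X) := hQ (Subgroup.subset_closure (Or.inl rfl))
    have hu2 : (x' : X) * u * (x' : X)⁻¹ ∈ (Q : Subgroup X) :=
      hQ (Subgroup.subset_closure (Or.inr rfl))
    rw [← hk, Sylow.coe_subgroup_smul, Subgroup.mem_pointwise_smul_iff_inv_smul_mem] at hu1 hu2
    have h3 := congrArg (fun y => MulAut.conj k y) (hcomm ⟨_, hu1⟩ ⟨_, hu2⟩)
    simp only [map_mul, MulAut.smul_def, map_inv, MulAut.conj_inv_apply, MulAut.conj_apply] at h3
    simp only [mul_assoc, mul_inv_cancel_left, inv_mul_cancel_left, mul_inv_cancel,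
      inv_mul_cancel, mul_one] at h3
    have h4 := congrArg ρ h3
    simp only [← mul_assoc] at h4
    rw [mul_assoc u (x' : X) u, mul_assoc u ((x' : X) * u), map_mul ρ u, map_mul ρ _ u,
      show ρ ((x' : X) * u * (x' : X)⁻¹) = 1 + W by rw [hW]; abel,
      show ρ u = 1 + Y by rw [hYdef]; abel] at h4
    have h5 : Y * W = W * Y := by
      rw [← sub_eq_zero] at h4 ⊢
      rw [← h4]
      noncomm_ring
    rw [hYW, hWYne, eq_comm, smul_eq_zero] at h5
    rcases h5 with h5 | h5
    · exact inv_ne_zero hc0 h5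
    · exact hYne (((Group.isUnit (x' : X)).map ρ).mul_right_eq_zero.1 h5)
  · -- `T` has order `p³` and contains an element with coordinates `(1, 0, 0)`
    push Not at hall
    obtain ⟨t, ht⟩ := hall
    have hcard : p ^ 3 ≤ Nat.card (T : Subgroup X) := by
      obtain ⟨k, hk⟩ := IsPGroup.iff_card.1 T.isPGroup'
      by_contra hlt
      rw [hk] at hlt hT2
      have h2 : k = 2 := by
        have h1 := (Nat.pow_le_pow_iff_right hp.out.one_lt).1 hT2
        have h3 := (Nat.pow_lt_pow_iff_right hp.out.one_lt).1 (not_le.1 hlt)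
        omega
      subst h2
      have hc := (IsPGroup.commGroupOfCardEqPrimeSq hk).mul_comm ⟨x, hx⟩ t
      have h4 := congrArg (fun y : (T : Subgroup X) => ρ (y : X)) hc
      change ρ (x * t) = ρ (t * x) at h4
      have hx0 : N = a12 + (e₁ * N * e₃) + a23 := hNdec
      obtain ⟨bx, hbx⟩ : ∃ bx, e₁ * N * e₃ = bx • N ^ 2 := by
        obtain ⟨c, hc⟩ := hlayer 2 ((e₁ * N * e₃) v₀) (by
          rw [Module.End.mul_apply, Module.End.mul_apply]; exact hV2' _)
        exact ⟨c, eq_smul_of_vanish hreg hlayer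
          (by rw [mul_assoc, show e₃ * N = 0 from LinearMap.ext fun v => hV1 _ (hNle v), mul_zero])
          (by rw [← pow_succ, hN3]) (htop hc)⟩
      rw [hbx, ← one_smul (ZMod p) a12, ← one_smul (ZMod p) a23] at hx0
      have h5 : N * (ρ (t : X) - 1) = (ρ (t : X) - 1) * N := by
        rw [map_mul, map_mul, ← sub_eq_zero] at h4
        rw [← sub_eq_zero, ← h4, hNdef]
        noncomm_ring
      have h6 : N * (ρ (t : X) - 1) = (1 * g t) • N ^ 2 := by
        rw [habg t]
        conv_lhs => arg 1; rw [hx0]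
        exact hmul _ _ _ _ _ _
      have h7 : (ρ (t : X) - 1) * N = (a t * 1) • N ^ 2 := by
        rw [habg t]
        conv_lhs => arg 2; rw [hx0]
        exact hmul _ _ _ _ _ _
      rw [h6, h7, one_mul, mul_one, ← sub_eq_zero, ← sub_smul, smul_eq_zero, sub_eq_zero] at h5
      exact ht (h5.resolve_right hreg.pow_pred_ne).symm
    have hbij : Function.Bijective fun t : (T : Subgroup X) => (a t, b t, g t) :=
      hinj3.bijective_of_nat_card_le (by
        rw [Nat.card_prod, Nat.card_prod, Nat.card_zmod]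
        exact le_trans (le_of_eq (by ring)) hcard)
    obtain ⟨v, hv⟩ := hbij.2 (1, 0, 0)
    simp only [Prod.mk.injEq] at hv
    have hρv : ρ (v : X) = 1 + a12 := by
      have := habg v
      rw [hv.1, hv.2.1, hv.2.2, one_smul, zero_smul, zero_smul, add_zero, add_zero,
        sub_eq_iff_eq_add'] at this
      exact this
    have hv1 : (v : X) ≠ 1 := fun h => by
      rw [h, map_one, eq_comm, add_eq_left] at hρv
      refine hreg.pow_pred_ne ?_
      show N ^ 2 = 0
      rw [hN2, hρv, zero_mul]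
    obtain ⟨e, he⟩ := T.isPGroup' v
    have he' : (v : X) ^ p ^ e = 1 := by simpa using congrArg Subtype.val he
    set gw : X := w * v * w⁻¹ with hgw
    have hwa : ρ w * a12 = -(Y * a12) := by
      have : ρ w = e₂ + Z - Y := hw
      rw [this, sub_mul, add_mul, ha12]
      have hZe1 : Z * e₁ = 0 := by rw [he₁, ← mul_assoc, hpair.zz, zero_mul]
      rw [← mul_assoc Z (e₁ * N) e₂, ← mul_assoc Z e₁ N, hZe1, zero_mul, zero_mul]
      simp only [mul_assoc, o21]
      abel
    have hwinv : a12 * ρ w⁻¹ = a12 := by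
      have h1 : a12 * ρ w = a12 := by
        rw [show ρ w = e₂ + Z - Y from hw, mul_sub, mul_add, ha12, mul_assoc _ e₂ e₂, hf.i22,
          mul_assoc _ e₂ Z, mul_assoc _ e₂ Y, ← e1Z, ← hY3, o21, o23, mul_zero, add_zero, sub_zero]
      calc a12 * ρ w⁻¹ = a12 * ρ w * ρ w⁻¹ := by rw [h1]
        _ = a12 := by rw [mul_assoc, ← map_mul, mul_inv_cancel, map_one, mul_one]
    have hgρ : ρ gw = 1 - Y * a12 := by
      rw [hgw, map_mul, map_mul, hρv, mul_add, mul_one, hwa, add_mul, ← map_mul, mul_inv_cancel,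
        map_one, neg_mul, mul_assoc, hwinv, sub_eq_add_neg]
    have hcomm : gw * v = v * gw := hinj (by
      have h1 : a12 * (Y * a12) = 0 := by
        rw [← hY3]
        simp only [ha12, mul_assoc, o23, mul_zero]
      have h2 : Y * a12 * a12 = 0 := by rw [mul_assoc, p11, mul_zero]
      rw [map_mul ρ gw (v : X), map_mul ρ (v : X) gw, hgρ, hρv]
      simp only [mul_add, add_mul, mul_sub, sub_mul, mul_one, one_mul, h1, h2]
      abel)
    have hgM : gw ∈ M := hM.mem_of_commute (hM.le v.2) he' hv1 hcomm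
    exact hwM (hM.mem_of_conj (hM.le v.2) he' hv1 hgM)

end CfsgLib.MaxClassEssential
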