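import Cfsg.Agent.MaxClassEssential.QuadCore
import Cfsg.Agent.MaxClassEssential.Small
import Cfsg.Agent.Coprime.Action

/-!
# No quadratic element centralises a regular unipotent element

`false_of_quadratic`: for `p ≥ 5`, if a group with a strongly `p`-embedded subgroup acts faithfully so
that a Sylow `p`-subgroup of order at least `p²` contains a regular unipotent element `x`, then no
nontrivial element of that Sylow subgroup commuting with `x` acts quadratically.
-/

set_option autoImplicit false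
set_option linter.style.haveILetI false
set_option linter.unusedSimpArgs false
set_option maxHeartbeats 800000

namespace CfsgLib.MaxClassEssential

variable {p : ℕ} [hp : Fact p.Prime] {X : Type*} [Group X] [Finite X] {V : Type*}
  [AddCommGroup V] [Module (ZMod p) V] [Finite V] (ρ : X →* Module.End (ZMod p) V)

theorem two_pow_pred (hp5 : 5 ≤ p) : (2 : ZMod p) ^ (p - 1) = 1 := by
  refine ZMod.pow_card_sub_one_eq_one fun h => ?_
  have h2 : ((2 : ℕ) : ZMod p) = 0 := by exact_mod_cast h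
  rw [CharP.cast_eq_zero_iff (ZMod p) p] at h2
  exact absurd (Nat.le_of_dvd two_pos h2) (by omega)

variable {M : Subgroup X} {T : Sylow p X}

theorem false_of_quadratic (hp5 : 5 ≤ p) (hinj : Function.Injective ρ) (hM : IsEmb p M T) {x z : X}
    (hx : x ∈ (T : Subgroup X)) {d : ℕ} (hreg : IsRegNil (ρ x - 1) d)
    (hT2 : p ^ 2 ≤ Nat.card (T : Subgroup X)) (hzT : z ∈ (T : Subgroup X)) (hxz : x * z = z * x)
    (hz1 : z ≠ 1) (hz : (ρ z - 1) * (ρ z - 1) = 0) : False := by
  classical
  obtain ⟨u, w, h, hq⟩ := exists_quadData ρ hp5 hinj hM (hM.le hzT) hz1 hz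
  have hzo := orderOf_of_sq_eq_zero ρ hinj hz hz1
  have hzp : z ^ p ^ 1 = 1 := by rw [pow_one, ← hzo, pow_orderOf_eq_one]
  set Z := ρ z - 1 with hZdef
  set Y := ρ u - 1 with hYdef
  set e₁ := Z * Y with he₁
  set e₂ := 1 - (Z * Y + Y * Z) with he₂
  set e₃ := Y * Z with he₃
  have hf : IsFrame e₁ e₂ e₃ := hq.pair.isFrame
  have hp2 : (2 : ZMod p) ≠ 0 := fun e => by
    have := two_pow_pred (p := p) hp5
    rw [e, zero_pow (by omega)] at this
    exact zero_ne_one this
  have hp3 : (3 : ZMod p) ≠ 0 := fun e => by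
    have h2 : ((3 : ℕ) : ZMod p) = 0 := by exact_mod_cast e
    rw [CharP.cast_eq_zero_iff (ZMod p) p] at h2
    exact absurd (Nat.le_of_dvd three_pos h2) (by omega)
  have hcz : ∀ a : X, a * z = z * a → ρ a * Z = Z * ρ a := fun a ha => by
    rw [hZdef, mul_sub, sub_mul, mul_one, one_mul, ← map_mul, ha, map_mul]
  have hupper : ∀ a : X, a * z = z * a → IsUpper e₁ e₂ e₃ (ρ a) := fun a ha =>
    hq.pair.isUpper_of_commute (hcz a ha)
  have hDmul : ∀ a b : X, a * z = z * a → b * z = z * b → diagPart e₁ e₂ e₃ (ρ (a * b)) =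
      diagPart e₁ e₂ e₃ (ρ a) * diagPart e₁ e₂ e₃ (ρ b) := fun a b ha hb => by
    rw [map_mul, hf.diagPart_mul (hupper a ha) (hupper b hb)]
  have hD1 : diagPart e₁ e₂ e₃ (ρ 1) = 1 := by rw [map_one, hf.diagPart_one]
  have hDsub : ∀ a : Module.End (ZMod p) V,
      diagPart e₁ e₂ e₃ (a - 1) = diagPart e₁ e₂ e₃ a - 1 := fun a => by
    conv_rhs => rw [← hf.diagPart_one]
    simp only [diagPart, mul_sub, sub_mul]
    abel
  -- the kernel of the action on the three layers
  let Q : Subgroup X :=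
    { carrier := {a | a * z = z * a ∧ diagPart e₁ e₂ e₃ (ρ a) = 1}
      one_mem' := ⟨by rw [one_mul, mul_one], hD1⟩
      mul_mem' := fun {a b} ha hb => ⟨(Commute.mul_left ha.1 hb.1).eq,
        by rw [hDmul a b ha.1 hb.1, ha.2, hb.2, one_mul]⟩
      inv_mem' := fun {a} ha => by
        have hc : a⁻¹ * z = z * a⁻¹ := ((show Commute a z from ha.1).inv_left).eq
        refine ⟨hc, ?_⟩
        have := hDmul a⁻¹ a hc ha.1
        rwa [inv_mul_cancel, hD1, ha.2, mul_one, eq_comm] at this }
  have hnilQ : ∀ a ∈ Q, IsNilpotent (ρ a - 1) := by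
    intro a ha
    have hd : diagPart e₁ e₂ e₃ (ρ a - 1) = 0 := by rw [hDsub, ha.2, sub_self]
    have hu : IsUpper e₁ e₂ e₃ (ρ a - 1) :=
      hq.pair.isUpper_of_commute ((show Commute (ρ a) Z from hcz a ha.1).sub_left (Commute.one_left Z)).eq
    exact ⟨3, by rw [pow_succ, pow_two]; exact hf.cube_eq_zero hu hd⟩
  have hQp : IsPGroup p Q := fun a => by
    obtain ⟨e, he⟩ := pElement_of_isNilpotent ρ hinj (hnilQ a a.2)
    exact ⟨e, Subtype.ext (by simpa using he)⟩
  -- elements acting as scalars on the layers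
  have hscal : ∀ k : ℕ, ρ (h ^ k) = (2 ^ k : ZMod p) • e₁ + e₂ + ((2 ^ k : ZMod p))⁻¹ • e₃ := by
    intro k
    induction k with
    | zero => simp [hf.one]
    | succ k ih =>
      rw [pow_succ, map_mul, ih, hq.map_h, ← he₁, ← he₂, ← he₃]
      simp only [mul_add, add_mul, smul_mul_assoc, mul_smul_comm, smul_smul, hf.i11, hf.i22, hf.i33,
        hf.o12, hf.o21, hf.o13, hf.o31, hf.o23, hf.o32, smul_zero, add_zero, zero_add,
        pow_succ, mul_inv]
      rw [mul_comm (2 : ZMod p) (2 ^ k), mul_comm (2 : ZMod p)⁻¹]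
  have hhpow : h ^ (p - 1) = 1 := hinj (by
    rw [hscal, two_pow_pred hp5, inv_one, one_smul, one_smul, hf.one, map_one])
  have hh4 : ∀ a : X, a * z = z * a → (h * a * h⁻¹) * z = z * (h * a * h⁻¹) := by
    intro a ha
    have h1 : (h * a * h⁻¹) * z ^ 4 = z ^ 4 * (h * a * h⁻¹) := by
      rw [← hq.conj_h]
      calc h * a * h⁻¹ * (h * z * h⁻¹) = h * (a * z) * h⁻¹ := by group
        _ = h * (z * a) * h⁻¹ := by rw [ha]
        _ = h * z * h⁻¹ * (h * a * h⁻¹) := by group
    obtain ⟨m, hm⟩ : ∃ m : ℕ, (z ^ 4) ^ m = z := by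
      refine ⟨((4 : ZMod p)⁻¹).val, ?_⟩
      conv_rhs => rw [← pow_one z]
      rw [← pow_mul, pow_eq_pow_iff_modEq, hzo, ← ZMod.natCast_eq_natCast_iff, Nat.cast_mul,
        ZMod.natCast_zmod_val, Nat.cast_one]
      refine mul_inv_cancel₀ (fun e => hp2 ?_)
      have : (2 : ZMod p) * 2 = 0 := by norm_num; simpa using e
      rcases mul_eq_zero.1 this with h | h <;> exact h
    have h2 := (show Commute (h * a * h⁻¹) (z ^ 4) from h1).pow_right m
    rw [hm] at h2
    exact h2.eq
  have hDconj : ∀ a : X, a * z = z * a → ∀ k : ℕ, diagPart e₁ e₂ e₃ (ρ (h ^ k * a * (h ^ k)⁻¹)) =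
      diagPart e₁ e₂ e₃ (ρ a) := by
    intro a _ k
    set H := ρ (h ^ k) with hH
    set H' := ρ ((h ^ k)⁻¹) with hH'
    have hHH : H * H' = 1 := by rw [hH, hH', ← map_mul, mul_inv_cancel, map_one]
    have hk0 : (2 ^ k : ZMod p) ≠ 0 := pow_ne_zero _ hp2
    have key : ∀ (e : Module.End (ZMod p) V) (c : ZMod p), c ≠ 0 → e * H = c • e →
        H * e = c • e → e * (H * ρ a * H') * e = e * ρ a * e := by
      intro e c hc hl hr
      have hr' : H' * e = c⁻¹ • e := by
        have h1 : H' * H = 1 := by rw [hH, hH', ← map_mul, inv_mul_cancel, map_one]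
        calc H' * e = c⁻¹ • (H' * (c • e)) := by rw [mul_smul_comm, smul_smul, inv_mul_cancel₀ hc,
              one_smul]
          _ = c⁻¹ • (H' * H * e) := by rw [← hr, mul_assoc]
          _ = c⁻¹ • e := by rw [h1, one_mul]
      calc e * (H * ρ a * H') * e = (e * H) * ρ a * (H' * e) := by simp only [mul_assoc]
        _ = e * ρ a * e := by
          rw [hl, hr', smul_mul_assoc, smul_mul_assoc, mul_smul_comm, smul_smul, mul_inv_cancel₀ hc,
            one_smul]
    rw [map_mul, map_mul, diagPart, diagPart, ← hH, ← hH']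
    congr 1
    · congr 1
      · exact key e₁ _ hk0 (by simp [hH, hscal, mul_add, hf.i11, hf.o12, hf.o13])
          (by simp [hH, hscal, add_mul, hf.i11, hf.o21, hf.o31])
      · exact key e₂ 1 one_ne_zero (by simp [hH, hscal, mul_add, hf.i22, hf.o21, hf.o23])
          (by simp [hH, hscal, add_mul, hf.i22, hf.o12, hf.o32])
    · exact key e₃ _ (inv_ne_zero hk0) (by simp [hH, hscal, mul_add, hf.i33, hf.o31, hf.o32])
        (by simp [hH, hscal, add_mul, hf.i33, hf.o13, hf.o23])
  have hcc : ∀ a : X, a * z = z * a → ∀ k : ℕ,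
      (h ^ k * a * (h ^ k)⁻¹) * z = z * (h ^ k * a * (h ^ k)⁻¹) := by
    intro a ha k
    induction k with
    | zero => simpa using ha
    | succ k ih =>
      rw [show h ^ (k + 1) * a * (h ^ (k + 1))⁻¹ = h * (h ^ k * a * (h ^ k)⁻¹) * h⁻¹ by
        rw [pow_succ']; group]
      exact hh4 _ ih
  have hAQ : Subgroup.zpowers h ≤ Subgroup.normalizer (Q : Set X) := by
    rw [Subgroup.zpowers_le]
    refine Subgroup.mem_normalizer_fintype fun a ha => ⟨hh4 a ha.1, ?_⟩
    have := hDconj a ha.1 1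
    rw [pow_one] at this
    rw [this, ha.2]
  have hcop : (Nat.card (Subgroup.zpowers h)).Coprime (Nat.card Q) := by
    obtain ⟨k, hk⟩ := IsPGroup.iff_card.1 hQp
    rw [hk, Nat.card_zpowers]
    refine Nat.Coprime.pow_right _ ?_
    refine Nat.Coprime.coprime_dvd_left (orderOf_dvd_of_pow_eq_one hhpow) ?_
    exact ((hp.out.coprime_iff_not_dvd).2 (fun hd => absurd (Nat.le_of_dvd (by omega) hd)
      (by omega))).symm
  have hxz' : x * z = z * x := hxz
  obtain ⟨c, hcA, hcQ⟩ := Coprime.exists_fixed_mem_coset hAQ hcop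
    (Or.inl (haveI : IsMulCommutative (Subgroup.zpowers h) := inferInstance
      Group.isSolvable_of_comm fun a b => mul_comm' a b))
    (k := x) (fun a ha => by
      obtain ⟨k, rfl⟩ : ∃ k : ℕ, h ^ k = a :=
        (Submonoid.mem_powers_iff _ _).1
          ((IsOfFinOrder.mem_powers_iff_mem_zpowers (isOfFinOrder_of_finite h)).2 ha)
      have hxi : x⁻¹ * z = z * x⁻¹ := ((show Commute x z from hxz').inv_left).eq
      refine ⟨(Commute.mul_left hxi (hcc x hxz' k)).eq, ?_⟩
      rw [hDmul _ _ hxi (hcc x hxz' k), hDconj x hxz' k, ← hDmul _ _ hxi hxz', inv_mul_cancel, hD1])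
  have hcz' : c * z = z * c := by
    have h1 : c = x * (x⁻¹ * c) := by group
    rw [h1]
    exact (Commute.mul_left hxz' hcQ.1).eq
  have hch : c * h = h * c :=
    (Subgroup.mem_centralizer_iff.1 hcA h (Subgroup.mem_zpowers h)).symm
  rcases eq_or_ne c 1 with rfl | hc1
  · rw [mul_one] at hcQ
    have hxQ : x ∈ Q := by simpa using Q.inv_mem hcQ
    refine false_of_small ρ hinj hM hx hreg hT2 hq.u_not_mem hq.w_not_mem hq.pair hq.map_w hz1 ?_ ?_
    · exact hq.pair.isUpper_of_commute ((show Commute (ρ x) Z from hcz x hxz').sub_left (Commute.one_left Z)).eq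
    · rw [hDsub, hxQ.2, sub_self]
  -- `c` is a nontrivial `p`-element of `M` commuting with `u`
  have hcp : ∃ e, c ^ p ^ e = 1 := by
    obtain ⟨e, he⟩ := T.isPGroup' ⟨x, hx⟩
    have hxe : x ^ p ^ e = 1 := by simpa using congrArg Subtype.val he
    have hpow : ∀ n : ℕ, diagPart e₁ e₂ e₃ (ρ (c ^ n)) = diagPart e₁ e₂ e₃ (ρ (x ^ n)) := by
      intro n
      induction n with
      | zero => simp
      | succ n ih =>
        rw [pow_succ, pow_succ, hDmul _ _ ((show Commute c z from hcz').pow_left n).eq hcz',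
          hDmul _ _ ((show Commute x z from hxz').pow_left n).eq hxz', ih,
          show diagPart e₁ e₂ e₃ (ρ c) = diagPart e₁ e₂ e₃ (ρ x) by
            have := hDmul x (x⁻¹ * c) hxz' hcQ.1
            rwa [mul_inv_cancel_left, hcQ.2, mul_one] at this]
    have hmem : c ^ p ^ e ∈ Q :=
      ⟨((show Commute c z from hcz').pow_left _).eq, by rw [hpow, hxe, hD1]⟩
    obtain ⟨e', he'⟩ := hQp ⟨_, hmem⟩
    exact ⟨e + e', by rw [pow_add, pow_mul]; simpa using congrArg Subtype.val he'⟩
  obtain ⟨e, he⟩ := hcp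
  have hcM : c ∈ M := hM.mem_of_commute (hM.le hzT) hzp hz1 hcz'
  have hcY : ρ c * Y = Y * ρ c := by
    refine hq.pair.commute_of_commute (H := ρ h) (c₁ := (2 : ZMod p)) (c₂ := 1) (c₃ := (2 : ZMod p)⁻¹)
      (by rw [hq.map_h, one_smul]) ?_ ?_ ?_ (by rw [← map_mul, hch, map_mul]) (hcz c hcz')
    · intro e'
      exact one_ne_zero (α := ZMod p) (by linear_combination e')
    · intro e'
      have h2 := mul_inv_cancel₀ hp2
      rw [← e'] at h2
      exact hp3 (by linear_combination h2)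
    · intro e'
      rw [eq_comm, inv_eq_one] at e'
      exact one_ne_zero (α := ZMod p) (by linear_combination e')
  have hcu : u * c = c * u := by
    refine hinj ?_
    rw [hYdef, mul_sub, sub_mul, mul_one, one_mul, sub_left_inj] at hcY
    rw [map_mul, map_mul, hcY]
  exact hq.u_not_mem (hM.mem_of_commute hcM he hc1 hcu)

end CfsgLib.MaxClassEssential
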