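import Cfsg.Agent.MaxClassEssential.Flag
import Cfsg.Agent.Fusion.Sylow
import Cfsg.Agent.LocalEven48.SPE

/-!
# A nonabelian `p`-group with a regular element has a quadratic element

`exists_quadratic_of_noncomm`: if a nonabelian `p`-group `T` contains a regular unipotent element
`x` in dimension `d ≤ p`, some nontrivial element of `T` commuting with `x` acts quadratically.
-/

set_option autoImplicit false
set_option linter.style.haveILetI false
set_option maxHeartbeats 400000

namespace CfsgLib.MaxClassEssential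

open Polynomial

/-- `(1 + b) ^ i - 1` is `b` times a polynomial with constant term `i`, for `b` without constant
term. -/
theorem exists_one_add_pow {F : Type*} [Field F] (b : F[X]) (hb : b.coeff 0 = 0) (i : ℕ) :
    ∃ S : F[X], (1 + b) ^ i = 1 + b * S ∧ S.coeff 0 = i := by
  induction i with
  | zero => exact ⟨0, by simp, by simp⟩
  | succ i ih =>
    obtain ⟨S, h1, h2⟩ := ih
    refine ⟨S * (1 + b) + 1, by rw [pow_succ, h1]; ring, ?_⟩
    rw [Polynomial.coeff_add, Polynomial.mul_coeff_zero, Polynomial.coeff_add, hb, h2]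
    simp

theorem exists_comp_sub {F : Type*} [Field F] (b g : F[X]) (hb : b.coeff 0 = 0) :
    ∃ k : F[X], g.comp (Polynomial.X * (1 + b)) - g = Polynomial.X * b * k := by
  induction g using Polynomial.induction_on' with
  | add u v hu hv =>
    obtain ⟨k1, h1⟩ := hu
    obtain ⟨k2, h2⟩ := hv
    exact ⟨k1 + k2, by rw [Polynomial.add_comp]; linear_combination h1 + h2⟩
  | monomial i a =>
    rcases i with _ | i
    · exact ⟨0, by simp⟩
    · obtain ⟨S, h1, -⟩ := exists_one_add_pow b hb (i + 1)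
      refine ⟨Polynomial.C a * Polynomial.X ^ i * S, ?_⟩
      rw [← Polynomial.C_mul_X_pow_eq_monomial, Polynomial.mul_comp, Polynomial.C_comp,
        Polynomial.X_pow_comp, mul_pow, h1]
      ring

/-- The difference of a polynomial and its composite with `X (1 + b)`. -/
theorem exists_comp_pow_sub {F : Type*} [Field F] (b g : F[X]) (hb : b.coeff 0 = 0) (j : ℕ) :
    ∃ U : F[X], (Polynomial.X ^ j * g).comp (Polynomial.X * (1 + b)) - Polynomial.X ^ j * g =
      Polynomial.X ^ j * b * U ∧ U.coeff 0 = j * g.coeff 0 := by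
  obtain ⟨S, h1, h2⟩ := exists_one_add_pow b hb j
  obtain ⟨k, hk⟩ := exists_comp_sub b g hb
  refine ⟨S * g + (1 + b * S) * Polynomial.X * k, ?_, ?_⟩
  · rw [Polynomial.mul_comp, Polynomial.X_pow_comp, mul_pow, h1,
      show g.comp (Polynomial.X * (1 + b)) = g + Polynomial.X * b * k by rw [← hk]; ring]
    ring
  · rw [Polynomial.coeff_add, Polynomial.mul_coeff_zero, Polynomial.mul_coeff_zero,
      Polynomial.mul_coeff_zero (1 + b * S) Polynomial.X, h2]
    simp

variable {p : ℕ} [hp : Fact p.Prime] {X : Type*} [Group X] [Finite X] {V : Type*}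
  [AddCommGroup V] [Module (ZMod p) V] [Finite V] (ρ : X →* Module.End (ZMod p) V)

omit [Finite X] [Finite V] in
theorem normal_form_of_pElement (hinj : Function.Injective ρ) {N : Module.End (ZMod p) V} {d : ℕ}
    (hreg : IsRegNil N d) {t : X} (ht1 : t ≠ 1) {e : ℕ} (he : t ^ p ^ e = 1)
    (hcomm : (ρ t - 1) * N = N * (ρ t - 1)) :
    ∃ q, ∃ g : (ZMod p)[X], 0 < q ∧ q < d ∧ g.coeff 0 ≠ 0 ∧
      ρ t - 1 = Polynomial.aeval N (Polynomial.X ^ q * g) := by
  obtain ⟨f, hf⟩ := hreg.exists_aeval hcomm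
  rcases hreg.normal_form f with h0 | ⟨q, g, hq, hg, hfe, he'⟩
  · exact absurd (hinj (by rw [map_one, ← sub_eq_zero, hf, h0])) ht1
  refine ⟨q, g, Nat.pos_of_ne_zero fun hq0 => ?_, hq, hg, by rw [hf, hfe]⟩
  have hnil : IsNilpotent (ρ t - 1) := ⟨p ^ e, sub_one_pow_of_pow_eq_one ρ he⟩
  rw [hf, he', hq0, pow_zero, one_mul] at hnil
  obtain ⟨n, hn⟩ := hnil
  have h2 := (hreg.isUnit_aeval hg).pow n
  rw [hn, isUnit_zero_iff] at h2
  refine hreg.pow_pred_ne ?_
  rw [← mul_one (N ^ (d - 1)), ← h2, mul_zero]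

theorem exists_quadratic_of_noncomm (hinj : Function.Injective ρ) {T : Subgroup X}
    (hT : IsPGroup p T) {x : X} (hx : x ∈ T) {d : ℕ} (hreg : IsRegNil (ρ x - 1) d) (hdp : d ≤ p)
    (hnc : ∃ a ∈ T, ∃ b ∈ T, a * b ≠ b * a) :
    ∃ z ∈ T, x * z = z * x ∧ z ≠ 1 ∧ (ρ z - 1) * (ρ z - 1) = 0 := by
  set N := ρ x - 1 with hN
  by_contra hcon
  push Not at hcon
  have hquad : ∀ z ∈ T, x * z = z * x → z ≠ 1 → ∀ {q : ℕ} {g : (ZMod p)[X]},
      ρ z - 1 = Polynomial.aeval N (Polynomial.X ^ q * g) → 2 * q < d := by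
    intro z hz hxz hz1 q g hg
    by_contra hle
    refine hcon z hz hxz hz1 ?_
    rw [hg, ← map_mul, show Polynomial.X ^ q * g * (Polynomial.X ^ q * g) =
      Polynomial.X ^ (2 * q) * (g * g) by ring, map_mul, map_pow, Polynomial.aeval_X,
      hreg.pow_eq_zero_iff.2 (not_lt.1 hle), zero_mul]
  have hcommN : ∀ t : X, x * t = t * x → (ρ t - 1) * N = N * (ρ t - 1) := fun t ht => by
    have h : Commute (ρ t) (ρ x) := by
      show _ = _
      rw [← map_mul, ← map_mul, ht]
    exact ((h.sub_right (Commute.one_right _)).sub_left (Commute.one_left _)).eq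
  have hel : ∀ t ∈ T, ∃ e, t ^ p ^ e = 1 := fun t ht => by
    obtain ⟨e, he⟩ := hT ⟨t, ht⟩
    exact ⟨e, by simpa using congrArg Subtype.val he⟩
  set C := T ⊓ Subgroup.centralizer ({x} : Set X) with hC
  have hCx : ∀ t ∈ C, x * t = t * x := fun t ht =>
    (Subgroup.mem_centralizer_singleton_iff.1 ht.2).symm
  have hCcomm : ∀ a ∈ C, ∀ b ∈ C, a * b = b * a := by
    intro a ha b hb
    refine hinj ?_
    have h := hreg.commute_of_commute (hcommN a (hCx a ha)) (hcommN b (hCx b hb))
    rw [map_mul, map_mul, ← sub_eq_zero]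
    rw [← sub_eq_zero] at h
    rw [← h]
    noncomm_ring
  have hlt : C < T := lt_of_le_of_ne inf_le_left fun h => by
    obtain ⟨a, ha, b, hb, hab⟩ := hnc
    exact hab (hCcomm a (h.symm ▸ ha) b (h.symm ▸ hb))
  obtain ⟨y, hy, hyC⟩ := SetLike.exists_of_lt (Fusion.lt_normalizerIn hT hlt)
  have hyT : y ∈ T := hy.1
  have hyN : ∀ t ∈ C, y * t * y⁻¹ ∈ C := fun t ht =>
    (Subgroup.mem_normalizer_iff.1 hy.2 t).1 ht
  have hxC : x ∈ C := ⟨hx, Subgroup.mem_centralizer_singleton_iff.2 rfl⟩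
  set c := y * x * y⁻¹ * x⁻¹ with hc
  have hcC : c ∈ C := C.mul_mem (hyN x hxC) (C.inv_mem hxC)
  have hc1 : c ≠ 1 := fun h => by
    rw [hc, mul_inv_eq_one, mul_inv_eq_iff_eq_mul] at h
    exact hyC ⟨hyT, Subgroup.mem_centralizer_singleton_iff.2 h⟩
  obtain ⟨ec, hec⟩ := hel c hcC.1
  obtain ⟨q, gc, hq0, hqd, hgc, hρc⟩ :=
    normal_form_of_pElement ρ hinj hreg hc1 hec (hcommN c (hCx c hcC))
  have hq2d := hquad c hcC.1 (hCx c hcC) hc1 hρc
  -- the conjugate of `N` by `y`
  set N' := ρ y * N * ρ y⁻¹ with hN'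
  have hyinv : ρ y⁻¹ * ρ y = 1 := by rw [← map_mul, inv_mul_cancel, map_one]
  have hN'eq : N' = Polynomial.aeval N
      (Polynomial.X * (1 + Polynomial.X ^ (q - 1) * (gc * (1 + Polynomial.X)))) := by
    have h1 : N' = ρ c * ρ x - 1 := by
      rw [← map_mul, show c * x = y * x * y⁻¹ by simp [hc], hN', hN, map_mul, map_mul, mul_sub,
        sub_mul, mul_one, ← map_mul _ y y⁻¹, mul_inv_cancel, map_one]
    rw [h1, mul_add, mul_one, ← mul_assoc, ← pow_succ', Nat.sub_add_cancel hq0, ← mul_assoc,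
      map_add, map_mul (Polynomial.aeval N), ← hρc, map_add, map_one, Polynomial.aeval_X]
    rw [show ρ x = 1 + N by rw [hN]; abel]
    noncomm_ring
  have hq1 : q ≠ 1 := by
    rintro rfl
    -- `N' - N` lowers the flag by two steps
    have hlow := fun i => lowers_of_isPGroup ρ hT hx hreg hyT i
    have hD : ∀ v, (N' - N) v ∈ LinearMap.range (N ^ 2) := by
      intro v
      have hv : (N' - N) v = (ρ y (N (ρ y⁻¹ v)) - N (ρ y⁻¹ v)) -
          N (ρ y (ρ y⁻¹ v) - ρ y⁻¹ v) := by
        have : ρ y (ρ y⁻¹ v) = v := by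
          rw [← Module.End.mul_apply, ← map_mul, mul_inv_cancel, map_one, Module.End.one_apply]
        simp only [hN', LinearMap.sub_apply, Module.End.mul_apply, this, map_sub]
        abel
      rw [hv]
      refine sub_mem (hlow 1 _ ⟨_, by rw [pow_one]⟩) ?_
      obtain ⟨w, hw⟩ := hlow 0 (ρ y⁻¹ v) ⟨ρ y⁻¹ v, by simp⟩
      exact ⟨w, by rw [← hw, pow_succ' N (0 + 1)]; rfl⟩
    obtain ⟨U, hU⟩ : ∃ U, Polynomial.aeval N (gc * (1 + Polynomial.X)) = U := ⟨_, rfl⟩
    have hUu : IsUnit U := hU ▸ hreg.isUnit_aeval (by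
      rw [Polynomial.mul_coeff_zero]; simpa using hgc)
    have hND : N' - N = N * U := by
      rw [hN'eq, Nat.sub_self, pow_zero, one_mul, mul_add, mul_one, map_add, map_mul,
        Polynomial.aeval_X, hU]
      abel
    obtain ⟨U', hU'⟩ := hUu.exists_right_inv
    refine hreg.pow_pred_ne (LinearMap.ext fun v => ?_)
    obtain ⟨w, hw⟩ := hD (U' v)
    rw [hND, ← Module.End.mul_apply, mul_assoc, hU', mul_one] at hw
    rw [show d - 1 = d - 2 + 1 by omega, pow_succ, Module.End.mul_apply, ← hw,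
      ← Module.End.mul_apply, ← pow_add, show d - 2 + 2 = d by omega, hreg.pow_eq_zero]
    simp
  -- a central element
  obtain ⟨z, hzT, hzo, hzc⟩ := LocalEven48.exists_central_orderOf hT (fun h => by
    obtain ⟨a, ha, b, hb, hab⟩ := hnc
    rw [h, Subgroup.mem_bot] at ha
    exact hab (by simp [ha]))
  have hz1 : z ≠ 1 := LocalEven48.ne_one_of_orderOf hzo
  obtain ⟨ez, hez⟩ := hel z hzT
  obtain ⟨j, g, hj0, hjd, hg, hρz⟩ :=
    normal_form_of_pElement ρ hinj hreg hz1 hez (hcommN z (hzc x hx))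
  have hj2d := hquad z hzT (hzc x hx) hz1 hρz
  set f : (ZMod p)[X] := Polynomial.X ^ j * g with hf
  have hconj : Polynomial.aeval N' f = Polynomial.aeval N f := by
    have h1 : ρ y * Polynomial.aeval N f = Polynomial.aeval N' f * ρ y := by
      clear_value f
      clear hρz hf
      induction f using Polynomial.induction_on' with
      | add u v hu hv => rw [map_add, map_add, mul_add, add_mul, hu, hv]
      | monomial i a =>
        have hi : ρ y * N ^ i = N' ^ i * ρ y :=
          (show SemiconjBy (ρ y) N N' from by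
            show ρ y * N = N' * ρ y
            rw [hN', mul_assoc, hyinv, mul_one]).pow_right i
        rw [Polynomial.aeval_monomial, Polynomial.aeval_monomial, ← mul_assoc,
          ← Algebra.commutes, mul_assoc, hi, mul_assoc]
    have h2 : ρ y * Polynomial.aeval N f = Polynomial.aeval N f * ρ y := by
      rw [← hρz, mul_sub, sub_mul, mul_one, one_mul, ← map_mul, ← map_mul, hzc y hyT]
    rw [h2] at h1
    exact (((Group.isUnit y).map ρ).mul_left_inj.1 h1).symm
  set b : (ZMod p)[X] := Polynomial.X ^ (q - 1) * (gc * (1 + Polynomial.X)) with hb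
  have hb0 : b.coeff 0 = 0 := by
    rw [hb, Polynomial.mul_coeff_zero, Polynomial.coeff_X_pow, if_neg (by omega), zero_mul]
  obtain ⟨U, hU, hU0⟩ := exists_comp_pow_sub b g hb0 j
  rw [hN'eq, ← Polynomial.aeval_comp, ← sub_eq_zero, ← map_sub, hf, hU, hb,
    show Polynomial.X ^ j * (Polynomial.X ^ (q - 1) * (gc * (1 + Polynomial.X))) * U =
      Polynomial.X ^ (j + (q - 1)) * (gc * (1 + Polynomial.X) * U) by rw [pow_add]; ring,
    map_mul, map_pow, Polynomial.aeval_X] at hconj
  have hj : (j : ZMod p) ≠ 0 := fun h => by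
    rw [CharP.cast_eq_zero_iff (ZMod p) p] at h
    exact absurd (Nat.le_of_dvd hj0 h) (by omega)
  have hfin := hreg.pow_mul_aeval_eq_zero (by
    rw [Polynomial.mul_coeff_zero, Polynomial.mul_coeff_zero, hU0]
    simp [hgc, hg, hj]) hconj
  omega

end CfsgLib.MaxClassEssential
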