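import Cfsg.Agent.MaxClassEssential.Basic
import Cfsg.Agent.DicksonPSL2.Transvections
import Mathlib.RingTheory.Ideal.Quotient.Basic
import Mathlib.LinearAlgebra.Matrix.SpecialLinearGroup

/-!
# The group generated by two quadratic elements maps onto `SL(2, q)`

If `z`, `z'` act with `(ρ z - 1) ^ 2 = 0 = (ρ z' - 1) ^ 2` and the anticommutator `C` of `ρ z - 1` and
`ρ z' - 1` is not nilpotent, then, on the part of the space where `C` is invertible, `z` and `z'`
act as `[[1, C], [0, 1]]` and `[[1, 0], [1, 1]]`; reducing modulo a maximal ideal gives a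
homomorphism of `⟨z, z'⟩` onto `SL(2, K)` for a finite field `K`.
-/

set_option autoImplicit false
set_option linter.style.haveILetI false
set_option maxHeartbeats 600000

namespace CfsgLib.MaxClassEssential

open Polynomial Matrix
open scoped MatrixGroups

variable {p : ℕ} [hp : Fact p.Prime] {X : Type*} [Group X] {V : Type*} [AddCommGroup V]
  [Module (ZMod p) V] (ρ : X →* Module.End (ZMod p) V)

/-- The pairs `(g, m)` such that `ρ g` acts by the matrix `m` on the frame `Φ`, the entries of `m`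
being read in `End V` through `φ`. -/
def frameGroup (φ : (ZMod p)[X] →ₐ[ZMod p] Module.End (ZMod p) V)
    (Φ : Fin 2 → Module.End (ZMod p) V) : Subgroup (X × SL(2, (ZMod p)[X])) where
  carrier := {x | ∀ j, ρ x.1 * Φ j = ∑ i, Φ i * φ ((x.2 : Matrix (Fin 2) (Fin 2) (ZMod p)[X]) i j)}
  one_mem' := fun j => by simp [Matrix.one_apply, apply_ite φ]
  mul_mem' := fun {a b} ha hb j => by
    show ρ (a.1 * b.1) * Φ j = ∑ i, Φ i * φ ((a.2 * b.2).1 i j)
    rw [map_mul, mul_assoc, hb j, Finset.mul_sum]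
    simp only [← mul_assoc, ha _, Finset.sum_mul]
    rw [Finset.sum_comm]
    refine Finset.sum_congr rfl fun i _ => ?_
    rw [Matrix.SpecialLinearGroup.coe_mul, Matrix.mul_apply, map_sum, Finset.mul_sum]
    simp only [map_mul, mul_assoc]
  inv_mem' := fun {a} ha j => by
    show ρ a.1⁻¹ * Φ j = ∑ i, Φ i * φ ((a.2⁻¹).1 i j)
    have h1 : Φ j = ρ a.1 * ∑ i, Φ i * φ ((a.2⁻¹).1 i j) := by
      rw [Finset.mul_sum]
      simp only [← mul_assoc, ha _, Finset.sum_mul]
      rw [Finset.sum_comm]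
      conv_lhs => rw [show Φ j = ∑ i, if i = j then Φ i else 0 by simp]
      refine Finset.sum_congr rfl fun i _ => ?_
      have h2 : (a.2 * a.2⁻¹).1 i j = ((1 : SL(2, (ZMod p)[X])).1) i j := by rw [mul_inv_cancel]
      rw [Matrix.SpecialLinearGroup.coe_mul, Matrix.mul_apply] at h2
      have h3 : ∑ k, Φ i * φ (a.2.1 i k) * φ ((a.2⁻¹).1 k j) =
          Φ i * φ (∑ k, a.2.1 i k * (a.2⁻¹).1 k j) := by
        rw [map_sum, Finset.mul_sum]
        simp only [map_mul, mul_assoc]
      rw [h3, h2, Matrix.SpecialLinearGroup.coe_one, Matrix.one_apply, apply_ite φ]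
      split_ifs with h <;> simp [h]
    conv_lhs => rw [h1]
    rw [← mul_assoc, ← map_mul, inv_mul_cancel, map_one, one_mul]

/-- `[[1, X], [0, 1]]`. -/
noncomputable def upX : SL(2, (ZMod p)[X]) :=
  ⟨!![1, Polynomial.X; 0, 1], by simp [Matrix.det_fin_two]⟩

/-- `[[1, 0], [1, 1]]`. -/
noncomputable def loX : SL(2, (ZMod p)[X]) := ⟨!![1, 0; 1, 1], by simp [Matrix.det_fin_two]⟩

/-- A finite monoid has an idempotent power of each element. -/
theorem exists_idempotent_pow {M : Type*} [Monoid M] [Finite M] (c : M) :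
    ∃ n, 0 < n ∧ c ^ n * c ^ n = c ^ n := by
  obtain ⟨a, b, hab, he⟩ : ∃ a b : ℕ, a < b ∧ c ^ a = c ^ b := by
    obtain ⟨a, b, hne, he⟩ := Finite.exists_ne_map_eq_of_infinite fun i : ℕ => c ^ i
    rcases hne.lt_or_gt with h | h
    exacts [⟨a, b, h, he⟩, ⟨b, a, h, he.symm⟩]
  have hper : ∀ k i, a ≤ i → c ^ (i + k * (b - a)) = c ^ i := by
    intro k
    induction k with
    | zero => simp
    | succ k ih =>
      intro i hi
      rw [show i + (k + 1) * (b - a) = (i - a) + b + k * (b - a) from by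
        rw [add_mul, one_mul]; omega, ih _ (by omega), pow_add, ← he, ← pow_add,
        Nat.sub_add_cancel hi]
  refine ⟨(a + 1) * (b - a), Nat.mul_pos a.succ_pos (by omega), ?_⟩
  rw [← pow_add]
  exact hper (a + 1) _ ((Nat.le_mul_of_pos_right a (Nat.sub_pos_of_lt hab)).trans
    (Nat.mul_le_mul_right _ a.le_succ))

theorem closure_eq_top {K : Type*} [Field K] (π : (ZMod p)[X] →+* K)
    (hπ : Function.Surjective π) : Subfield.closure ({π Polynomial.X} : Set K) = ⊤ := by
  refine eq_top_iff.2 fun k _ => ?_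
  obtain ⟨g, rfl⟩ := hπ k
  induction g using Polynomial.induction_on' with
  | add a b ha hb =>
    rw [map_add]
    exact Subfield.add_mem _ (ha trivial) (hb trivial)
  | monomial i a =>
    rw [← Polynomial.C_mul_X_pow_eq_monomial, map_mul, map_pow]
    refine Subfield.mul_mem _ ?_
      (pow_mem (show π Polynomial.X ∈ Subfield.closure ({π Polynomial.X} : Set K) from
        Subfield.subset_closure (Set.mem_singleton _)) i)
    rw [← ZMod.natCast_zmod_val a, Polynomial.C_eq_natCast, map_natCast]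
    exact natCast_mem _ _

/-- A finite residue field of `(ZMod p)[X]` killing a proper ideal which contains the polynomials
vanishing at `C` and `X ^ n - 1`. -/
theorem exists_field_quotient {A : Type*} [Ring A] [Algebra (ZMod p) A] [Finite A] (C : A) (n : ℕ)
    (hn : 0 < n) (I : Ideal (ZMod p)[X]) (hI1 : I ≠ ⊤)
    (hker : ∀ f : (ZMod p)[X], Polynomial.aeval C f = 0 → f ∈ I)
    (hX : Polynomial.X ^ n - 1 ∈ I) :
    ∃ (K : Type) (_ : Field K) (_ : Finite K) (_ : CharP K p) (π : (ZMod p)[X] →+* K),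
      (∀ f ∈ I, π f = 0) ∧ π Polynomial.X ≠ 0 ∧
      Subfield.closure ({π Polynomial.X} : Set K) = ⊤ := by
  obtain ⟨m, hm, hIm⟩ := Ideal.exists_le_maximal I hI1
  letI : Field ((ZMod p)[X] ⧸ m) := Ideal.Quotient.field m
  haveI : CharP ((ZMod p)[X] ⧸ m) p :=
    charP_of_injective_ringHom ((Ideal.Quotient.mk m).comp Polynomial.C).injective p
  haveI : Finite ((ZMod p)[X] ⧸ m) := by
    refine Finite.of_surjective
      (fun r : ↥(Polynomial.aeval (R := ZMod p) C).range => Ideal.Quotient.mk m r.2.choose)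
      fun k => ?_
    obtain ⟨f, rfl⟩ := Ideal.Quotient.mk_surjective k
    refine ⟨⟨_, f, rfl⟩, Ideal.Quotient.eq.2 (hIm (hker _ ?_))⟩
    have := (⟨_, f, rfl⟩ : ↥(Polynomial.aeval (R := ZMod p) C).range).2.choose_spec
    rw [map_sub, sub_eq_zero]
    exact this
  refine ⟨(ZMod p)[X] ⧸ m, inferInstance, inferInstance, inferInstance, Ideal.Quotient.mk m,
    fun f hf => Ideal.Quotient.eq_zero_iff_mem.2 (hIm hf), fun h => ?_, ?_⟩
  · refine hm.ne_top ((Ideal.eq_top_iff_one m).2 ?_)
    have := m.sub_mem (Ideal.pow_mem_of_mem m (Ideal.Quotient.eq_zero_iff_mem.1 h) n hn) (hIm hX)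
    simpa using this
  · exact closure_eq_top (Ideal.Quotient.mk m) Ideal.Quotient.mk_surjective

open CfsgLib.DicksonPSL2 in
theorem exists_hom_SL2 [Finite X] [Finite V] (hp5 : 5 ≤ p) {z z' : X}
    (hz : (ρ z - 1) * (ρ z - 1) = 0) (hz' : (ρ z' - 1) * (ρ z' - 1) = 0)
    (hC : ¬ IsNilpotent ((ρ z - 1) * (ρ z' - 1) + (ρ z' - 1) * (ρ z - 1))) :
    ∃ (K : Type) (_ : Field K) (_ : Finite K) (_ : CharP K p) (t : K)
      (ψ : ↥(Subgroup.closure ({z, z'} : Set X)) →* SL(2, K)),
      Function.Surjective ψ ∧ t ≠ 0 ∧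
      ψ ⟨z, Subgroup.subset_closure (Or.inl rfl)⟩ = upSL t ∧
      ψ ⟨z', Subgroup.subset_closure (Or.inr rfl)⟩ = loOne := by
  classical
  haveI : Finite (Module.End (ZMod p) V) := Finite.of_injective _ DFunLike.coe_injective
  set Z := ρ z - 1 with hZdef
  set Z' := ρ z' - 1 with hZ'def
  set C := Z * Z' + Z' * Z with hCdef
  have hCZ : Commute C Z := by
    show C * Z = Z * C
    rw [hCdef, add_mul, mul_add, mul_assoc Z' Z Z, ← mul_assoc Z Z Z', hz, mul_zero, zero_mul,
      add_zero, zero_add, mul_assoc]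
  have hCZ' : Commute C Z' := by
    show C * Z' = Z' * C
    rw [hCdef, add_mul, mul_add, mul_assoc Z Z' Z', ← mul_assoc Z' Z' Z, hz', mul_zero, zero_mul,
      add_zero, zero_add, mul_assoc]
  obtain ⟨n, hn, hidem⟩ := exists_idempotent_pow C
  set P := C ^ n * Z with hPdef
  set φ := Polynomial.aeval (R := ZMod p) C with hφ
  have hφP : ∀ f, φ f * P = P * φ f := fun f => by
    have hCP : Commute C P := ((Commute.refl C).pow_right n).mul_right hCZ
    induction f using Polynomial.induction_on' with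
    | add f g hf hg => rw [map_add, add_mul, mul_add, hf, hg]
    | monomial i a =>
      rw [hφ, Polynomial.aeval_monomial]
      exact ((Algebra.commute_algebraMap_left a P).mul_left (hCP.pow_left i)).eq
  have hCnP : C ^ n * P = P := by rw [hPdef, ← mul_assoc, hidem]
  have hZP : Z * P = 0 := by
    rw [hPdef, ← mul_assoc, ← (hCZ.pow_left n).eq, mul_assoc, hz, mul_zero]
  have hP0 : P ≠ 0 := by
    intro h
    refine hC ⟨n + 1, ?_⟩
    show C ^ (n + 1) = 0
    have hCn : Commute (C ^ n) Z' := hCZ'.pow_left n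
    rw [pow_succ]
    show C ^ n * (Z * Z' + Z' * Z) = 0
    rw [mul_add, ← mul_assoc, ← hPdef, h, zero_mul, zero_add, ← mul_assoc, hCn.eq, mul_assoc,
      ← hPdef, h, mul_zero]
  have hcancel : ∀ A, C * P * A = 0 → P * A = 0 := by
    intro A h
    obtain ⟨m, rfl⟩ := Nat.exists_eq_add_one_of_ne_zero hn.ne'
    calc P * A = C ^ (m + 1) * P * A := by rw [hCnP]
      _ = C ^ m * (C * P * A) := by rw [pow_succ]; simp only [mul_assoc]
      _ = 0 := by rw [h, mul_zero]
  let I : Ideal (ZMod p)[X] :=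
    { carrier := {f | φ f * P = 0}
      add_mem' := fun {a b} (ha : φ a * P = 0) (hb : φ b * P = 0) => by
        show φ (a + b) * P = 0
        rw [map_add, add_mul, ha, hb, add_zero]
      zero_mem' := by show φ 0 * P = 0; rw [map_zero, zero_mul]
      smul_mem' := fun c f (hf : φ f * P = 0) => by
        show φ (c • f) * P = 0
        rw [smul_eq_mul, map_mul, mul_assoc, hf, mul_zero] }
  have hI : ∀ f, f ∈ I ↔ φ f * P = 0 := fun f => Iff.rfl
  obtain ⟨K, iF, iFin, iC, π, hπI, ht0, hgen⟩ := exists_field_quotient C n hn I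
    (fun h => hP0 (by
      have := (hI 1).1 (h ▸ Submodule.mem_top)
      rwa [map_one, one_mul] at this))
    (fun f hf => (hI f).2 (by rw [show φ f = 0 from hf, zero_mul]))
    ((hI _).2 (by
      rw [map_sub, map_pow, map_one, hφ, Polynomial.aeval_X, sub_mul, one_mul, hCnP, sub_self]))
  set t : K := π Polynomial.X with ht
  -- the frame and the group of pairs
  let Φ : Fin 2 → Module.End (ZMod p) V := ![P, Z' * P]
  have hadd : ∀ g : X, ρ g = 1 + (ρ g - 1) := fun g => (add_sub_cancel _ _).symm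
  have hzF : (z, upX (p := p)) ∈ frameGroup ρ φ Φ := by
    intro j
    rw [show ρ (z, upX (p := p)).1 = 1 + Z from hadd z]
    fin_cases j
    · simp [Φ, upX, add_mul, hZP]
    · have : Z * (Z' * P) = P * C := by
        have h1 : C * P = Z * Z' * P := by
          rw [hCdef, add_mul, mul_assoc Z' Z P, hZP, mul_zero, add_zero]
        rw [← mul_assoc, ← h1, ← Polynomial.aeval_X (R := ZMod p) C]
        exact hφP _
      simp [Φ, upX, add_mul, this, hφ, add_comm]
  have hz'F : (z', loX (p := p)) ∈ frameGroup ρ φ Φ := by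
    intro j
    rw [show ρ (z', loX (p := p)).1 = 1 + Z' from hadd z']
    fin_cases j
    · simp [Φ, loX, add_mul]
    · simp [Φ, loX, add_mul, ← mul_assoc, hz']
  set S := Subgroup.closure ({(z, upX (p := p)),
    (z', loX (p := p))} : Set (X × SL(2, (ZMod p)[X]))) with hS
  have hSle : S ≤ frameGroup ρ φ Φ := by
    rw [hS, Subgroup.closure_le]
    rintro x (rfl | rfl)
    exacts [hzF, hz'F]
  set G0 := Subgroup.closure ({z, z'} : Set X) with hG0
  have hfst : S.map (MonoidHom.fst X _) = G0 := by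
    rw [hS, MonoidHom.map_closure, Set.image_pair]
    rfl
  let f : S →* G0 := ((MonoidHom.fst X _).comp S.subtype).codRestrict G0 fun x =>
    hfst ▸ ⟨x.1, x.2, rfl⟩
  have hf : Function.Surjective f := by
    rintro ⟨y, hy⟩
    rw [← hfst] at hy
    obtain ⟨x, hx, rfl⟩ := hy
    exact ⟨⟨x, hx⟩, rfl⟩
  let r : S →* SL(2, K) := ((Matrix.SpecialLinearGroup.map π).comp
    (MonoidHom.snd X _)).comp S.subtype
  have hker : f.ker ≤ r.ker := by
    rintro ⟨⟨g, M⟩, hgM⟩ hg
    have hg1 : g = 1 := congrArg Subtype.val (MonoidHom.mem_ker.1 hg)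
    subst hg1
    have e0 := hSle hgM 0
    have e1 := hSle hgM 1
    simp [Φ, Fin.sum_univ_two] at e0 e1
    have k10 : P * φ (M.1 1 0) = 0 := by
      have h := congrArg (fun A => Z * A) e0
      simp only [mul_add, ← mul_assoc, hZP, zero_mul, zero_add] at h
      have h2 : Z * Z' * P = C * P := by
        rw [hCdef, add_mul, mul_assoc Z' Z P, hZP, mul_zero, add_zero]
      rw [h2] at h
      exact hcancel _ h.symm
    have k11 : P * (φ (M.1 1 1) - 1) = 0 := by
      have h := congrArg (fun A => Z * A) e1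
      simp only [mul_add, ← mul_assoc, hZP, zero_mul, zero_add] at h
      have h2 : Z * Z' * P = C * P := by
        rw [hCdef, add_mul, mul_assoc Z' Z P, hZP, mul_zero, add_zero]
      rw [h2] at h
      refine hcancel _ ?_
      rw [mul_sub, mul_one, ← h, sub_self]
    have k00 : P * (φ (M.1 0 0) - 1) = 0 := by
      rw [mul_sub, mul_one]
      rw [mul_assoc Z' P, k10, mul_zero, add_zero] at e0
      rw [← e0, sub_self]
    have k01 : P * φ (M.1 0 1) = 0 := by
      have : Z' * P * φ (M.1 1 1) = Z' * P := by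
        rw [mul_sub, mul_one, sub_eq_zero] at k11
        rw [mul_assoc, k11]
      rw [this] at e1
      exact add_eq_right.1 e1.symm
    refine MonoidHom.mem_ker.2 (Matrix.SpecialLinearGroup.ext _ _ fun i j => ?_)
    show π (M.1 i j) = (1 : Matrix (Fin 2) (Fin 2) K) i j
    fin_cases i <;> fin_cases j
    · show π (M.1 0 0) = 1
      rw [← map_one π, ← sub_eq_zero, ← map_sub]
      exact hπI _ ((hI _).2 (by rw [hφP, map_sub, map_one, k00]))
    · show π (M.1 0 1) = 0
      exact hπI _ ((hI _).2 (by rw [hφP, k01]))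
    · show π (M.1 1 0) = 0
      exact hπI _ ((hI _).2 (by rw [hφP, k10]))
    · show π (M.1 1 1) = 1
      rw [← map_one π, ← sub_eq_zero, ← map_sub]
      exact hπI _ ((hI _).2 (by rw [hφP, map_sub, map_one, k11]))
  let ψ : G0 →* SL(2, K) := f.liftOfSurjective hf ⟨r, hker⟩
  have hψ : ∀ x : S, ψ (f x) = r x := fun x => f.liftOfRightInverse_comp_apply _ (Function.rightInverse_surjInv hf) ⟨r, hker⟩ x
  have hψz : ψ ⟨z, Subgroup.subset_closure (Or.inl rfl)⟩ = upSL t := by
    refine (hψ ⟨_, Subgroup.subset_closure (Or.inl rfl)⟩).trans ?_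
    refine Matrix.SpecialLinearGroup.ext _ _ fun i j => ?_
    show π ((upX (p := p)).1 i j) = _
    fin_cases i <;> fin_cases j <;> simp [upX, coe_upSL, ht]
  have hψz' : ψ ⟨z', Subgroup.subset_closure (Or.inr rfl)⟩ = loOne := by
    refine (hψ ⟨_, Subgroup.subset_closure (Or.inr rfl)⟩).trans ?_
    refine Matrix.SpecialLinearGroup.ext _ _ fun i j => ?_
    show π ((loX (p := p)).1 i j) = _
    fin_cases i <;> fin_cases j <;> simp [loX, coe_loOne]
  refine ⟨K, iF, iFin, iC, t, ψ, ?_, ht0, hψz, hψz'⟩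
  letI : Fintype K := Fintype.ofFinite K
  have h2 : (2 : K) ≠ 0 := by
    intro h
    have h2' : ((2 : ℕ) : K) = 0 := by exact_mod_cast h
    rw [CharP.cast_eq_zero_iff K p] at h2'
    exact absurd (Nat.le_of_dvd two_pos h2') (by omega)
  have hrange : Subgroup.closure ({loOne, upSL t} : Set SL(2, K)) ≤ ψ.range := by
    rw [Subgroup.closure_le]
    rintro x (rfl | rfl)
    exacts [⟨_, hψz'⟩, ⟨_, hψz⟩]
  rcases transvections_generate p h2 ht0 hgen with ⟨htop, -⟩ | ⟨h9, -, -⟩
  · exact MonoidHom.range_eq_top.1 (top_le_iff.1 (htop ▸ hrange))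
  · exfalso
    have := FiniteField.card K p
    obtain ⟨k, -, hk⟩ := this
    rw [h9] at hk
    have h3 : p ∣ 3 ^ 2 := by
      rw [show (3 : ℕ) ^ 2 = 9 from rfl, hk]
      exact dvd_pow_self p k.pos.ne'
    have := (Nat.prime_dvd_prime_iff_eq hp.out Nat.prime_three).1 (hp.out.dvd_of_dvd_pow h3)
    omega

end CfsgLib.MaxClassEssential
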