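import Cfsg.Agent.MaxClassEssential.Reduction

/-!
# The eigen-frame of an abelian Sylow subgroup with a regular element

For an abelian Sylow subgroup `T = ⟨x⟩ × ⟨y⟩` of order `p²` with `x` regular and without quadratic
elements, averaging over `N(T)` gives a regular nilpotent `A` which generates the same flag and is an
eigenvector for the conjugation by every element `n` of `N(T)`, with eigenvalue `μ`; the layers of the
flag have weights `μ ^ (j + 1 + i)` where `j` is the degree of `y`.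
-/

set_option autoImplicit false
set_option linter.style.haveILetI false
set_option linter.unusedSimpArgs false
set_option maxHeartbeats 800000

namespace CfsgLib.MaxClassEssential

open Polynomial

section Regular

variable {F : Type*} [Field F] {V : Type*} [AddCommGroup V] [Module F V] {N : Module.End F V}
  {d : ℕ}

/-- The leading coefficient of a multiple of `N ^ q` is determined, for `q < d`. -/
theorem IsRegNil.coeff_unique (h : IsRegNil N d) {q : ℕ} (hq : q < d) {f g : F[X]}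
    (he : Polynomial.aeval N (Polynomial.X ^ q * f) = Polynomial.aeval N (Polynomial.X ^ q * g)) :
    f.coeff 0 = g.coeff 0 := by
  by_contra hne
  have h1 : N ^ q * Polynomial.aeval N (f - g) = 0 := by
    have h2 : Polynomial.aeval N (Polynomial.X ^ q * (f - g)) = 0 := by
      rw [mul_sub, map_sub, he, sub_self]
    rwa [map_mul, map_pow, Polynomial.aeval_X] at h2
  exact absurd (h.pow_mul_aeval_eq_zero (by rwa [Polynomial.coeff_sub, sub_ne_zero]) h1)
    (not_le.2 hq)

/-- The basis given by the powers of a regular nilpotent on a cyclic vector. -/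
theorem IsRegNil.exists_basis (h : IsRegNil N d) :
    ∃ (v₀ : V) (b : Module.Basis (Fin d) F V), (∀ i, b i = (N ^ (i : ℕ)) v₀) ∧
      ∀ (i : ℕ) (v : V), v ∈ LinearMap.range (N ^ i) ↔ ∀ k : Fin d, (k : ℕ) < i → b.repr v k = 0 := by
  classical
  obtain ⟨v₀, hv₀⟩ := h.cyclic
  have hlin : LinearIndependent F fun i : Fin d => (N ^ (i : ℕ)) v₀ := by
    rw [Fintype.linearIndependent_iff]
    intro c hc i
    set f : F[X] := ∑ k : Fin d, Polynomial.monomial (k : ℕ) (c k) with hf
    have hfv : Polynomial.aeval N f v₀ = 0 := by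
      rw [hf, map_sum, LinearMap.sum_apply, ← hc]
      refine Finset.sum_congr rfl fun k _ => ?_
      rw [Polynomial.aeval_monomial, Module.End.mul_apply, Module.algebraMap_end_apply]
    have hf0 : Polynomial.aeval N f = 0 := LinearMap.ext fun v => by
      obtain ⟨g, rfl⟩ := hv₀ v
      rw [aeval_apply_comm, hfv, map_zero]
      rfl
    have hcoef : ∀ k : Fin d, f.coeff k = c k := fun k => by
      rw [hf, Polynomial.finsetSum_coeff, Finset.sum_eq_single k]
      · rw [Polynomial.coeff_monomial, if_pos rfl]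
      · intro b _ hb
        rw [Polynomial.coeff_monomial, if_neg fun e => hb (Fin.ext e)]
      · simp
    suffices hz : f = 0 by rw [← hcoef i, hz, Polynomial.coeff_zero]
    by_contra hne
    have hdeg : f.natDegree < d := by
      refine lt_of_le_of_lt (Polynomial.natDegree_sum_le_of_forall_le (n := d - 1) _ _ fun k _ => ?_)
        (by have := h.pos; omega)
      exact (Polynomial.natDegree_monomial_le _).trans (by have := k.2; omega)
    obtain ⟨g, hg, hnd⟩ := f.exists_eq_pow_rootMultiplicity_mul_and_not_dvd hne 0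
    rw [map_zero, sub_zero] at hg hnd
    set q := f.rootMultiplicity 0
    have hg0 : g.coeff 0 ≠ 0 := fun e => hnd (Polynomial.X_dvd_iff.2 e)
    have hqd : q < d := by
      have h1 : f.coeff q ≠ 0 := by
        rw [hg, Polynomial.coeff_X_pow_mul', if_pos le_rfl, Nat.sub_self]; exact hg0
      exact (Polynomial.le_natDegree_of_ne_zero h1).trans_lt hdeg
    rw [hg, map_mul, map_pow, Polynomial.aeval_X] at hf0
    exact absurd (h.pow_mul_aeval_eq_zero hg0 hf0) (not_le.2 hqd)
  have hspan : ⊤ ≤ Submodule.span F (Set.range fun i : Fin d => (N ^ (i : ℕ)) v₀) := by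
    intro v _
    obtain ⟨f, rfl⟩ := hv₀ v
    induction f using Polynomial.induction_on' with
    | add u w hu hw => rw [map_add, LinearMap.add_apply]; exact add_mem (hu trivial) (hw trivial)
    | monomial i a =>
      rw [Polynomial.aeval_monomial, Module.End.mul_apply, Module.algebraMap_end_apply]
      rcases lt_or_ge i d with hi | hi
      · exact Submodule.smul_mem _ _ (Submodule.subset_span ⟨⟨i, hi⟩, rfl⟩)
      · rw [h.pow_eq_zero_iff.2 hi, LinearMap.zero_apply, smul_zero]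
        exact Submodule.zero_mem _
  set b := Module.Basis.mk hlin hspan with hb
  have hbi : ∀ i, b i = (N ^ (i : ℕ)) v₀ := fun i => Module.Basis.mk_apply hlin hspan i
  refine ⟨v₀, b, hbi, fun i v => ⟨?_, fun hv => ?_⟩⟩
  · rintro ⟨w, rfl⟩ k hk
    conv_lhs => rw [← b.sum_repr w]
    rw [map_sum, map_sum, Finsupp.finsetSum_apply]
    refine Finset.sum_eq_zero fun l _ => ?_
    rw [map_smul, map_smul, Finsupp.smul_apply, hbi, ← Module.End.mul_apply, ← pow_add]
    rcases lt_or_ge (i + (l : ℕ)) d with hl | hl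
    · rw [← hbi ⟨i + l, hl⟩, b.repr_self, Finsupp.single_apply, if_neg, smul_zero]
      intro e
      rw [← e] at hk
      simp at hk
    · rw [h.pow_eq_zero_iff.2 hl, LinearMap.zero_apply, map_zero, Finsupp.zero_apply, smul_zero]
  · rw [← b.sum_repr v]
    refine sum_mem fun l _ => ?_
    rcases lt_or_ge (l : ℕ) i with hl | hl
    · rw [hv l hl, zero_smul]
      exact Submodule.zero_mem _
    · refine Submodule.smul_mem _ _ ⟨(N ^ ((l : ℕ) - i)) v₀, ?_⟩
      rw [hbi, ← Module.End.mul_apply, ← pow_add, Nat.add_sub_cancel' hl]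

end Regular

variable {p : ℕ} [hp : Fact p.Prime] {X : Type*} [Group X] [Finite X] {V : Type*}
  [AddCommGroup V] [Module (ZMod p) V] [Finite V] (ρ : X →* Module.End (ZMod p) V)

/-- The eigen-frame. -/
structure WeightFrame (T : Sylow p X) (x y : X) (A : Module.End (ZMod p) V) (d j : ℕ) : Prop where
  reg : IsRegNil A d
  two_le : 2 ≤ j
  two_mul_lt : 2 * j < d
  d_lt : d < p
  mem_x : x ∈ (T : Subgroup X)
  mem_y : y ∈ (T : Subgroup X)
  comm : ∀ s ∈ (T : Subgroup X), ∀ t ∈ (T : Subgroup X), s * t = t * s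
  bij : Function.Bijective fun ab : Fin p × Fin p =>
    (⟨x ^ (ab.1 : ℕ) * y ^ (ab.2 : ℕ), mul_mem (pow_mem mem_x _) (pow_mem mem_y _)⟩ :
      (T : Subgroup X))
  commA : ∀ t ∈ (T : Subgroup X), ρ t * A = A * ρ t
  unitx : ∃ U, IsUnit U ∧ A * U = U * A ∧ ρ x - 1 = A * U
  unity : ∃ U, IsUnit U ∧ A * U = U * A ∧ ρ y - 1 = A ^ j * U
  weight : ∀ n ∈ Subgroup.normalizer ((T : Subgroup X) : Set X), ∃ μ : ZMod p, μ ≠ 0 ∧
    ρ n * A = μ • (A * ρ n) ∧
    (∀ i, ∀ v ∈ LinearMap.range (A ^ i), ρ n v - μ ^ (j + 1 + i) • v ∈ LinearMap.range (A ^ (i + 1))) ∧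
    (n * y = y * n → μ ^ j = 1)

omit [Finite X] [Finite V] in
theorem conj_aeval (g : X) (N : Module.End (ZMod p) V) (f : (ZMod p)[X]) :
    ρ g * Polynomial.aeval N f * ρ g⁻¹ = Polynomial.aeval (ρ g * N * ρ g⁻¹) f := by
  have hinv : ρ g⁻¹ * ρ g = 1 := by rw [← map_mul, inv_mul_cancel, map_one]
  induction f using Polynomial.induction_on' with
  | add u v hu hv => rw [map_add, map_add, mul_add, add_mul, hu, hv]
  | monomial i a =>
    have hi : ρ g * N ^ i = (ρ g * N * ρ g⁻¹) ^ i * ρ g :=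
      (show SemiconjBy (ρ g) N (ρ g * N * ρ g⁻¹) from by
        show ρ g * N = ρ g * N * ρ g⁻¹ * ρ g
        rw [mul_assoc _ (ρ g⁻¹), hinv, mul_one]).pow_right i
    rw [Polynomial.aeval_monomial, Polynomial.aeval_monomial, ← mul_assoc, ← Algebra.commutes,
      mul_assoc (algebraMap _ _ a), hi, mul_assoc, mul_assoc, ← map_mul, mul_inv_cancel, map_one,
      mul_one]

omit [Finite X] [Finite V] in
theorem map_conj_sub_one (g t : X) : ρ (g * t * g⁻¹) - 1 = ρ g * (ρ t - 1) * ρ g⁻¹ := by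
  rw [mul_sub, sub_mul, mul_one, ← map_mul, ← map_mul, ← map_mul, mul_inv_cancel, map_one]

theorem exists_weightFrame (hinj : Function.Injective ρ) (T : Sylow p X) {x : X}
    (hx : x ∈ (T : Subgroup X)) {d : ℕ} (hreg : IsRegNil (ρ x - 1) d) (hdp : d < p)
    (hcomm : ∀ s ∈ (T : Subgroup X), ∀ t ∈ (T : Subgroup X), s * t = t * s)
    (hcard : Nat.card (T : Subgroup X) = p ^ 2)
    (hnq : ∀ z ∈ (T : Subgroup X), z ≠ 1 → (ρ z - 1) * (ρ z - 1) ≠ 0)
    (hW : ∀ n ∈ Subgroup.normalizer ((T : Subgroup X) : Set X), ∀ y ∈ (T : Subgroup X), y ≠ 1 →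
      (∀ v, (ρ y - 1) v ∈ LinearMap.range ((ρ x - 1) ^ 2)) →
      ∀ a b c : ℕ, n * x * n⁻¹ = x ^ a * y ^ b → n * y * n⁻¹ = y ^ c →
        ∀ v, ρ n v - ((a * c : ℕ) : ZMod p) • v ∈ LinearMap.range (ρ x - 1)) :
    ∃ (y : X) (A : Module.End (ZMod p) V) (j : ℕ), WeightFrame ρ T x y A d j := by
  classical
  set N := ρ x - 1 with hN
  have hel : ∀ t ∈ (T : Subgroup X), ∃ e, t ^ p ^ e = 1 := fun t ht => by
    obtain ⟨e, he⟩ := T.isPGroup' ⟨t, ht⟩
    exact ⟨e, by simpa using congrArg Subtype.val he⟩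
  have hcommN : ∀ t ∈ (T : Subgroup X), (ρ t - 1) * N = N * (ρ t - 1) := fun t ht => by
    have h : Commute (ρ t) (ρ x) := by
      show _ = _
      rw [← map_mul, ← map_mul, hcomm t ht x hx]
    exact ((h.sub_right (Commute.one_right _)).sub_left (Commute.one_left _)).eq
  -- every element of `T` is `1 + N g(N)`
  have hform : ∀ t ∈ (T : Subgroup X), ∃ g : (ZMod p)[X],
      ρ t - 1 = Polynomial.aeval N (Polynomial.X ^ 1 * g) := by
    intro t ht
    by_cases h1 : t = 1
    · exact ⟨0, by rw [h1, map_one, sub_self, mul_zero, map_zero]⟩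
    obtain ⟨e, he⟩ := hel t ht
    obtain ⟨q, g, hq0, -, -, hg⟩ := normal_form_of_pElement ρ hinj hreg h1 he (hcommN t ht)
    refine ⟨Polynomial.X ^ (q - 1) * g, ?_⟩
    rw [hg, ← mul_assoc, ← pow_add, show 1 + (q - 1) = q by omega]
  choose cg hcg using hform
  -- `T` has exponent `p`
  have hexp : ∀ t ∈ (T : Subgroup X), t ^ p = 1 := fun t ht => by
    have h1 : (ρ t - 1) ^ p = 0 := by
      rw [hcg t ht, ← map_pow, mul_pow, map_mul, ← pow_mul, one_mul, map_pow, Polynomial.aeval_X,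
        hreg.pow_eq_zero_iff.2 hdp.le, zero_mul]
    have := pow_eq_one_of_sub_one_pow ρ hinj (g := t) (e := 1) (by rwa [pow_one])
    rwa [pow_one] at this
  have hd1 : 1 < d := by
    by_contra hle
    have hN0 : N = 0 := by simpa using hreg.pow_eq_zero_iff (i := 1) |>.2 (not_lt.1 hle)
    have : ∀ t ∈ (T : Subgroup X), t = 1 := fun t ht => hinj (by
      rw [map_one, ← sub_eq_zero, hcg t ht, map_mul, pow_one, Polynomial.aeval_X, hN0, zero_mul])
    have hbot : (T : Subgroup X) = ⊥ := (Subgroup.eq_bot_iff_forall _).2 this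
    rw [hbot, Subgroup.card_bot] at hcard
    exact absurd hcard.symm (Nat.one_lt_pow two_ne_zero hp.out.one_lt).ne'
  -- the element `y`
  obtain ⟨t, t', hne, heq⟩ : ∃ t t' : (T : Subgroup X), t ≠ t' ∧
      (cg t t.2).coeff 0 = (cg t' t'.2).coeff 0 := by
    by_contra h
    push Not at h
    have hle := Nat.card_le_card_of_injective
      (fun t : (T : Subgroup X) => (cg t t.2).coeff 0) (fun s t hst => by
        by_contra hne
        exact h s t hne hst)
    rw [hcard, Nat.card_zmod] at hle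
    exact absurd hle (not_le.2 (lt_self_pow₀ hp.out.one_lt one_lt_two))
  set y : X := (t : X)⁻¹ * t' with hy
  have hyT : y ∈ (T : Subgroup X) := mul_mem (inv_mem t.2) t'.2
  have hy1 : y ≠ 1 := fun h => hne (Subtype.ext (inv_mul_eq_one.1 h))
  obtain ⟨ey, hey⟩ := hel y hyT
  obtain ⟨j, gy, hj0, hjd, hgy, hρy⟩ :=
    normal_form_of_pElement ρ hinj hreg hy1 hey (hcommN y hyT)
  have hj1 : j ≠ 1 := by
    rintro rfl
    have h1 : ρ (t' : X) - 1 = (ρ (t : X) - 1) + ρ (t : X) * (ρ y - 1) := by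
      rw [mul_sub, mul_one, ← map_mul, hy, mul_inv_cancel_left]
      abel
    rw [show ρ (t : X) = 1 + (ρ (t : X) - 1) by abel, hcg _ t'.2] at h1
    simp only [add_sub_cancel_left, hcg _ t.2, hρy] at h1
    rw [← map_one (Polynomial.aeval (R := ZMod p) N), ← map_add, ← map_mul, ← map_add,
      show Polynomial.X ^ 1 * cg _ t.2 + (1 + Polynomial.X ^ 1 * cg _ t.2) * (Polynomial.X ^ 1 * gy) =
        Polynomial.X ^ 1 * (cg _ t.2 + (1 + Polynomial.X ^ 1 * cg _ t.2) * gy) by ring] at h1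
    have h2 := hreg.coeff_unique hd1 h1
    rw [Polynomial.coeff_add, Polynomial.mul_coeff_zero, Polynomial.coeff_add,
      Polynomial.mul_coeff_zero (Polynomial.X ^ 1), ← heq] at h2
    simp [hgy] at h2
  have hj2 : 2 * j < d := by
    by_contra hle
    refine hnq y hyT hy1 ?_
    rw [hρy, ← map_mul, show Polynomial.X ^ j * gy * (Polynomial.X ^ j * gy) =
      Polynomial.X ^ (2 * j) * (gy * gy) by ring, map_mul, map_pow, Polynomial.aeval_X,
      hreg.pow_eq_zero_iff.2 (not_lt.1 hle), zero_mul]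
  -- exponents of `x` and `y` as coefficients
  have hprod : ∀ a b : ℕ, ∃ S : (ZMod p)[X],
      ρ (x ^ a * y ^ b) - 1 = Polynomial.aeval N (Polynomial.X ^ 1 * S) ∧ S.coeff 0 = a := by
    intro a b
    obtain ⟨S, hS, hS0⟩ := exists_one_add_pow (Polynomial.X : (ZMod p)[X]) Polynomial.coeff_X_zero a
    obtain ⟨R, hR, -⟩ := exists_one_add_pow (Polynomial.X ^ j * gy) (by
      rw [Polynomial.mul_coeff_zero, Polynomial.coeff_X_pow, if_neg (by omega), zero_mul]) b
    refine ⟨S + (1 + Polynomial.X * S) * (Polynomial.X ^ (j - 1) * gy * R), ?_, ?_⟩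
    · have h1 : ρ x = Polynomial.aeval N (1 + Polynomial.X : (ZMod p)[X]) := by
        rw [map_add, map_one, Polynomial.aeval_X, hN]; abel
      have h2 : ρ y = Polynomial.aeval N (1 + Polynomial.X ^ j * gy) := by
        rw [map_add, map_one, ← hρy]; abel
      rw [map_mul ρ, map_pow ρ, map_pow ρ, h1, h2, ← map_pow, ← map_pow, ← map_mul,
        ← map_one (Polynomial.aeval (R := ZMod p) N), ← map_sub, hS, hR]
      congr 1
      obtain ⟨i, rfl⟩ : ∃ i, j = i + 1 := ⟨j - 1, by omega⟩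
      rw [Nat.add_sub_cancel]
      ring
    · rw [Polynomial.coeff_add, Polynomial.mul_coeff_zero, Polynomial.mul_coeff_zero
        (Polynomial.X ^ (j - 1) * gy), Polynomial.mul_coeff_zero, Polynomial.coeff_X_pow,
        if_neg (by omega)]
      simp [hS0]
  have hyo : orderOf y = p := orderOf_eq_prime (hexp y hyT) hy1
  have hbij : Function.Bijective fun ab : Fin p × Fin p =>
      (⟨x ^ (ab.1 : ℕ) * y ^ (ab.2 : ℕ), mul_mem (pow_mem hx _) (pow_mem hyT _)⟩ :
        (T : Subgroup X)) := by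
    refine Function.Injective.bijective_of_nat_card_le ?_ (by
      rw [Nat.card_prod, Nat.card_fin, hcard, pow_two])
    rintro ⟨a, b⟩ ⟨a', b'⟩ h
    have h0 : x ^ (a : ℕ) * y ^ (b : ℕ) = x ^ (a' : ℕ) * y ^ (b' : ℕ) := congrArg Subtype.val h
    obtain ⟨S, hS, hS0⟩ := hprod a b
    obtain ⟨S', hS', hS0'⟩ := hprod a' b'
    rw [h0, hS'] at hS
    have h2 := hreg.coeff_unique hd1 hS
    rw [hS0, hS0', ZMod.natCast_eq_natCast_iff'] at h2
    rw [Nat.mod_eq_of_lt a.2, Nat.mod_eq_of_lt a'.2] at h2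
    have haa : a = a' := Fin.ext h2.symm
    subst haa
    have h3 := mul_left_cancel h0
    rw [pow_eq_pow_iff_modEq, hyo, Nat.ModEq, Nat.mod_eq_of_lt b.2, Nat.mod_eq_of_lt b'.2] at h3
    rw [Fin.ext h3]
  -- the conjugates of `N`
  set NT := Subgroup.normalizer ((T : Subgroup X) : Set X) with hNT
  have hconjT : ∀ n ∈ NT, ∀ t ∈ (T : Subgroup X), n * t * n⁻¹ ∈ (T : Subgroup X) := fun n hn t ht =>
    (Subgroup.mem_normalizer_iff.1 hn t).1 ht
  have hconjN : ∀ n : X, ρ n * N * ρ n⁻¹ = ρ (n * x * n⁻¹) - 1 := fun n =>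
    (map_conj_sub_one ρ n x).symm
  have hex : ∀ n : NT, ∃ g : (ZMod p)[X], g.coeff 0 ≠ 0 ∧
      ρ (n : X) * N * ρ (n : X)⁻¹ = Polynomial.aeval N (Polynomial.X ^ 1 * g) := by
    intro n
    refine ⟨cg _ (hconjT n n.2 x hx), fun h0 => ?_, (hconjN n).trans (hcg _ _)⟩
    have h1 : (ρ (n : X) * N * ρ (n : X)⁻¹) ^ (d - 1) = 0 := by
      obtain ⟨g', hg'⟩ := (Polynomial.X_dvd_iff).2 h0
      rw [hconjN, hcg _ (hconjT n n.2 x hx), hg', ← map_pow, ← mul_assoc, ← pow_succ,
        mul_pow, map_mul, ← pow_mul, map_pow, Polynomial.aeval_X,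
        hreg.pow_eq_zero_iff.2 (by omega), zero_mul]
    have h2 : ρ (n : X) * N ^ (d - 1) * ρ (n : X)⁻¹ = 0 := by
      have h3 := conj_aeval ρ (n : X) N (Polynomial.X ^ (d - 1))
      rwa [map_pow, map_pow, Polynomial.aeval_X, Polynomial.aeval_X, h1] at h3
    rw [((Group.isUnit (n : X)⁻¹).map ρ).mul_left_eq_zero,
      ((Group.isUnit (n : X)).map ρ).mul_right_eq_zero] at h2
    exact hreg.pow_pred_ne h2
  choose G hG0 hG using hex
  set μ : NT → ZMod p := fun n => (G n).coeff 0 with hμ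
  have hμu : ∀ (n : NT) (g : (ZMod p)[X]),
      ρ (n : X) * N * ρ (n : X)⁻¹ = Polynomial.aeval N (Polynomial.X ^ 1 * g) → μ n = g.coeff 0 :=
    fun n g hg => hreg.coeff_unique hd1 (by rw [← hG n, hg])
  have hmulμ : ∀ n m : NT, μ (n * m) = μ n * μ m := by
    intro n m
    have h1 : ρ ((n * m : NT) : X) * N * ρ ((n * m : NT) : X)⁻¹ =
        ρ (n : X) * (ρ (m : X) * N * ρ (m : X)⁻¹) * ρ (n : X)⁻¹ := by
      rw [Subgroup.coe_mul, mul_inv_rev, map_mul, map_mul]
      simp only [mul_assoc]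
    rw [hG m, conj_aeval, hG n, ← Polynomial.aeval_comp] at h1
    refine (hμu _ (G n * (G m).comp (Polynomial.X ^ 1 * G n)) (h1.trans (congrArg _ ?_))).trans ?_
    · rw [Polynomial.mul_comp, Polynomial.X_pow_comp, pow_one, pow_one]
      ring
    · rw [Polynomial.mul_coeff_zero, Polynomial.coeff_zero_eq_eval_zero ((G m).comp _),
        Polynomial.eval_comp]
      simp [hμ, Polynomial.coeff_zero_eq_eval_zero]
  set T' := (T : Subgroup X).subgroupOf NT with hT'
  letI : Fintype (NT ⧸ T') := Fintype.ofFinite _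
  have hsame : ∀ (n : NT) (s : T'), ρ ((n * s : NT) : X) * N * ρ ((n * s : NT) : X)⁻¹ =
      ρ (n : X) * N * ρ (n : X)⁻¹ := by
    intro n s
    have hs : ((s : NT) : X) ∈ (T : Subgroup X) := s.2
    rw [hconjN, hconjN, Subgroup.coe_mul]
    congr 2
    rw [mul_inv_rev, mul_assoc (n : X), mul_assoc (n : X),
      show ((s : NT) : X) * x * (((s : NT) : X)⁻¹ * (n : X)⁻¹) = x * (n : X)⁻¹ by
        rw [hcomm _ hs x hx]; simp [mul_assoc], ← mul_assoc]
  have hμsame : ∀ (n : NT) (s : T'), μ (n * s) = μ n := fun n s =>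
    hμu _ _ ((hsame n s).trans (hG n))
  set m : ZMod p := (Fintype.card (NT ⧸ T') : ZMod p) with hm
  have hm0 : m ≠ 0 := by
    rw [hm, ne_eq, CharP.cast_eq_zero_iff (ZMod p) p, ← Nat.card_eq_fintype_card]
    exact fun h => T.not_dvd_index
      (h.trans (Subgroup.relIndex_dvd_index_of_le Subgroup.le_normalizer))
  set Apoly : (ZMod p)[X] := ∑ c : NT ⧸ T',
    Polynomial.C (m⁻¹ * (μ (Quotient.out c))⁻¹) * G (Quotient.out c) with hAp
  set A := Polynomial.aeval N (Polynomial.X ^ 1 * Apoly) with hA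
  have hAsum : A = ∑ c : NT ⧸ T', (m⁻¹ * (μ (Quotient.out c))⁻¹) •
      (ρ ((Quotient.out c : NT) : X) * N * ρ ((Quotient.out c : NT) : X)⁻¹) := by
    rw [hA, hAp, Finset.mul_sum, map_sum]
    refine Finset.sum_congr rfl fun c _ => ?_
    rw [hG, ← map_smul, Polynomial.smul_eq_C_mul]
    congr 1
    ring
  have hA0 : Apoly.coeff 0 = 1 := by
    rw [hAp, Polynomial.finsetSum_coeff]
    simp only [Polynomial.coeff_C_mul]
    refine (Finset.sum_congr rfl (g := fun _ => m⁻¹) fun c _ => ?_).trans ?_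
    · show m⁻¹ * ((G (Quotient.out c)).coeff 0)⁻¹ * _ = _
      rw [mul_assoc, inv_mul_cancel₀ (hG0 (Quotient.out c)), mul_one]
    · rw [Finset.sum_const, Finset.card_univ, nsmul_eq_mul, ← hm, mul_inv_cancel₀ hm0]
  have hAU : A = N * Polynomial.aeval N Apoly := by
    rw [hA, map_mul, pow_one, Polynomial.aeval_X]
  have hU := hreg.isUnit_aeval (g := Apoly) (by rw [hA0]; exact one_ne_zero)
  have hUc : Commute (Polynomial.aeval N Apoly) N := by
    show _ * _ = _ * _
    have := congrArg (Polynomial.aeval (R := ZMod p) N) (mul_comm Apoly Polynomial.X)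
    rwa [map_mul, map_mul, Polynomial.aeval_X] at this
  obtain ⟨W, hWu, hNW, hAW⟩ : ∃ W, IsUnit W ∧ N = A * W ∧ A * W = W * A := by
    obtain ⟨u, hu⟩ := hU
    have hc1 : Commute (↑u⁻¹ : Module.End (ZMod p) V) N := Commute.units_inv_left (by rw [hu]; exact hUc)
    refine ⟨↑u⁻¹, ⟨u⁻¹, rfl⟩, ?_, ?_⟩
    · rw [hAU, ← hu, mul_assoc, Units.mul_inv, mul_one]
    · rw [hAU, ← hu, mul_assoc, Units.mul_inv, mul_one, ← mul_assoc, hc1.eq, mul_assoc,
        Units.inv_mul, mul_one]
  have hrange : ∀ i, LinearMap.range (A ^ i) = LinearMap.range (N ^ i) := by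
    intro i
    rw [hNW, (show Commute A W from hAW).mul_pow, Module.End.mul_eq_comp,
      LinearMap.range_comp_of_range_eq_top]
    rw [LinearMap.range_eq_top]
    exact ((Module.End.isUnit_iff _).1 (hWu.pow i)).2
  have hregA : IsRegNil A d := by
    refine ⟨?_, ?_, ?_⟩
    · rw [hAU, hUc.symm.mul_pow, hreg.pow_eq_zero, zero_mul]
    · rw [hAU, hUc.symm.mul_pow]
      intro h
      exact hreg.pow_pred_ne ((hU.pow _).mul_left_eq_zero.1 h)
    · haveI : Module.Finite (ZMod p) V := Module.Finite.of_finite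
      have hpow : A ^ (d - 1) ≠ 0 := by
        rw [hAU, hUc.symm.mul_pow]
        intro h
        exact hreg.pow_pred_ne ((hU.pow _).mul_left_eq_zero.1 h)
      have hfr : Module.finrank (ZMod p) V = d := by
        obtain ⟨v₀, b, -⟩ := hreg.exists_basis
        rw [Module.finrank_eq_card_basis b, Fintype.card_fin]
      exact (isRegNil_of_pow_ne ⟨d, by rw [hAU, hUc.symm.mul_pow, hreg.pow_eq_zero, zero_mul]⟩
        hfr hpow).cyclic
  have hcommA : ∀ t ∈ (T : Subgroup X), ρ t * A = A * ρ t := fun t ht => by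
    rw [show ρ t = Polynomial.aeval N (1 + Polynomial.X ^ 1 * cg t ht) by
      rw [map_add, map_one, ← hcg t ht]; abel, hA, ← map_mul, ← map_mul, mul_comm]
  refine ⟨y, A, j, hregA, by omega, hj2, hdp, hx, hyT, hcomm, hbij, hcommA, ⟨W, hWu, hAW, hNW⟩,
    ⟨W ^ j * Polynomial.aeval N gy, (hWu.pow j).mul (hreg.isUnit_aeval hgy), ?_, ?_⟩, ?_⟩
  · have h1 : Commute A (Polynomial.aeval N gy) := by
      show _ = _
      rw [hA, ← map_mul, ← map_mul, mul_comm]
    exact (((show Commute A W from hAW).pow_right j).mul_right h1).eq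
  · rw [hρy, map_mul, map_pow, Polynomial.aeval_X, hNW, (show Commute A W from hAW).mul_pow,
      mul_assoc]
  intro n hn
  set n' : NT := ⟨n, hn⟩ with hn'
  have hA1 : ρ n * A = μ n' • (A * ρ n) := by
    have hconjA : ρ n * A * ρ n⁻¹ = μ n' • A := by
      conv_lhs => rw [hAsum]
      rw [Finset.mul_sum, Finset.sum_mul, hAsum, Finset.smul_sum]
      refine Fintype.sum_equiv (MulAction.toPerm n') _ _ fun c => ?_
      induction c using QuotientGroup.induction_on with
      | H a =>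
        rw [MulAction.toPerm_apply, MulAction.Quotient.smul_coe, smul_eq_mul]
        obtain ⟨s, hs⟩ := QuotientGroup.mk_out_eq_mul T' a
        obtain ⟨s', hs'⟩ := QuotientGroup.mk_out_eq_mul T' (n' * a)
        rw [hs, hs', hμsame, hμsame, hsame, hsame, hmulμ, mul_smul_comm, smul_mul_assoc, smul_smul]
        congr 1
        · have h0 : μ n' ≠ 0 := hG0 n'
          rw [mul_inv]
          field_simp
        · rw [Subgroup.coe_mul, mul_inv_rev, map_mul, map_mul]
          simp only [mul_assoc, hn']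
    calc ρ n * A = ρ n * A * ρ n⁻¹ * ρ n := by
          rw [mul_assoc _ (ρ n⁻¹), ← map_mul, inv_mul_cancel, map_one, mul_one]
      _ = μ n' • (A * ρ n) := by rw [hconjA, smul_mul_assoc]
  refine ⟨μ n', hG0 n', hA1, ?_, ?_⟩
  all_goals
    obtain ⟨⟨ab, hab⟩, cb, hcb⟩ : (∃ ab : Fin p × Fin p,
        n * x * n⁻¹ = x ^ (ab.1 : ℕ) * y ^ (ab.2 : ℕ)) ∧
        ∃ ab : Fin p × Fin p, n * y * n⁻¹ = x ^ (ab.1 : ℕ) * y ^ (ab.2 : ℕ) := by
      obtain ⟨ab, hab⟩ := hbij.2 ⟨_, hconjT n hn x hx⟩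
      obtain ⟨cb, hcb⟩ := hbij.2 ⟨_, hconjT n hn y hyT⟩
      exact ⟨⟨ab, (congrArg Subtype.val hab).symm⟩, cb, (congrArg Subtype.val hcb).symm⟩
    have ha : ((ab.1 : ℕ) : ZMod p) = μ n' := by
      obtain ⟨S, hS, hS0⟩ := hprod ab.1 ab.2
      rw [← hab, ← hconjN] at hS
      rw [← hS0, hμu n' S hS]
    have hyconj : ρ (n * y * n⁻¹) - 1 = Polynomial.aeval N
        (Polynomial.X ^ j * (G n' ^ j * gy.comp (Polynomial.X ^ 1 * G n'))) := by
      rw [map_conj_sub_one, hρy, conj_aeval, hG n', ← Polynomial.aeval_comp]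
      congr 1
      rw [Polynomial.mul_comp, Polynomial.X_pow_comp, mul_pow, pow_one]
      ring
    have hc0 : (cb.1 : ℕ) = 0 := by
      obtain ⟨S, hS, hS0⟩ := hprod cb.1 cb.2
      rw [← hcb, hyconj, show Polynomial.X ^ j * (G n' ^ j * gy.comp (Polynomial.X ^ 1 * G n')) =
        Polynomial.X ^ 1 * (Polynomial.X ^ (j - 1) * (G n' ^ j * gy.comp (Polynomial.X ^ 1 * G n')))
        by rw [← mul_assoc (Polynomial.X ^ 1), ← pow_add, show 1 + (j - 1) = j by omega]] at hS
      have h2 := hreg.coeff_unique hd1 hS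
      rw [Polynomial.mul_coeff_zero, Polynomial.coeff_X_pow, if_neg (by omega), zero_mul, hS0,
        eq_comm, CharP.cast_eq_zero_iff (ZMod p) p] at h2
      exact Nat.eq_zero_of_dvd_of_lt h2 cb.1.2
    rw [hc0, pow_zero, one_mul] at hcb
    have hc : ((cb.2 : ℕ) : ZMod p) = μ n' ^ j := by
      obtain ⟨S, hS, hS0⟩ := exists_one_add_pow (Polynomial.X ^ j * gy) (by
        rw [Polynomial.mul_coeff_zero, Polynomial.coeff_X_pow, if_neg (by omega), zero_mul]) cb.2
      have h2 : ρ (y ^ (cb.2 : ℕ)) - 1 = Polynomial.aeval N (Polynomial.X ^ j * (gy * S)) := by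
        rw [map_pow, show ρ y = Polynomial.aeval N (1 + Polynomial.X ^ j * gy) by
          rw [map_add, map_one, ← hρy]; abel, ← map_pow, hS, map_add, map_one, add_sub_cancel_left,
          mul_assoc]
      rw [← hcb, hyconj] at h2
      have h3 := hreg.coeff_unique hjd h2
      rw [Polynomial.mul_coeff_zero, Polynomial.mul_coeff_zero, hS0,
        Polynomial.coeff_zero_eq_eval_zero (G n' ^ j), Polynomial.eval_pow,
        Polynomial.coeff_zero_eq_eval_zero (gy.comp _), Polynomial.eval_comp] at h3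
      simp [← Polynomial.coeff_zero_eq_eval_zero] at h3
      rw [mul_comm (gy.coeff 0)] at h3
      exact (mul_right_cancel₀ hgy h3).symm
  · intro i v hv
    obtain ⟨w, rfl⟩ := hv
    have hyA : ∀ v, (ρ y - 1) v ∈ LinearMap.range (N ^ 2) := fun v => by
      rw [hρy, map_mul, map_pow, Polynomial.aeval_X, show j = 2 + (j - 2) by omega, pow_add,
        mul_assoc]
      exact ⟨_, rfl⟩
    have h0 := hW n hn y hyT hy1 hyA ab.1 ab.2 cb.2 hab hcb w
    rw [Nat.cast_mul, ha, hc, ← pow_succ'] at h0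
    rw [← pow_one N, ← hrange 1, pow_one] at h0
    have hpow : ρ n * A ^ i = μ n' ^ i • (A ^ i * ρ n) := by
      induction i with
      | zero => simp
      | succ i ih =>
        rw [pow_succ, ← mul_assoc, ih, smul_mul_assoc, mul_assoc, hA1, mul_smul_comm, smul_smul,
          ← mul_assoc, pow_succ]
    obtain ⟨s, hs⟩ := h0
    refine ⟨μ n' ^ i • s, ?_⟩
    rw [map_smul, pow_succ, Module.End.mul_apply, hs, ← Module.End.mul_apply (f := ρ n), hpow,
      LinearMap.smul_apply, Module.End.mul_apply, map_sub, map_smul, smul_sub, smul_smul, ← pow_add,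
      show i + (j + 1) = j + 1 + i by omega]
  · intro hny
    rw [hny, mul_inv_cancel_right] at hcb
    rw [← hc, ← Nat.cast_one, ZMod.natCast_eq_natCast_iff', Nat.one_mod_eq_one.2 hp.out.ne_one,
      Nat.mod_eq_of_lt cb.2.2]
    have h4 : y ^ 1 = y ^ (cb.2 : ℕ) := by rw [pow_one]; exact hcb
    rw [pow_eq_pow_iff_modEq, hyo, Nat.ModEq, Nat.one_mod_eq_one.2 hp.out.ne_one,
      Nat.mod_eq_of_lt cb.2.2] at h4
    exact h4.symm

end CfsgLib.MaxClassEssential
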